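import Mathlib.GroupTheory.Sylow
import Mathlib.GroupTheory.Focal
import Cfsg.Prelude.Def_Transfer

set_option autoImplicit false

namespace Cfsg.Agent.Helper2

open scoped Pointwise

/-- Membership in a conjugate Sylow subgroup. -/
theorem mem_smul_sylow_iff {G : Type*} [Group G] {p : ℕ} (P : Sylow p G) (w x : G) :
    x ∈ ((w • P : Sylow p G) : Subgroup G) ↔ w⁻¹ * x * w ∈ (P : Subgroup G) := by
  rw [Sylow.coe_subgroup_smul, Subgroup.mem_pointwise_smul_iff_inv_smul_mem]
  simp [MulAut.smul_def, mul_assoc]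

/-- If `Z ≤ Z(P)` is weakly closed in the Sylow `p`-subgroup `P`, then `N_G(Z)` controls
fusion of elements of `P`. -/
theorem weaklyClosed_controls_fusion {G : Type*} [Group G] [Finite G] {p : ℕ} [Fact p.Prime]
    (P : Sylow p G) (Z : Subgroup G) (hZ : Z ≤ Subgroup.centralizer (P : Set G))
    (hW : Cfsg.IsWeaklyClosed Z P) (a u : G) (ha : a ∈ (P : Subgroup G))
    (hb : u * a * u⁻¹ ∈ (P : Subgroup G)) :
    ∃ n ∈ Subgroup.normalizer (Z : Set G), n * a * n⁻¹ = u * a * u⁻¹ := by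
  obtain ⟨hZP, hWC⟩ := hW
  set b := u * a * u⁻¹ with hbdef
  let C : Subgroup G := Subgroup.centralizer {b}
  -- Z ≤ C
  have hZC : Z ≤ C := by
    intro z hz
    rw [Subgroup.mem_centralizer_iff]
    intro y hy
    rw [Set.mem_singleton_iff] at hy
    subst hy
    exact ((Subgroup.mem_centralizer_iff.mp (hZ hz)) b hb)
  -- u Z u⁻¹ ≤ C
  have huZC : ∀ z ∈ Z, u * z * u⁻¹ ∈ C := by
    intro z hz
    rw [Subgroup.mem_centralizer_iff]
    intro y hy
    rw [Set.mem_singleton_iff] at hy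
    subst hy
    have hza : a * z = z * a := (Subgroup.mem_centralizer_iff.mp (hZ hz)) a ha
    rw [hbdef]
    calc u * a * u⁻¹ * (u * z * u⁻¹) = u * (a * z) * u⁻¹ := by group
      _ = u * (z * a) * u⁻¹ := by rw [hza]
      _ = u * z * u⁻¹ * (u * a * u⁻¹) := by group
  have hZp : IsPGroup p Z := P.isPGroup'.to_le hZP
  -- Z' := Z as subgroup of C
  have hZ'p : IsPGroup p (Z.subgroupOf C) := hZp.comap_subtype
  obtain ⟨R, hR⟩ := hZ'p.exists_le_sylow
  -- the conjugate uZu⁻¹ as a subgroup of C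
  let Zu : Subgroup G := Z.map (MulAut.conj u).toMonoidHom
  have hZup : IsPGroup p Zu := hZp.map _
  have hZu'p : IsPGroup p (Zu.subgroupOf C) := hZup.comap_subtype
  obtain ⟨S, hS⟩ := hZu'p.exists_le_sylow
  obtain ⟨c, hc⟩ := MulAction.exists_smul_eq C S R
  -- R inside G
  have hRp : IsPGroup p ((R : Subgroup C).map C.subtype) := R.isPGroup'.map _
  obtain ⟨P', hP'⟩ := hRp.exists_le_sylow
  obtain ⟨w, hw⟩ := MulAction.exists_smul_eq G P P'
  -- elements of Z lie in P'
  have h1 : ∀ z ∈ Z, z ∈ (P' : Subgroup G) := by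
    intro z hz
    apply hP'
    refine ⟨⟨z, hZC hz⟩, ?_, rfl⟩
    apply hR
    rw [Subgroup.mem_subgroupOf]
    exact hz
  have h2 : ∀ z ∈ Z, (c : G) * (u * z * u⁻¹) * (c : G)⁻¹ ∈ (P' : Subgroup G) := by
    intro z hz
    apply hP'
    have hmemS : (⟨u * z * u⁻¹, huZC z hz⟩ : C) ∈ (S : Subgroup C) := by
      apply hS
      rw [Subgroup.mem_subgroupOf]
      exact ⟨z, hz, by simp [MulAut.conj_apply]⟩
    have hmemR : c * (⟨u * z * u⁻¹, huZC z hz⟩ : C) * c⁻¹ ∈ (R : Subgroup C) := by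
      rw [← hc, mem_smul_sylow_iff]
      simpa [mul_assoc] using hmemS
    exact ⟨_, hmemR, by simp⟩
  -- w⁻¹ normalizes Z
  have h3 : Z.map (MulAut.conj w⁻¹).toMonoidHom = Z := by
    apply hWC
    rintro _ ⟨z, hz, rfl⟩
    have := h1 z hz
    rw [← hw, mem_smul_sylow_iff] at this
    simpa [MulAut.conj_apply] using this
  have h4 : Z.map (MulAut.conj (w⁻¹ * c * u)).toMonoidHom = Z := by
    apply hWC
    rintro _ ⟨z, hz, rfl⟩
    have := h2 z hz
    rw [← hw, mem_smul_sylow_iff] at this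
    simpa [MulAut.conj_apply, mul_assoc] using this
  have h5 : w⁻¹ ∈ Subgroup.normalizer (Z : Set G) :=
    Subgroup.mem_normalizer_iff_map_conj_eq.mpr h3
  have h6 : w⁻¹ * c * u ∈ Subgroup.normalizer (Z : Set G) :=
    Subgroup.mem_normalizer_iff_map_conj_eq.mpr h4
  have h7 : (c : G) * u ∈ Subgroup.normalizer (Z : Set G) := by
    have := Subgroup.mul_mem _ (Subgroup.inv_mem _ h5) h6
    simpa [mul_assoc] using this
  refine ⟨c * u, h7, ?_⟩
  have hcb : b * (c : G) = (c : G) * b :=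
    (Subgroup.mem_centralizer_iff.mp c.2) b (Set.mem_singleton b)
  calc (c : G) * u * a * ((c : G) * u)⁻¹ = (c : G) * b * (c : G)⁻¹ := by rw [hbdef]; group
    _ = b := by rw [← hcb]; group

end Cfsg.Agent.Helper2
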