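import Mathlib.GroupTheory.Sylow
import Mathlib.GroupTheory.Transfer
import Cfsg.Prelude.Def_Transfer

set_option autoImplicit false

namespace Cfsg.Agent.Helper2

/-- A normal complement to one Sylow `p`-subgroup is a complement to every Sylow `p`-subgroup. -/
theorem isComplement'_sylow_of_isComplement'_sylow {G : Type*} [Group G] [Finite G] {p : ℕ}
    [Fact p.Prime] (P₀ P : Sylow p G) (N : Subgroup G)
    (hc : N.IsComplement' (P₀ : Subgroup G)) : N.IsComplement' (P : Subgroup G) := by
  have hp : p.Prime := Fact.out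
  have h1 : Nat.card (P : Subgroup G) = Nat.card (P₀ : Subgroup G) := by
    rw [P.card_eq_multiplicity, P₀.card_eq_multiplicity]
  apply Subgroup.isComplement'_of_coprime
  · rw [h1]; exact hc.card_mul_card
  · rw [P.card_eq_multiplicity]
    apply Nat.Coprime.pow_right
    rw [← hc.index_eq_card]
    exact ((Nat.Prime.coprime_iff_not_dvd hp).mpr P₀.not_dvd_index).symm

theorem hasNormalPComplement_iff {G : Type*} [Group G] [Finite G] {p : ℕ}
    [Fact p.Prime] (P : Sylow p G) :
    Cfsg.HasNormalPComplement p G ↔ ∃ N : Subgroup G, N.Normal ∧ N.IsComplement' (P : Subgroup G) := by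
  constructor
  · rintro ⟨P₀, N, hN, hc⟩
    exact ⟨N, hN, isComplement'_sylow_of_isComplement'_sylow P₀ P N hc⟩
  · rintro ⟨N, hN, hc⟩
    exact ⟨P, N, hN, hc⟩

/-- Burnside's normal `p`-complement theorem, in the vocabulary of the statements. -/
theorem hasNormalPComplement_of_normalizer_le_centralizer {G : Type*} [Group G] [Finite G] {p : ℕ}
    [Fact p.Prime] (P : Sylow p G)
    (hP : Subgroup.normalizer (P : Set G) ≤ Subgroup.centralizer (P : Set G)) :
    Cfsg.HasNormalPComplement p G :=
  ⟨P, (MonoidHom.transferSylow P hP).ker, inferInstance,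
    MonoidHom.ker_transferSylow_isComplement' P hP⟩

end Cfsg.Agent.Helper2
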