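import Mathlib.GroupTheory.Sylow
import Mathlib.GroupTheory.Transfer
import Mathlib.GroupTheory.Focal
import Mathlib.GroupTheory.Nilpotent
import Cfsg.Prelude.Def_Transfer
import Cfsg.Agent.Lib.Helper2.PComplement
import Cfsg.Agent.Lib.Helper2.Fusion

set_option autoImplicit false

namespace Cfsg.Agent.Helper2

open scoped Pointwise

/-- Frobenius' condition: `p'`-elements of normalizers of `p`-subgroups centralize them. -/
def FrobCond (p : ℕ) (G : Type*) [Group G] : Prop :=
  ∀ X : Subgroup G, IsPGroup p X → ∀ g ∈ Subgroup.normalizer (X : Set G),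
    Nat.Coprime (orderOf g) p → g ∈ Subgroup.centralizer (X : Set G)

/-- the `p'`-part power: `g ^ (p ^ k)` has order prime to `p` for `k` the `p`-adic valuation of the order. -/
theorem coprime_orderOf_pow_ordProj {G : Type*} [Group G] [Finite G] {p : ℕ} [hp : Fact p.Prime]
    (g : G) : Nat.Coprime (orderOf (g ^ (p ^ (orderOf g).factorization p))) p := by
  have hpos : orderOf g ≠ 0 := (orderOf_pos g).ne'
  rw [orderOf_pow']
  · have h1 : Nat.gcd (orderOf g) (p ^ (orderOf g).factorization p) = p ^ (orderOf g).factorization p :=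
      Nat.gcd_eq_right (Nat.ordProj_dvd _ _)
    rw [h1]
    exact (Nat.coprime_ordCompl hp.out hpos).symm
  · exact pow_ne_zero _ hp.out.ne_zero

theorem centralizer_le_normalizer' {G : Type*} [Group G] (D : Subgroup G) :
    Subgroup.centralizer (D : Set G) ≤ Subgroup.normalizer (D : Set G) := by
  intro c hc
  rw [Subgroup.mem_normalizer_iff]
  intro d
  have hcomm : ∀ d' ∈ D, c * d' = d' * c := fun d' hd' =>
    ((Subgroup.mem_centralizer_iff.mp hc) d' hd').symm
  constructor
  · intro hd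
    rw [hcomm d hd, mul_inv_cancel_right]; exact hd
  · intro hd
    have h1 := hcomm _ hd
    have h2 : d = c * d * c⁻¹ := by
      calc d = c⁻¹ * (c * d * c⁻¹ * c) := by group
        _ = c⁻¹ * (c * (c * d * c⁻¹)) := by rw [h1]
        _ = c * d * c⁻¹ := by group
    rw [h2]; exact hd

/-- Under Frobenius' condition, `N_G(D) = C_G(D) R` for a "Sylow" `p`-subgroup `R` of `N_G(D)`. -/
theorem frob_normalizer_factor {G : Type*} [Group G] [Finite G] {p : ℕ} [hp : Fact p.Prime]
    (hF : FrobCond p G) (D : Subgroup G) (hD : IsPGroup p D) (R : Subgroup G)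
    (hRidx : ¬ p ∣ R.relIndex (Subgroup.normalizer (D : Set G))) :
    ∀ n ∈ Subgroup.normalizer (D : Set G), ∃ c ∈ Subgroup.centralizer (D : Set G), ∃ r ∈ R, n = c * r := by
  set N := Subgroup.normalizer (D : Set G) with hN
  set C' := (Subgroup.centralizer (D : Set G)).subgroupOf N with hC'
  have hC'n : C'.Normal := by
    rw [hC', ← Subgroup.normalizerMonoidHom_ker]
    infer_instance
  set R' := R.subgroupOf N with hR'
  -- N / C' is a p-group
  have hpq : IsPGroup p (N ⧸ C') := by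
    intro q
    induction q using QuotientGroup.induction_on with
    | H n =>
      refine ⟨(orderOf n).factorization p, ?_⟩
      rw [← QuotientGroup.mk_pow, QuotientGroup.eq_one_iff, hC', Subgroup.mem_subgroupOf]
      apply hF D hD
      · exact (n ^ (p ^ (orderOf n).factorization p)).2
      · have := coprime_orderOf_pow_ordProj (p := p) n
        rwa [← Subgroup.orderOf_coe] at this
  obtain ⟨j, hj⟩ := IsPGroup.iff_card.mp hpq
  have hCidx : C'.index = p ^ j := hj
  have hJ1 : (C' ⊔ R').index ∣ p ^ j := hCidx ▸ Subgroup.index_dvd_of_le le_sup_left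
  have hJ2 : (C' ⊔ R').index ∣ R'.index := Subgroup.index_dvd_of_le le_sup_right
  have hR'idx : R'.index = R.relIndex N := rfl
  have hJ3 : (C' ⊔ R').index = 1 := by
    obtain ⟨i, -, hi⟩ := (Nat.dvd_prime_pow hp.out).mp hJ1
    rcases Nat.eq_zero_or_pos i with h0 | h0
    · rw [hi, h0, pow_zero]
    · exfalso
      apply hRidx
      rw [← hR'idx]
      refine dvd_trans ?_ hJ2
      rw [hi]
      exact dvd_pow_self p h0.ne'
  have hJ : C' ⊔ R' = ⊤ := Subgroup.index_eq_one.mp hJ3
  intro n hn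
  have hmem : (⟨n, hn⟩ : N) ∈ C' ⊔ R' := by rw [hJ]; exact Subgroup.mem_top _
  rw [← SetLike.mem_coe, Subgroup.normal_mul] at hmem
  obtain ⟨c, hc, r, hr, hcr⟩ := hmem
  refine ⟨c, ?_, r, ?_, ?_⟩
  · exact Subgroup.mem_subgroupOf.mp hc
  · exact Subgroup.mem_subgroupOf.mp hr
  · have := congrArg Subtype.val hcr
    simpa using this.symm


/-- Normalizers grow in finite `p`-groups. -/
theorem exists_mem_normalizer_not_mem {G : Type*} [Group G] [Finite G] {p : ℕ} [Fact p.Prime]
    {H E : Subgroup G} (hE : IsPGroup p E) (hHE : H < E) :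
    ∃ x ∈ E, x ∈ Subgroup.normalizer (H : Set G) ∧ x ∉ H := by
  have hnil : Group.IsNilpotent E := hE.isNilpotent
  have hnc : NormalizerCondition E := Group.normalizerCondition_of_isNilpotent
  have hlt : H.subgroupOf E < ⊤ := by
    rw [lt_top_iff_ne_top, Ne, Subgroup.subgroupOf_eq_top]
    exact not_le_of_gt hHE
  have h1 := hnc _ hlt
  obtain ⟨x, hxN, hxH⟩ := SetLike.exists_of_lt h1
  refine ⟨x, x.2, ?_, ?_⟩
  · rw [Subgroup.mem_normalizer_iff]
    intro h
    constructor
    · intro hh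
      have hhE : h ∈ E := hHE.le hh
      have := (Subgroup.mem_normalizer_iff.mp hxN ⟨h, hhE⟩).mp (Subgroup.mem_subgroupOf.mpr hh)
      exact Subgroup.mem_subgroupOf.mp this
    · intro hh
      have hhE : h ∈ E := by
        have h2 : (x : G) * h * (x : G)⁻¹ ∈ E := hHE.le hh
        have h3 := E.mul_mem (E.mul_mem (E.inv_mem x.2) h2) x.2
        have h4 : (x : G)⁻¹ * ((x : G) * h * (x : G)⁻¹) * (x : G) = h := by group
        rwa [h4] at h3
      have := (Subgroup.mem_normalizer_iff.mp hxN ⟨h, hhE⟩).mpr (Subgroup.mem_subgroupOf.mpr hh)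
      exact Subgroup.mem_subgroupOf.mp this
  · intro hx
    exact hxH (Subgroup.mem_subgroupOf.mpr hx)


theorem card_lt_card_of_lt' {G : Type*} [Group G] [Finite G] {H K : Subgroup G} (h : H < K) :
    Nat.card H < Nat.card K := by
  have h1 : (H : Set G) ⊂ (K : Set G) := SetLike.coe_ssubset_coe.mpr h
  have h2 := Set.ncard_lt_ncard h1 (Set.toFinite _)
  rwa [← Nat.card_coe_set_eq, ← Nat.card_coe_set_eq] at h2

/-- Under Frobenius' condition every Sylow `p`-subgroup `Q` is conjugate to `P` by an element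
centralizing `P ⊓ Q`. -/
theorem frob_sylow_conj {G : Type*} [Group G] [Finite G] {p : ℕ} [hp : Fact p.Prime]
    (hF : FrobCond p G) (P : Sylow p G) : ∀ (k : ℕ) (Q : Sylow p G),
    Nat.card (P : Subgroup G) - Nat.card ((P : Subgroup G) ⊓ (Q : Subgroup G) : Subgroup G) = k →
    ∃ c ∈ Subgroup.centralizer ((((P : Subgroup G) ⊓ (Q : Subgroup G) : Subgroup G)) : Set G),
      c • Q = P := by
  intro k
  induction k using Nat.strong_induction_on with
  | _ k ih =>
  intro Q hk
  set D : Subgroup G := (P : Subgroup G) ⊓ (Q : Subgroup G) with hD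
  by_cases hDP : D = (P : Subgroup G)
  · have hPQ : (P : Subgroup G) ≤ Q := by rw [← hDP]; exact inf_le_right
    have hQP : Q = P := Sylow.ext (P.3 Q.2 hPQ)
    exact ⟨1, Subgroup.one_mem _, by rw [one_smul, hQP]⟩
  · have hDltP : D < (P : Subgroup G) := lt_of_le_of_ne inf_le_left hDP
    have hDltQ : D < (Q : Subgroup G) := by
      refine lt_of_le_of_ne inf_le_right ?_
      intro h
      have hQP : (Q : Subgroup G) ≤ P := by rw [← h]; exact inf_le_left
      have h2 : (P : Subgroup G) = Q := Q.3 P.2 hQP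
      apply hDP
      rw [hD, h2, inf_idem]
    obtain ⟨x, hxP, hxN, hxD⟩ := exists_mem_normalizer_not_mem P.2 hDltP
    obtain ⟨y, hyQ, hyN, hyD⟩ := exists_mem_normalizer_not_mem Q.2 hDltQ
    set N := Subgroup.normalizer (D : Set G) with hN
    have hDN : D ≤ N := Subgroup.le_normalizer
    have hDp : IsPGroup p D := P.2.to_le inf_le_left
    have hA1 : IsPGroup p (((P : Subgroup G) ⊓ N).subgroupOf N) :=
      (P.2.to_le inf_le_left).comap_subtype
    obtain ⟨R, hR⟩ := hA1.exists_le_sylow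
    have hA2 : IsPGroup p (((Q : Subgroup G) ⊓ N).subgroupOf N) :=
      (Q.2.to_le inf_le_left).comap_subtype
    obtain ⟨R₂, hR₂⟩ := hA2.exists_le_sylow
    obtain ⟨n, hn⟩ := MulAction.exists_smul_eq N R₂ R
    set RG := (R : Subgroup N).map N.subtype with hRG
    have hRGidx : ¬ p ∣ RG.relIndex N := by
      rw [Subgroup.relIndex, hRG, Subgroup.subgroupOf,
        Subgroup.comap_map_eq_self_of_injective N.subtype_injective]
      exact R.not_dvd_index
    obtain ⟨c₀, hc₀, r₀, hr₀, hncr⟩ :=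
      frob_normalizer_factor hF D hDp RG hRGidx (n⁻¹ : N) (n⁻¹ : N).2
    -- n = r₀⁻¹ * c₀⁻¹
    set c₁ := c₀⁻¹ with hc₁def
    have hc₁ : c₁ ∈ Subgroup.centralizer (D : Set G) := Subgroup.inv_mem _ hc₀
    have hnval : (n : G) = r₀⁻¹ * c₁ := by
      have h1 : ((n⁻¹ : N) : G) = c₀ * r₀ := hncr
      have h2 : (n : G)⁻¹ = c₀ * r₀ := by simpa using h1
      have h3 : (n : G) = (c₀ * r₀)⁻¹ := by rw [← h2, inv_inv]
      rw [h3, mul_inv_rev]
    -- membership in RG
    have hmemRG : ∀ z (hz : z ∈ N), (⟨z, hz⟩ : N) ∈ (R : Subgroup N) → z ∈ RG := by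
      intro z hz h
      exact ⟨⟨z, hz⟩, h, rfl⟩
    have hRGmem : ∀ z ∈ RG, ∃ hz : z ∈ N, (⟨z, hz⟩ : N) ∈ (R : Subgroup N) := by
      rintro _ ⟨z, hz, rfl⟩
      exact ⟨z.2, hz⟩
    -- c₁ conjugates Q ⊓ N into RG
    have hconj1 : ∀ z ∈ (Q : Subgroup G) ⊓ N, c₁ * z * c₁⁻¹ ∈ RG := by
      intro z hz
      have hzN : z ∈ N := hz.2
      have hzR₂ : (⟨z, hzN⟩ : N) ∈ (R₂ : Subgroup N) := hR₂ (Subgroup.mem_subgroupOf.mpr hz)
      have h1 : n * (⟨z, hzN⟩ : N) * n⁻¹ ∈ (R : Subgroup N) := by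
        rw [← hn, mem_smul_sylow_iff]
        have : n⁻¹ * (n * (⟨z, hzN⟩ : N) * n⁻¹) * n = ⟨z, hzN⟩ := by group
        rw [this]; exact hzR₂
      have h2 : (n : G) * z * (n : G)⁻¹ ∈ RG := hmemRG _ (n * (⟨z, hzN⟩ : N) * n⁻¹).2 h1
      rw [hnval] at h2
      have h3 := RG.mul_mem (RG.mul_mem hr₀ h2) (RG.inv_mem hr₀)
      have h4 : r₀ * (r₀⁻¹ * c₁ * z * (r₀⁻¹ * c₁)⁻¹) * r₀⁻¹ = c₁ * z * c₁⁻¹ := by group
      rwa [h4] at h3
    obtain ⟨S, hS⟩ := (R.isPGroup'.map N.subtype).exists_le_sylow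
    have hPNS : (P : Subgroup G) ⊓ N ≤ S := by
      intro z hz
      apply hS
      exact hmemRG z hz.2 (hR (Subgroup.mem_subgroupOf.mpr hz))
    have hDPS : D ≤ (P : Subgroup G) ⊓ (S : Subgroup G) :=
      le_inf inf_le_left ((le_inf inf_le_left hDN).trans hPNS)
    have hxPS : x ∈ (P : Subgroup G) ⊓ (S : Subgroup G) := ⟨hxP, hPNS ⟨hxP, hxN⟩⟩
    have hlt1 : D < (P : Subgroup G) ⊓ (S : Subgroup G) :=
      lt_of_le_of_ne hDPS (fun h => hxD (h ▸ hxPS))
    have hcard1 := card_lt_card_of_lt' hlt1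
    have hcardP1 : Nat.card ((P : Subgroup G) ⊓ (S : Subgroup G) : Subgroup G) ≤ Nat.card (P : Subgroup G) :=
      Subgroup.card_le_of_le inf_le_left
    obtain ⟨c₂, hc₂, hc₂S⟩ := ih _ (by omega) S rfl
    have hc₂D : c₂ ∈ Subgroup.centralizer (D : Set G) :=
      Subgroup.centralizer_le (SetLike.coe_subset_coe.mpr hDPS) hc₂
    have hc21 : c₂ * c₁ ∈ Subgroup.centralizer (D : Set G) := Subgroup.mul_mem _ hc₂D hc₁
    -- elements of D are fixed by conjugation with elements of the centralizer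
    have hfix : ∀ c ∈ Subgroup.centralizer (D : Set G), ∀ d ∈ D, c⁻¹ * d * c = d := by
      intro c hc d hd
      have := (Subgroup.mem_centralizer_iff.mp hc) d hd
      rw [mul_assoc, this, ← mul_assoc, inv_mul_cancel, one_mul]
    set Q' : Sylow p G := (c₂ * c₁) • Q with hQ'
    have hDQ' : D ≤ (P : Subgroup G) ⊓ (Q' : Subgroup G) := by
      intro d hd
      refine Subgroup.mem_inf.mpr ⟨hd.1, ?_⟩
      rw [hQ', mem_smul_sylow_iff, hfix _ hc21 d hd]
      exact hd.2
    set y' := (c₂ * c₁) * y * (c₂ * c₁)⁻¹ with hy'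
    have hy'Q' : y' ∈ (Q' : Subgroup G) := by
      rw [hQ', mem_smul_sylow_iff, hy']
      have : (c₂ * c₁)⁻¹ * (c₂ * c₁ * y * (c₂ * c₁)⁻¹) * (c₂ * c₁) = y := by group
      rw [this]; exact hyQ
    have hy'P : y' ∈ (P : Subgroup G) := by
      have h1 : c₁ * y * c₁⁻¹ ∈ (S : Subgroup G) := hS (hconj1 y ⟨hyQ, hyN⟩)
      have h2 : c₂ * (c₁ * y * c₁⁻¹) * c₂⁻¹ ∈ ((c₂ • S : Sylow p G) : Subgroup G) := by
        rw [mem_smul_sylow_iff]
        have : c₂⁻¹ * (c₂ * (c₁ * y * c₁⁻¹) * c₂⁻¹) * c₂ = c₁ * y * c₁⁻¹ := by group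
        rw [this]; exact h1
      rw [hc₂S] at h2
      have : y' = c₂ * (c₁ * y * c₁⁻¹) * c₂⁻¹ := by rw [hy']; group
      rw [this]; exact h2
    have hy'D : y' ∉ D := by
      intro h
      have h1 := hfix _ hc21 y' h
      have h2 : (c₂ * c₁)⁻¹ * y' * (c₂ * c₁) = y := by rw [hy']; group
      rw [h2] at h1
      exact hyD (h1 ▸ h)
    have hlt2 : D < (P : Subgroup G) ⊓ (Q' : Subgroup G) :=
      lt_of_le_of_ne hDQ' (fun h => hy'D (h ▸ (⟨hy'P, hy'Q'⟩ : y' ∈ (P : Subgroup G) ⊓ (Q' : Subgroup G))))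
    have hcard2 := card_lt_card_of_lt' hlt2
    have hcardP2 : Nat.card ((P : Subgroup G) ⊓ (Q' : Subgroup G) : Subgroup G) ≤ Nat.card (P : Subgroup G) :=
      Subgroup.card_le_of_le inf_le_left
    obtain ⟨c₃, hc₃, hc₃Q⟩ := ih _ (by omega) Q' rfl
    have hc₃D : c₃ ∈ Subgroup.centralizer (D : Set G) :=
      Subgroup.centralizer_le (SetLike.coe_subset_coe.mpr hDQ') hc₃
    refine ⟨c₃ * (c₂ * c₁), Subgroup.mul_mem _ hc₃D hc21, ?_⟩
    rw [mul_smul, ← hQ', hc₃Q]


/-- Under Frobenius' condition a Sylow `p`-subgroup controls its own fusion. -/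
theorem frob_controls_fusion {G : Type*} [Group G] [Finite G] {p : ℕ} [hp : Fact p.Prime]
    (hF : FrobCond p G) (P : Sylow p G) (x g : G) (hx : x ∈ (P : Subgroup G))
    (hgx : g * x * g⁻¹ ∈ (P : Subgroup G)) : ∃ u ∈ (P : Subgroup G), u * x * u⁻¹ = g * x * g⁻¹ := by
  set Q : Sylow p G := g⁻¹ • P with hQ
  have hxQ : x ∈ (Q : Subgroup G) := by
    rw [hQ, mem_smul_sylow_iff, inv_inv]; exact hgx
  obtain ⟨c, hc, hcQ⟩ := frob_sylow_conj hF P _ Q rfl
  have hcx : x * c = c * x :=
    (Subgroup.mem_centralizer_iff.mp hc) x (Subgroup.mem_inf.mpr ⟨hx, hxQ⟩)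
  -- c * g⁻¹ normalizes P
  have hnP : (c * g⁻¹) • P = P := by rw [mul_smul, ← hQ, hcQ]
  have hn : c * g⁻¹ ∈ Subgroup.normalizer ((P : Subgroup G) : Set G) :=
    Sylow.smul_eq_iff_mem_normalizer.mp hnP
  have hPidx : ¬ p ∣ (P : Subgroup G).relIndex (Subgroup.normalizer ((P : Subgroup G) : Set G)) :=
    fun h => P.not_dvd_index (h.trans (Subgroup.relIndex_dvd_index_of_le Subgroup.le_normalizer))
  obtain ⟨z, hz, u, hu, hzu⟩ :=
    frob_normalizer_factor hF (P : Subgroup G) P.2 (P : Subgroup G) hPidx _ hn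
  -- g = (z * u)⁻¹ * c
  have hg : g = u⁻¹ * z⁻¹ * c := by
    have : g⁻¹ = c⁻¹ * (z * u) := by rw [← hzu]; group
    calc g = (g⁻¹)⁻¹ := (inv_inv g).symm
      _ = (c⁻¹ * (z * u))⁻¹ := by rw [this]
      _ = u⁻¹ * z⁻¹ * c := by group
  have hzx : x * z = z * x := (Subgroup.mem_centralizer_iff.mp hz) x hx
  refine ⟨u⁻¹, Subgroup.inv_mem _ hu, ?_⟩
  rw [hg]
  have h1 : c * x * c⁻¹ = x := by rw [← hcx]; group
  have h2 : z⁻¹ * x * z = x := by rw [mul_assoc, hzx]; group
  calc u⁻¹ * x * u⁻¹⁻¹ = u⁻¹ * (z⁻¹ * x * z) * u := by rw [h2, inv_inv]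
    _ = u⁻¹ * (z⁻¹ * (c * x * c⁻¹) * z) * u := by rw [h1]
    _ = u⁻¹ * z⁻¹ * c * x * (u⁻¹ * z⁻¹ * c)⁻¹ := by group


open scoped commutatorElement IsMulCommutative in
/-- If a nontrivial Sylow `p`-subgroup controls its own fusion, then `G` has a normal subgroup
of index `p`. -/
theorem exists_normal_index_p_of_controls_fusion {G : Type*} [Group G] [Finite G] {p : ℕ}
    [hp : Fact p.Prime] (P : Sylow p G) (hP : (P : Subgroup G) ≠ ⊥)
    (hfus : ∀ x g : G, x ∈ (P : Subgroup G) → g * x * g⁻¹ ∈ (P : Subgroup G) →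
      ∃ u ∈ (P : Subgroup G), u * x * u⁻¹ = g * x * g⁻¹) :
    ∃ M : Subgroup G, M.Normal ∧ M.index = p := by
  have hfle : (P : Subgroup G).focalSubgroup ≤ ⁅(P : Subgroup G), (P : Subgroup G)⁆ := by
    rw [Subgroup.focalSubgroup_def, Subgroup.closure_le]
    rintro g ⟨hgP, x, hxP, u, rfl⟩
    have hx' : x⁻¹ ∈ (P : Subgroup G) := Subgroup.inv_mem _ hxP
    have hconj : u * x⁻¹ * u⁻¹ ∈ (P : Subgroup G) := by
      have : u * x⁻¹ * u⁻¹ = x⁻¹ * ⁅x, u⁆ := by
        rw [commutatorElement_def]; group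
      rw [this]
      exact Subgroup.mul_mem _ hx' hgP
    obtain ⟨z, hzP, hz⟩ := hfus x⁻¹ u hx' hconj
    have : ⁅x, u⁆ = ⁅x, z⁆ := by
      rw [commutatorElement_def, commutatorElement_def, mul_assoc (x * u), mul_assoc x u,
        ← mul_assoc u, ← hz]
      group
    rw [SetLike.mem_coe, this]
    exact Subgroup.commutator_mem_commutator hxP hzP
  have hnil : Group.IsNilpotent (P : Subgroup G) := P.isPGroup'.isNilpotent
  have hnt : Nontrivial (P : Subgroup G) := (Subgroup.nontrivial_iff_ne_bot _).mpr hP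
  have hlt : commutator (P : Subgroup G) < ⊤ :=
    Group.IsSolvable.commutator_lt_top_of_nontrivial (P : Subgroup G)
  have hlt' : ⁅(P : Subgroup G), (P : Subgroup G)⁆ < (P : Subgroup G) := by
    rw [← Subgroup.map_subtype_commutator]
    conv_rhs => rw [← (P : Subgroup G).range_subtype, MonoidHom.range_eq_map]
    exact Subgroup.map_subtype_lt_map_subtype.mpr hlt
  have hfoclt : (P : Subgroup G).focalSubgroup < (P : Subgroup G) := lt_of_le_of_lt hfle hlt'
  have hne : (P : Subgroup G).focalSubgroupOf ≠ ⊤ := by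
    rw [Subgroup.focalSubgroupOf_def, Ne, Subgroup.subgroupOf_eq_top]
    exact not_le_of_gt hfoclt
  have hpA : IsPGroup p ((P : Subgroup G) ⧸ (P : Subgroup G).focalSubgroupOf) :=
    P.2.to_quotient _
  obtain ⟨k, hk⟩ := IsPGroup.iff_card.mp hpA
  have hk0 : k ≠ 0 := by
    intro h0
    rw [h0, pow_zero] at hk
    apply hne
    exact Subgroup.index_eq_one.mp hk
  obtain ⟨B, hB⟩ := Sylow.exists_subgroup_card_pow_prime (G := (P : Subgroup G) ⧸ (P : Subgroup G).focalSubgroupOf)
    p (n := k - 1) (by rw [hk]; exact pow_dvd_pow p (Nat.sub_le k 1))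
  have hBidx : B.index = p := by
    have h1 := B.card_mul_index
    rw [hB, hk] at h1
    have h2 : p ^ k = p ^ (k - 1) * p := by
      rw [← pow_succ]; congr 1; omega
    rw [h2] at h1
    exact Nat.eq_of_mul_eq_mul_left (pow_pos hp.out.pos _) h1
  have hBn : B.Normal := inferInstance
  refine ⟨B.comap (P : Subgroup G).transferFocal, hBn.comap _, ?_⟩
  rw [Subgroup.index_comap_of_surjective _ (Subgroup.transferFocal_surjective P), hBidx]


/-- A normal subgroup of order prime to `p` and `p`-power index is a normal `p`-complement. -/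
theorem isComplement'_of_card_coprime_of_index_pow {G : Type*} [Group G] [Finite G] {p : ℕ}
    [hp : Fact p.Prime] (N : Subgroup G) (h1 : Nat.Coprime (Nat.card N) p) (k : ℕ)
    (h2 : N.index = p ^ k) (P : Sylow p G) : N.IsComplement' (P : Subgroup G) := by
  have hG : Nat.card G = Nat.card N * p ^ k := by rw [← h2, N.card_mul_index]
  have hNpos : Nat.card N ≠ 0 := Nat.card_pos.ne'
  have hfac : (Nat.card G).factorization p = k := by
    rw [hG, Nat.factorization_mul hNpos (pow_ne_zero k hp.out.ne_zero), Nat.factorization_pow]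
    have h0 : (Nat.card N).factorization p = 0 :=
      Nat.factorization_eq_zero_of_not_dvd (fun h => by
        have := Nat.Coprime.eq_one_of_dvd h1.symm h
        exact hp.out.one_lt.ne' this)
    simp [h0, hp.out.factorization_self]
  have hcardP : Nat.card (P : Subgroup G) = p ^ k := by rw [P.card_eq_multiplicity, hfac]
  apply Subgroup.isComplement'_of_coprime
  · rw [hcardP, hG]
  · rw [hcardP]; exact Nat.Coprime.pow_right k h1

theorem hasNormalPComplement_of_card_coprime_of_index_pow {G : Type*} [Group G] [Finite G] {p : ℕ}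
    [hp : Fact p.Prime] (N : Subgroup G) (hN : N.Normal) (h1 : Nat.Coprime (Nat.card N) p) (k : ℕ)
    (h2 : N.index = p ^ k) : Cfsg.HasNormalPComplement p G :=
  ⟨default, N, hN, isComplement'_of_card_coprime_of_index_pow N h1 k h2 default⟩

/-- Membership in a normal `p`-complement. -/
theorem mem_normalPComplement_iff {G : Type*} [Group G] [Finite G] {p : ℕ} [Fact p.Prime]
    (P : Sylow p G) (N : Subgroup G) [N.Normal] (hN : N.IsComplement' (P : Subgroup G)) (x : G) :
    x ∈ N ↔ Nat.Coprime (orderOf x) p := by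
  have hp : p.Prime := Fact.out
  constructor
  · intro hx
    have h1 : (P : Subgroup G).index = Nat.card N := hN.index_eq_card
    have h2 : ¬ p ∣ Nat.card N := by
      rw [← h1]; exact P.not_dvd_index
    have h3 : orderOf x ∣ Nat.card N := by
      have : orderOf (⟨x, hx⟩ : N) ∣ Nat.card N := orderOf_dvd_natCard _
      rwa [← Subgroup.orderOf_coe] at this
    have h4 : Nat.Coprime (Nat.card N) p := ((Nat.Prime.coprime_iff_not_dvd hp).mpr h2).symm
    exact Nat.Coprime.coprime_dvd_left h3 h4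
  · intro hx
    have h1 : N.index = Nat.card (P : Subgroup G) := hN.symm.index_eq_card
    obtain ⟨k, hk⟩ := (IsPGroup.iff_card.mp P.isPGroup')
    have h2 : Nat.card (G ⧸ N) = p ^ k := by
      rw [← hk, ← h1]; rfl
    have h3 : orderOf (QuotientGroup.mk' N x) ∣ p ^ k := by
      rw [← h2]; exact orderOf_dvd_natCard _
    have h4 : orderOf (QuotientGroup.mk' N x) ∣ orderOf x := orderOf_map_dvd _ x
    have h5 : Nat.Coprime (orderOf x) (p ^ k) := Nat.Coprime.pow_right k hx
    have h6 : orderOf (QuotientGroup.mk' N x) = 1 := Nat.eq_one_of_dvd_coprimes h5 h4 h3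
    rw [orderOf_eq_one_iff] at h6
    exact (QuotientGroup.eq_one_iff x).mp h6

/-- Frobenius' condition passes to subgroups. -/
theorem FrobCond.subgroup {G : Type*} [Group G] {p : ℕ} (hF : FrobCond p G) (M : Subgroup G) :
    FrobCond p M := by
  intro X hX g hg hgo
  have hX' : IsPGroup p (X.map M.subtype) := hX.map _
  have hg' : (g : G) ∈ Subgroup.normalizer ((X.map M.subtype : Subgroup G) : Set G) :=
    Subgroup.le_normalizer_map M.subtype ⟨g, hg, rfl⟩
  have hgo' : Nat.Coprime (orderOf (g : G)) p := by rwa [Subgroup.orderOf_coe]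
  have hc := hF _ hX' _ hg' hgo'
  rw [Subgroup.mem_centralizer_iff] at hc ⊢
  intro h hh
  apply Subtype.ext
  exact hc (h : G) ⟨h, hh, rfl⟩


theorem orderOf_conj' {G : Type*} [Group G] (g x : G) : orderOf (g * x * g⁻¹) = orderOf x := by
  have := orderOf_injective (MulAut.conj g).toMonoidHom (MulAut.conj g).injective x
  simpa [MulAut.conj_apply] using this

/-- A normal `p`-complement of a normal subgroup of `p`-power index is a normal `p`-complement
of the whole group. -/
theorem hasNormalPComplement_of_normal_index_pow {G : Type*} [Group G] [Finite G] {p : ℕ}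
    [hp : Fact p.Prime] (M : Subgroup G) (hMn : M.Normal) (j : ℕ) (hMidx : M.index = p ^ j)
    (hM : Cfsg.HasNormalPComplement p M) : Cfsg.HasNormalPComplement p G := by
  obtain ⟨PM, K, hKn, hKc⟩ := hM
  set K' := K.map M.subtype with hK'
  have hK'n : K'.Normal := by
    constructor
    intro k hk g
    obtain ⟨k0, hk0, rfl⟩ := hk
    have hmem : g * (k0 : G) * g⁻¹ ∈ M := hMn.conj_mem _ k0.2 g
    have h1 : Nat.Coprime (orderOf k0) p := (mem_normalPComplement_iff PM K hKc k0).mp hk0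
    have h2 : (⟨g * (k0 : G) * g⁻¹, hmem⟩ : M) ∈ K := by
      rw [mem_normalPComplement_iff PM K hKc]
      rw [← Subgroup.orderOf_coe] at h1 ⊢
      rw [Subgroup.coe_mk, orderOf_conj']
      exact h1
    exact ⟨⟨_, hmem⟩, h2, rfl⟩
  obtain ⟨a, ha⟩ := IsPGroup.iff_card.mp PM.isPGroup'
  have hcardK' : Nat.card K' = Nat.card K := Subgroup.card_subtype M K
  have hKcop : Nat.Coprime (Nat.card K) p := by
    rw [← hKc.index_eq_card]
    exact ((Nat.Prime.coprime_iff_not_dvd hp.out).mpr PM.not_dvd_index).symm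
  have hKidx : K.index = p ^ a := by rw [hKc.symm.index_eq_card, ha]
  have hK'idx : K'.index = p ^ (a + j) := by
    rw [hK', Subgroup.index_map_subtype, hKidx, hMidx, pow_add]
  exact hasNormalPComplement_of_card_coprime_of_index_pow K' hK'n (hcardK' ▸ hKcop) _ hK'idx

universe u

/-- **Frobenius' normal `p`-complement theorem** (the hard direction). -/
theorem frobenius_aux (p : ℕ) [hp : Fact p.Prime] : ∀ (n : ℕ) (G : Type u) [Group G] [Finite G],
    Nat.card G = n → FrobCond p G → Cfsg.HasNormalPComplement p G := by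
  intro n
  induction n using Nat.strong_induction_on with
  | _ n ih =>
  intro G _ _ hn hF
  let P : Sylow p G := default
  by_cases hP : (P : Subgroup G) = ⊥
  · apply hasNormalPComplement_of_card_coprime_of_index_pow ⊤ inferInstance _ 0 (by simp)
    rw [Nat.coprime_comm, Nat.Prime.coprime_iff_not_dvd hp.out]
    intro hdvd
    rw [Subgroup.card_top] at hdvd
    exact P.ne_bot_of_dvd_card hdvd hP
  · obtain ⟨M, hMn, hMidx⟩ := exists_normal_index_p_of_controls_fusion P hP
      (fun x g hx hgx => frob_controls_fusion hF P x g hx hgx)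
    have hMcard : Nat.card M < n := by
      have h1 := M.card_mul_index
      rw [hMidx, hn] at h1
      have hp2 := hp.out.two_le
      have hMpos : 0 < Nat.card M := Nat.card_pos
      nlinarith
    have hM := ih _ hMcard M rfl (hF.subgroup M)
    exact hasNormalPComplement_of_normal_index_pow M hMn 1 (by rw [hMidx, pow_one]) hM

theorem frobenius {G : Type u} [Group G] [Finite G] (p : ℕ) [Fact p.Prime] (hF : FrobCond p G) :
    Cfsg.HasNormalPComplement p G :=
  frobenius_aux p _ G rfl hF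


/-- Subgroups of groups with a normal `p`-complement have a normal `p`-complement. -/
theorem hasNormalPComplement_subgroup {G : Type*} [Group G] [Finite G] {p : ℕ} [hp : Fact p.Prime]
    (h : Cfsg.HasNormalPComplement p G) (H : Subgroup G) : Cfsg.HasNormalPComplement p H := by
  obtain ⟨P, K, hKn, hKc⟩ := h
  obtain ⟨a, ha⟩ := IsPGroup.iff_card.mp P.isPGroup'
  have hKcop : Nat.Coprime (Nat.card K) p := by
    rw [← hKc.index_eq_card]
    exact ((Nat.Prime.coprime_iff_not_dvd hp.out).mpr P.not_dvd_index).symm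
  have hKidx : K.index = p ^ a := by rw [hKc.symm.index_eq_card, ha]
  have h1 : (K.subgroupOf H).index ∣ p ^ a := by
    rw [← hKidx]
    exact Subgroup.relIndex_dvd_index_of_normal K H
  obtain ⟨b, -, hb⟩ := (Nat.dvd_prime_pow hp.out).mp h1
  have h2 : Nat.card (K.subgroupOf H) ∣ Nat.card K := by
    have e : Nat.card (K.subgroupOf H) = Nat.card ((K.subgroupOf H).map H.subtype) :=
      (Subgroup.card_subtype H _).symm
    rw [e, Subgroup.subgroupOf_map_subtype]
    exact Subgroup.card_dvd_of_le inf_le_left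
  exact hasNormalPComplement_of_card_coprime_of_index_pow (K.subgroupOf H)
    (hKn.subgroupOf H) (Nat.Coprime.coprime_dvd_left h2 hKcop) b hb

/-- Frobenius' condition from normal `p`-complements in `p`-local subgroups. -/
theorem frobCond_of_local {G : Type*} [Group G] [Finite G] {p : ℕ} [hp : Fact p.Prime]
    (h : ∀ Q : Subgroup G, IsPGroup p Q → Q ≠ ⊥ →
      Cfsg.HasNormalPComplement p (Subgroup.normalizer (Q : Set G))) : FrobCond p G := by
  intro X hX g hg hgo
  by_cases hXb : X = ⊥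
  · rw [Subgroup.mem_centralizer_iff]
    intro x hx
    rw [hXb] at hx
    have : x = 1 := Subgroup.mem_bot.mp hx
    rw [this]; simp
  · have hloc := h X hX hXb
    set N := Subgroup.normalizer (X : Set G) with hN
    obtain ⟨PX, K, hKn, hKc⟩ := hloc
    have hgK : (⟨g, hg⟩ : N) ∈ K := by
      rw [mem_normalPComplement_iff PX K hKc]
      rw [← Subgroup.orderOf_coe]
      exact hgo
    have hKcop : Nat.Coprime (Nat.card K) p := by
      rw [← hKc.index_eq_card]
      exact ((Nat.Prime.coprime_iff_not_dvd hp.out).mpr PX.not_dvd_index).symm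
    have hX'p : IsPGroup p (X.subgroupOf N) := hX.comap_subtype
    obtain ⟨a, ha⟩ := IsPGroup.iff_card.mp hX'p
    have hdisj : K ⊓ X.subgroupOf N = ⊥ := by
      apply disjoint_iff.mp
      apply Subgroup.disjoint_of_coprime_natCard
      rw [ha]
      exact Nat.Coprime.pow_right a hKcop
    have hX'n : (X.subgroupOf N).Normal := Subgroup.normal_in_normalizer
    rw [Subgroup.mem_centralizer_iff]
    intro x hx
    have hxN : x ∈ N := Subgroup.le_normalizer hx
    have hxX' : (⟨x, hxN⟩ : N) ∈ X.subgroupOf N := Subgroup.mem_subgroupOf.mpr hx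
    set g' : N := ⟨g, hg⟩ with hg'
    set x' : N := ⟨x, hxN⟩ with hx'
    have h1 : g' * x' * g'⁻¹ * x'⁻¹ ∈ K := by
      have : g' * x' * g'⁻¹ * x'⁻¹ = g' * (x' * g'⁻¹ * x'⁻¹) := by group
      rw [this]
      exact K.mul_mem hgK (hKn.conj_mem _ (K.inv_mem hgK) x')
    have h2 : g' * x' * g'⁻¹ * x'⁻¹ ∈ X.subgroupOf N :=
      Subgroup.mul_mem _ (hX'n.conj_mem _ hxX' g') (Subgroup.inv_mem _ hxX')
    have h3 : g' * x' * g'⁻¹ * x'⁻¹ ∈ K ⊓ X.subgroupOf N := Subgroup.mem_inf.mpr ⟨h1, h2⟩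
    rw [hdisj, Subgroup.mem_bot] at h3
    have h4 : g' * x' = x' * g' := by
      calc g' * x' = (g' * x' * g'⁻¹ * x'⁻¹) * (x' * g') := by group
        _ = x' * g' := by rw [h3, one_mul]
    have h5 := congrArg Subtype.val h4
    simpa using h5.symm

/-- Frobenius' condition from the version over subgroups of a fixed Sylow subgroup. -/
theorem frobCond_of_sylow {G : Type*} [Group G] [Finite G] {p : ℕ} [hp : Fact p.Prime]
    (P : Sylow p G)
    (h : ∀ Q : Subgroup G, Q ≤ (P : Subgroup G) → ∀ g ∈ Subgroup.normalizer (Q : Set G),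
      Nat.Coprime (orderOf g) p → g ∈ Subgroup.centralizer (Q : Set G)) : FrobCond p G := by
  intro X hX g hg hgo
  obtain ⟨P', hP'⟩ := hX.exists_le_sylow
  obtain ⟨w, hw⟩ := MulAction.exists_smul_eq G P P'
  set f : G →* G := (MulAut.conj w⁻¹).toMonoidHom with hf
  have hfx : ∀ x, f x = w⁻¹ * x * w := by
    intro x; simp [hf]
  have hXw : X.map f ≤ (P : Subgroup G) := by
    rintro _ ⟨x, hx, rfl⟩
    have := hP' hx
    rw [← hw, mem_smul_sylow_iff] at this
    rw [hfx]; exact this
  have hg' : f g ∈ Subgroup.normalizer ((X.map f : Subgroup G) : Set G) :=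
    Subgroup.le_normalizer_map f ⟨g, hg, rfl⟩
  have hgo' : Nat.Coprime (orderOf (f g)) p := by
    rw [hfx]
    have := orderOf_conj' w⁻¹ g
    rw [inv_inv] at this
    rw [this]; exact hgo
  have hc := h _ hXw _ hg' hgo'
  rw [Subgroup.mem_centralizer_iff] at hc ⊢
  intro x hx
  have h1 := hc (f x) ⟨x, hx, rfl⟩
  rw [← map_mul, ← map_mul] at h1
  exact (MulAut.conj w⁻¹).injective h1

end Cfsg.Agent.Helper2
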