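import Mathlib

set_option autoImplicit false
open scoped commutatorElement

/-!
# Frattini quotient of a finite `p`-group (helper2)

`coatom_props'` is copied from helper-landed `Cfsg/Agent/S4208.lean` (to avoid importing a statement chain).
-/

namespace Cfsg.Agent.Helper2

theorem mem_frattini_iff' {P : Type*} [Group P] (x : P) :
    x ∈ frattini P ↔ ∀ M : Subgroup P, IsCoatom M → x ∈ M := by
  simp [frattini, Order.radical, Subgroup.mem_iInf]

theorem coatom_props' {P : Type*} [Group P] [Finite P] {p : ℕ} [Fact p.Prime] (hP : IsPGroup p P)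
    (M : Subgroup P) (hM : IsCoatom M) : (∀ x y : P, ⁅x, y⁆ ∈ M) ∧ (∀ x : P, x ^ p ∈ M) := by
  haveI : Group.IsNilpotent P := hP.isNilpotent
  haveI : M.Normal := Subgroup.NormalizerCondition.normal_of_coatom M
    Group.normalizerCondition_of_isNilpotent hM
  -- every subgroup of the quotient is trivial or everything
  have hsub : ∀ S : Subgroup (P ⧸ M), S = ⊥ ∨ S = ⊤ := by
    intro S
    have hle : M ≤ S.comap (QuotientGroup.mk' M) := by
      have := Subgroup.ker_le_comap (QuotientGroup.mk' M) S
      rwa [QuotientGroup.ker_mk'] at this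
    rcases hM.le_iff.mp hle with h | h
    · right
      apply Subgroup.comap_injective (QuotientGroup.mk'_surjective M)
      rw [h, Subgroup.comap_top]
    · left
      apply Subgroup.comap_injective (QuotientGroup.mk'_surjective M)
      rw [h, MonoidHom.comap_bot, QuotientGroup.ker_mk']
  have hPQ : IsPGroup p (P ⧸ M) := hP.to_quotient M
  have hnt : Nat.card (P ⧸ M) ≠ 1 := by
    intro h1
    have : M.index = 1 := h1
    exact hM.1 (Subgroup.index_eq_one.mp this)
  have hdvd : p ∣ Nat.card (P ⧸ M) := hPQ.card_eq_or_dvd.resolve_left hnt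
  obtain ⟨h, hh⟩ := exists_prime_orderOf_dvd_card' p hdvd
  have hz : Subgroup.zpowers h = ⊤ := by
    rcases hsub (Subgroup.zpowers h) with h0 | h0
    · exfalso
      rw [Subgroup.zpowers_eq_bot] at h0
      rw [h0, orderOf_one] at hh
      exact (Fact.out : p.Prime).one_lt.ne hh
    · exact h0
  have hmem : ∀ q : P ⧸ M, ∃ a : ℤ, h ^ a = q := by
    intro q
    have : q ∈ Subgroup.zpowers h := hz ▸ Subgroup.mem_top q
    exact Subgroup.mem_zpowers_iff.mp this
  have hhp : h ^ p = 1 := hh ▸ pow_orderOf_eq_one h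
  constructor
  · intro x y
    rw [← QuotientGroup.eq_one_iff, commutatorElement_def]
    obtain ⟨a, ha⟩ := hmem (x : P ⧸ M)
    obtain ⟨b, hb⟩ := hmem (y : P ⧸ M)
    simp only [QuotientGroup.mk_mul, QuotientGroup.mk_inv, ← ha, ← hb]
    rw [← zpow_add, ← zpow_neg, ← zpow_neg, ← zpow_add, ← zpow_add]
    simp
  · intro x
    rw [← QuotientGroup.eq_one_iff]
    obtain ⟨a, ha⟩ := hmem (x : P ⧸ M)
    rw [QuotientGroup.mk_pow, ← ha, ← zpow_natCast, ← zpow_mul, mul_comm, zpow_mul, zpow_natCast,
      hhp, one_zpow]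

/-- `p`-th powers lie in the Frattini subgroup of a finite `p`-group. -/
theorem pow_mem_frattini {P : Type*} [Group P] [Finite P] {p : ℕ} [Fact p.Prime] (hP : IsPGroup p P)
    (x : P) : x ^ p ∈ frattini P :=
  (mem_frattini_iff' _).mpr fun M hM => (coatom_props' hP M hM).2 x

/-- commutators lie in the Frattini subgroup of a finite `p`-group. -/
theorem commutatorElement_mem_frattini {P : Type*} [Group P] [Finite P] {p : ℕ} [Fact p.Prime]
    (hP : IsPGroup p P) (x y : P) : ⁅x, y⁆ ∈ frattini P :=
  (mem_frattini_iff' _).mpr fun M hM => (coatom_props' hP M hM).1 x y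

theorem commutator_le_frattini {P : Type*} [Group P] [Finite P] {p : ℕ} [Fact p.Prime]
    (hP : IsPGroup p P) : commutator P ≤ frattini P := by
  rw [commutator_def, Subgroup.commutator_le]
  intro x _ y _
  exact commutatorElement_mem_frattini hP x y

end Cfsg.Agent.Helper2
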