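import Mathlib
import Cfsg.Prelude.Def_Transfer

set_option autoImplicit false
open scoped commutatorElement

/-!
# `O^p(G)` (helper2)

The first three lemmas are copied from helper34's landed `Cfsg/Agent/S2014.lean` (to avoid importing a statement file).
-/

namespace Cfsg.Agent.Helper2

variable {N : Type*} [Group N]

theorem pResidual_normal (p : ℕ) : (Cfsg.pResidual p N).Normal := by
  constructor
  intro k hk n
  have hmap : (Cfsg.pResidual p N).map (MulAut.conj n).toMonoidHom ≤ Cfsg.pResidual p N := by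
    unfold Cfsg.pResidual
    rw [MonoidHom.map_closure, Subgroup.closure_le]
    rintro _ ⟨g, hg, rfl⟩
    apply Subgroup.subset_closure
    have hg' : Nat.Coprime (orderOf g) p := hg
    show Nat.Coprime (orderOf ((MulAut.conj n) g)) p
    rwa [MulEquiv.orderOf_eq]
  have := hmap (Subgroup.mem_map_of_mem _ hk)
  simpa [MulAut.conj_apply] using this

theorem quotient_pResidual_isPGroup [Finite N] (p : ℕ) [hp : Fact p.Prime]
    [(Cfsg.pResidual p N).Normal] : IsPGroup p (N ⧸ Cfsg.pResidual p N) := by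
  intro x
  induction x using QuotientGroup.induction_on with
  | H n =>
    obtain ⟨a, m, hm, hnm⟩ : ∃ a m : ℕ, ¬ p ∣ m ∧ orderOf n = p ^ a * m :=
      Nat.exists_eq_pow_mul_and_not_dvd (orderOf_pos n).ne' p hp.out.ne_one
    refine ⟨a, ?_⟩
    rw [← QuotientGroup.mk_pow, QuotientGroup.eq_one_iff]
    apply Subgroup.subset_closure
    show Nat.Coprime (orderOf (n ^ p ^ a)) p
    have : orderOf (n ^ p ^ a) = m := by
      rw [orderOf_pow' n (pow_ne_zero a hp.out.ne_zero), hnm, Nat.gcd_eq_right (dvd_mul_right _ _),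
        Nat.mul_div_cancel_left _ (pow_pos hp.out.pos a)]
    rw [this]
    exact ((Nat.Prime.coprime_iff_not_dvd hp.out).mpr hm).symm

theorem sup_pResidual_eq_top [Finite N] (p : ℕ) [hp : Fact p.Prime] (S : Subgroup N)
    (hS : ¬ p ∣ S.index) : S ⊔ Cfsg.pResidual p N = ⊤ := by
  have := pResidual_normal (N := N) p
  rw [← Subgroup.index_eq_one]
  have h1 : (S ⊔ Cfsg.pResidual p N).index ∣ S.index := Subgroup.index_dvd_of_le le_sup_left
  have h2 : (S ⊔ Cfsg.pResidual p N).index ∣ (Cfsg.pResidual p N).index :=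
    Subgroup.index_dvd_of_le le_sup_right
  obtain ⟨k, hk⟩ := (quotient_pResidual_isPGroup (N := N) p).exists_card_eq
  rw [Subgroup.index_eq_card (Cfsg.pResidual p N), hk] at h2
  obtain ⟨j, -, hj⟩ := (Nat.dvd_prime_pow hp.out).mp h2
  rcases j with _ | j
  · simpa using hj
  · exfalso
    apply hS
    rw [hj] at h1
    exact dvd_trans (dvd_pow_self p (Nat.succ_ne_zero j)) h1

/-- `O^p(G)` lies in the kernel of any homomorphism to a `p`-group. -/
theorem pResidual_le_ker_of_isPGroup {Q : Type*} [Group Q] (p : ℕ) [hp : Fact p.Prime]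
    (φ : N →* Q) (hQ : IsPGroup p Q) : Cfsg.pResidual p N ≤ φ.ker := by
  unfold Cfsg.pResidual
  rw [Subgroup.closure_le]
  intro g hg
  have hg' : Nat.Coprime (orderOf g) p := hg
  rw [SetLike.mem_coe, MonoidHom.mem_ker]
  obtain ⟨k, hk⟩ := hQ (φ g)
  have h1 : orderOf (φ g) ∣ orderOf g := orderOf_map_dvd φ g
  have h2 : orderOf (φ g) ∣ p ^ k := orderOf_dvd_of_pow_eq_one hk
  have h3 : Nat.Coprime (orderOf (φ g)) (p ^ k) :=
    Nat.Coprime.pow_right k (Nat.Coprime.coprime_dvd_left h1 hg')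
  have h4 : orderOf (φ g) = 1 := Nat.Coprime.eq_one_of_dvd h3 h2
  exact orderOf_eq_one_iff.mp h4

/-- every element is a product of an element of `S` and one of `O^p(G)`, if `p ∤ |G : S|`. -/
theorem exists_mul_pResidual [Finite N] (p : ℕ) [hp : Fact p.Prime] (S : Subgroup N)
    (hS : ¬ p ∣ S.index) (g : N) : ∃ s ∈ S, ∃ r ∈ Cfsg.pResidual p N, g = s * r := by
  have := pResidual_normal (N := N) p
  have h : g ∈ S ⊔ Cfsg.pResidual p N := by rw [sup_pResidual_eq_top p S hS]; trivial
  rw [← SetLike.mem_coe, Subgroup.mul_normal] at h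
  obtain ⟨s, hs, r, hr, rfl⟩ := h
  exact ⟨s, hs, r, hr, rfl⟩

/-- if a Sylow `p`-subgroup is abelian then `G' ≤ O^p(G)`. -/
theorem commutator_le_pResidual_of_comm [Finite N] (p : ℕ) [hp : Fact p.Prime] (S : Subgroup N)
    (hS : ¬ p ∣ S.index) (hc : ∀ a ∈ S, ∀ b ∈ S, a * b = b * a) :
    commutator N ≤ Cfsg.pResidual p N := by
  have := pResidual_normal (N := N) p
  rw [commutator_def, Subgroup.commutator_le]
  intro x _ y _
  obtain ⟨s, hs, r, hr, rfl⟩ := exists_mul_pResidual p S hS x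
  obtain ⟨s', hs', r', hr', rfl⟩ := exists_mul_pResidual p S hS y
  rw [← QuotientGroup.eq_one_iff]
  have h1 : ((r : N) : N ⧸ Cfsg.pResidual p N) = 1 := (QuotientGroup.eq_one_iff r).mpr hr
  have h2 : ((r' : N) : N ⧸ Cfsg.pResidual p N) = 1 := (QuotientGroup.eq_one_iff r').mpr hr'
  have h3 : ((s * s' : N) : N ⧸ Cfsg.pResidual p N) = ((s' * s : N) : N ⧸ Cfsg.pResidual p N) := by
    rw [hc s hs s' hs']
  rw [commutatorElement_def]
  simp only [QuotientGroup.mk_mul, QuotientGroup.mk_inv, h1, h2, mul_one] at h3 ⊢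
  rw [h3]; group

end Cfsg.Agent.Helper2
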