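import Mathlib

set_option autoImplicit false

/-!
# Cyclic Sylow subgroups (helper2)
-/

namespace Cfsg.Agent.Helper2

theorem pow_conj_of_conj_eq_pow {G : Type*} [Group G] (t n : G) (r : ℕ) (h : n * t * n⁻¹ = t ^ r)
    (j : ℕ) : n ^ j * t * (n ^ j)⁻¹ = t ^ (r ^ j) := by
  induction j with
  | zero => simp
  | succ j ih =>
    calc n ^ (j + 1) * t * (n ^ (j + 1))⁻¹ = n * (n ^ j * t * (n ^ j)⁻¹) * n⁻¹ := by
          rw [pow_succ']; group
      _ = n * t ^ (r ^ j) * n⁻¹ := by rw [ih]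
      _ = (n * t * n⁻¹) ^ (r ^ j) := by rw [conj_pow]
      _ = t ^ (r ^ (j + 1)) := by rw [h, ← pow_mul, pow_succ']

theorem mem_of_pow_mem_of_coprime {G : Type*} [Group G] (H : Subgroup G) (x : G) {a b : ℕ}
    (hab : Nat.Coprime a b) (ha : x ^ a ∈ H) (hb : x ^ b ∈ H) : x ∈ H := by
  have h := Nat.gcd_eq_gcd_ab a b
  rw [hab] at h
  have : x = (x ^ a) ^ (Nat.gcdA a b) * (x ^ b) ^ (Nat.gcdB a b) := by
    rw [← zpow_natCast x a, ← zpow_natCast x b, ← zpow_mul, ← zpow_mul, ← zpow_add, ← h]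
    simp
  rw [this]
  exact H.mul_mem (H.zpow_mem ha _) (H.zpow_mem hb _)

/-- If `n` normalizes the cyclic Sylow `p`-subgroup `P = ⟨t⟩` and does not centralize `t`,
then `t` is a power of the commutator `t * (n * t * n⁻¹)⁻¹`. -/
theorem cyclic_sylow_gen_mem {G : Type*} [Group G] [Finite G] {p : ℕ} [hp : Fact p.Prime]
    (P : Sylow p G) (t : G) (htP : t ∈ P)
    (hgen : ∀ x ∈ (P : Subgroup G), x ∈ Subgroup.zpowers t) (n : G)
    (hn : n ∈ Subgroup.normalizer ((P : Subgroup G) : Set G))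
    (hnt : n * t * n⁻¹ ≠ t) (D : Subgroup G) (hD : t * (n * t * n⁻¹)⁻¹ ∈ D) : t ∈ D := by
  obtain ⟨k, hk⟩ := P.2.exists_card_eq
  have htk : t ^ (p ^ k) = 1 := by
    have := pow_card_eq_one' (G := (P : Subgroup G)) (x := ⟨t, htP⟩)
    rw [hk] at this
    exact congrArg Subtype.val this
  have hconjP : n * t * n⁻¹ ∈ (P : Subgroup G) := (Subgroup.mem_normalizer_iff.mp hn t).mp htP
  have hpow : n * t * n⁻¹ ∈ Submonoid.powers t := by
    rw [mem_powers_iff_mem_zpowers]; exact hgen _ hconjP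
  obtain ⟨r, hr⟩ := hpow
  have hr' : n * t * n⁻¹ = t ^ r := hr.symm
  by_cases hdvd : (p : ℤ) ∣ (r : ℤ) - 1
  · exfalso
    apply hnt
    -- `n ^ (p ^ k)` centralizes `t`
    have h1 := pow_conj_of_conj_eq_pow t n r hr' (p ^ k)
    have h2 : ((p : ℤ) ^ (k + 1)) ∣ (r : ℤ) ^ p ^ k - 1 ^ p ^ k := dvd_sub_pow_of_dvd_sub hdvd k
    rw [one_pow] at h2
    have h3 : t ^ (r ^ p ^ k) = t := by
      have h4 : t ^ (((r ^ p ^ k : ℕ) : ℤ)) = t ^ (1 : ℤ) := by
        rw [zpow_eq_zpow_iff_modEq]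
        apply Int.ModEq.symm
        rw [Int.modEq_iff_dvd]
        have h5 : (orderOf t : ℤ) ∣ (p : ℤ) ^ (k + 1) := by
          have : orderOf t ∣ p ^ (k + 1) :=
            (orderOf_dvd_of_pow_eq_one htk).trans (pow_dvd_pow p (Nat.le_succ k))
          exact_mod_cast this
        refine h5.trans ?_
        push_cast
        exact h2
      rw [zpow_natCast, zpow_one] at h4
      exact h4
    rw [h3] at h1
    -- `n ^ m` lies in `P`, `m = |N(P) : P|` prime to `p`
    set N := Subgroup.normalizer ((P : Subgroup G) : Set G) with hN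
    set Q := (P : Subgroup G).subgroupOf N with hQ
    have hQn : Q.Normal := Subgroup.normal_in_normalizer
    have h6 : (⟨n, hn⟩ : N) ^ Q.index ∈ Q := Subgroup.pow_index_mem Q _
    have h7 : n ^ Q.index ∈ (P : Subgroup G) := by
      rw [hQ, Subgroup.mem_subgroupOf] at h6
      simpa using h6
    have h8 : Q.index ∣ (P : Subgroup G).index := by
      have := Subgroup.relIndex_mul_index (Subgroup.le_normalizer (H := (P : Subgroup G)))
      exact Dvd.intro _ this
    have h9 : Nat.Coprime (p ^ k) Q.index := by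
      apply Nat.Coprime.pow_left
      rw [Nat.Prime.coprime_iff_not_dvd hp.out]
      exact fun h => P.not_dvd_index (h.trans h8)
    have h10 : n ∈ Subgroup.centralizer ({t} : Set G) := by
      apply mem_of_pow_mem_of_coprime _ n h9
      · rw [Subgroup.mem_centralizer_iff]
        intro x hx
        rw [Set.mem_singleton_iff] at hx
        subst hx
        calc x * n ^ p ^ k = (n ^ p ^ k * x * (n ^ p ^ k)⁻¹) * n ^ p ^ k := by rw [h1]
          _ = n ^ p ^ k * x := by group
      · rw [Subgroup.mem_centralizer_iff]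
        intro x hx
        rw [Set.mem_singleton_iff] at hx
        subst hx
        obtain ⟨i, hi⟩ := Subgroup.mem_zpowers_iff.mp (hgen _ h7)
        rw [← hi]
        exact ((Commute.refl x).zpow_right i).eq
    rw [Subgroup.mem_centralizer_iff] at h10
    have := h10 t rfl
    rw [← this]; group
  · -- `1 - r` is prime to `p`
    have hirr : Irreducible (p : ℤ) := (Nat.prime_iff_prime_int.mp hp.out).irreducible
    have hcop : IsCoprime ((p : ℤ) ^ k) ((r : ℤ) - 1) :=
      IsCoprime.pow_left (hirr.coprime_iff_not_dvd.mpr hdvd)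
    obtain ⟨a, b, hab⟩ := hcop
    have h1 : t * (n * t * n⁻¹)⁻¹ = t ^ (1 - (r : ℤ)) := by
      rw [hr', zpow_sub, zpow_one, zpow_natCast]
    rw [h1] at hD
    have h2 : t = (t ^ (1 - (r : ℤ))) ^ (-b) := by
      rw [← zpow_mul]
      have : (1 - (r : ℤ)) * -b = 1 - a * (p : ℤ) ^ k := by linarith
      rw [this, zpow_sub, zpow_one, zpow_mul']
      have : t ^ ((p : ℤ) ^ k) = 1 := by
        have h3 : ((p : ℤ) ^ k) = ((p ^ k : ℕ) : ℤ) := by push_cast; rfl
        rw [h3, zpow_natCast, htk]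
      rw [this, one_zpow, inv_one, mul_one]
    rw [h2]
    exact D.zpow_mem hD _

end Cfsg.Agent.Helper2
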