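import Mathlib
import Cfsg.Agent.Lib.Helper2.Frobenius
import Cfsg.Agent.Lib.Helper2.CyclicSylow
import Cfsg.Agent.Lib.Helper2.Fusion
import Cfsg.Agent.Lib.Helper70.Gaschutz

set_option autoImplicit false
open scoped commutatorElement

/-!
# Tate's theorem: `N ⊴ G`, `N ∩ P ≤ Φ(P)` ⇒ `N` has a normal `p`-complement (helper2)

Proof: Gaschütz's theorem (helper70's crossed-homomorphism transfer) applied to the fibre product of
`G → G/N` and `P/[N∩P, P] → G/N` produces a nontrivial abelian `p`-quotient of `N` when `N ∩ P ≠ 1`.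
-/

namespace Cfsg.Agent.Helper2

open Subgroup

/-- Gaschütz for an abelian normal `p`-subgroup: a complement in a subgroup `P₁ ≥ A` of index prime
to `|A|` gives a complement in the whole group. -/
theorem gaschutz_of_coprime_index {G : Type*} [Group G] [Finite G] (A : Subgroup G) [A.Normal]
    (hA : IsMulCommutative A) (P₁ K : Subgroup G) (hAP : A ≤ P₁) (hK1 : K ⊓ A = ⊥)
    (hK2 : K ⊔ A = P₁) (hcop : Nat.Coprime P₁.index (Nat.card A)) :
    ∃ K' : Subgroup G, K'.IsComplement' A := by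
  classical
  have : Fintype (G ⧸ P₁) := Fintype.ofFinite _
  have hc := Cfsg.Agent.Helper70.isCrossedOn_transfer P₁ hAP
    (Cfsg.Agent.Helper70.isCrossedOn_of_complement K P₁ hK1 hK2)
  -- `u * index ≡ 1 mod |A|`
  have hgcd := Nat.gcd_eq_gcd_ab P₁.index (Nat.card A)
  rw [hcop] at hgcd
  set u := Nat.gcdA P₁.index (Nat.card A) with hu
  set v := Nat.gcdB P₁.index (Nat.card A) with hv
  have hz := hc.zpow' u
  refine Cfsg.Agent.Helper70.exists_complement_of_crossed (A := A)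
    (ψ := fun g => (Cfsg.Agent.Helper70.transferCrossed (A := A) P₁
      (Cfsg.Agent.Helper70.compA (A := A) K) g) ^ u) ⟨hz.mul, ?_⟩
  intro a
  rw [hz.onA]
  have h1 : ((P₁.index : ℤ) * u) = 1 - (Nat.card A : ℤ) * v := by
    have : ((1 : ℕ) : ℤ) = (P₁.index : ℤ) * u + (Nat.card A : ℤ) * v := hgcd
    push_cast at this
    linarith
  rw [h1, zpow_sub, zpow_one, zpow_mul, zpow_natCast, pow_card_eq_one', one_zpow, inv_one, mul_one]

/-- a nontrivial normal subgroup `K` of a nilpotent group has `[K, G] < K`. -/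
theorem commutator_top_lt_of_nilpotent {P : Type*} [Group P] [hnil : Group.IsNilpotent P]
    (K : Subgroup P) [K.Normal] (hK : K ≠ ⊥) : ⁅K, (⊤ : Subgroup P)⁆ < K := by
  refine lt_of_le_of_ne (Subgroup.commutator_le_left K ⊤) ?_
  intro heq
  obtain ⟨n, hn⟩ := Subgroup.nilpotent_iff_lowerCentralSeries.mp hnil
  have key : ∀ j : ℕ, K ≤ (⊤ : Subgroup P).lowerCentralSeries j := by
    intro j
    induction j with
    | zero => simp
    | succ j ih =>
      rw [Subgroup.lowerCentralSeries_succ, ← heq]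
      exact Subgroup.commutator_mono ih le_rfl
  apply hK
  rw [eq_bot_iff, ← hn]
  exact key n

/-- Key step of Tate's theorem: if `N ∩ P ≠ 1` lies in `Φ(P)`, then `N` has a proper subgroup
containing all commutators and all `p'`-elements of `N`. -/
theorem tate_key {G : Type*} [Group G] [Finite G] {p : ℕ} [hp : Fact p.Prime] (P : Sylow p G)
    (N : Subgroup G) [hN : N.Normal]
    (h : N ⊓ (P : Subgroup G) ≤ (frattini P).map (P : Subgroup G).subtype)
    (hne : N ⊓ (P : Subgroup G) ≠ ⊥) :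
    ∃ N₁ : Subgroup G, N₁ ≤ N ∧ N₁ ≠ N ∧ (∀ a ∈ N, ∀ b ∈ N, ⁅a, b⁆ ∈ N₁) ∧
      (∀ x ∈ N, Nat.Coprime (orderOf x) p → x ∈ N₁) := by
  classical
  -- inside `P`
  set DP : Subgroup (P : Subgroup G) := N.subgroupOf (P : Subgroup G) with hDP
  have hDPn : DP.Normal := Subgroup.normal_subgroupOf
  set D₀ : Subgroup (P : Subgroup G) := ⁅DP, (⊤ : Subgroup (P : Subgroup G))⁆ with hD₀
  have hD₀n : D₀.Normal := Subgroup.commutator_normal DP ⊤
  have hD₀le : D₀ ≤ DP := Subgroup.commutator_le_left DP ⊤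
  have hnilP : Group.IsNilpotent (P : Subgroup G) := P.2.isNilpotent
  have hDPne : DP ≠ ⊥ := by
    intro hbot
    apply hne
    rw [eq_bot_iff]
    rintro x ⟨hxN, hxP⟩
    have : (⟨x, hxP⟩ : (P : Subgroup G)) ∈ DP := Subgroup.mem_subgroupOf.mpr hxN
    rw [hbot, Subgroup.mem_bot] at this
    rw [Subgroup.mem_bot]
    exact congrArg Subtype.val this
  have hD₀lt : D₀ < DP := commutator_top_lt_of_nilpotent DP hDPne
  have hDPfrat : DP ≤ frattini (P : Subgroup G) := by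
    intro d hd
    have hd' : (d : G) ∈ N ⊓ (P : Subgroup G) := ⟨Subgroup.mem_subgroupOf.mp hd, d.2⟩
    obtain ⟨f, hf, hfd⟩ := h hd'
    have : f = d := Subtype.ext hfd
    rwa [← this]
  -- the quotients
  let E := (P : Subgroup G) ⧸ D₀
  let T := G ⧸ N
  let φ : G →* T := QuotientGroup.mk' N
  have hφker : ∀ g : G, φ g = 1 ↔ g ∈ N := fun g => QuotientGroup.eq_one_iff g
  let π : E →* T := QuotientGroup.lift D₀ (φ.comp (P : Subgroup G).subtype) (by
    intro d hd
    rw [MonoidHom.mem_ker, MonoidHom.comp_apply, hφker]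
    exact Subgroup.mem_subgroupOf.mp (hD₀le hd))
  have hπmk : ∀ x : (P : Subgroup G), π (QuotientGroup.mk x) = φ (x : G) := fun x => rfl
  -- elements of `ker π` come from `DP`, and they commute with everything
  have hkerπ : ∀ e : E, π e = 1 → ∃ d ∈ DP, (QuotientGroup.mk d : E) = e := by
    intro e he
    induction e using QuotientGroup.induction_on with
    | H x =>
      rw [hπmk, hφker] at he
      exact ⟨x, Subgroup.mem_subgroupOf.mpr he, rfl⟩
  have hcentral : ∀ e : E, π e = 1 → ∀ e' : E, e * e' = e' * e := by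
    intro e he e'
    obtain ⟨d, hd, rfl⟩ := hkerπ e he
    induction e' using QuotientGroup.induction_on with
    | H x =>
      rw [← QuotientGroup.mk_mul, ← QuotientGroup.mk_mul, QuotientGroup.eq]
      have : (d * x)⁻¹ * (x * d) = ⁅x⁻¹, d⁻¹⁆ := by rw [commutatorElement_def]; group
      rw [this]
      have h1 : ⁅d⁻¹, x⁻¹⁆ ∈ D₀ :=
        Subgroup.commutator_mem_commutator (DP.inv_mem hd) (Subgroup.mem_top _)
      have h2 : ⁅x⁻¹, d⁻¹⁆ = (⁅d⁻¹, x⁻¹⁆)⁻¹ := (commutatorElement_inv _ _).symm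
      rw [h2]
      exact D₀.inv_mem h1
  obtain ⟨kE, hkE⟩ := IsPGroup.iff_card.mp (P.2.to_quotient D₀)
  have hEpow : ∀ e : E, e ^ p ^ kE = 1 := fun e => by rw [← hkE]; exact pow_card_eq_one'
  -- the fibre product
  let Γ : Subgroup (G × E) :=
    MonoidHom.eqLocus (φ.comp (MonoidHom.fst G E)) (π.comp (MonoidHom.snd G E))
  have hΓmem : ∀ x : G × E, x ∈ Γ ↔ φ x.1 = π x.2 := fun x => Iff.rfl
  let fstΓ : Γ →* G := (MonoidHom.fst G E).comp Γ.subtype
  let sndΓ : Γ →* E := (MonoidHom.snd G E).comp Γ.subtype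
  have hfst : ∀ γ : Γ, fstΓ γ = (γ : G × E).1 := fun γ => rfl
  have hsnd : ∀ γ : Γ, sndΓ γ = (γ : G × E).2 := fun γ => rfl
  have hcompat : ∀ γ : Γ, φ (fstΓ γ) = π (sndΓ γ) := fun γ => γ.2
  have hext : ∀ γ γ' : Γ, fstΓ γ = fstΓ γ' → sndΓ γ = sndΓ γ' → γ = γ' := by
    intro γ γ' h1 h2
    apply Subtype.ext
    exact Prod.ext h1 h2
  let A : Subgroup Γ := fstΓ.ker
  have hAmem : ∀ γ : Γ, γ ∈ A ↔ fstΓ γ = 1 := fun γ => MonoidHom.mem_ker
  have hAπ : ∀ γ : Γ, γ ∈ A → π (sndΓ γ) = 1 := by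
    intro γ hγ
    rw [← hcompat, (hAmem γ).mp hγ, map_one]
  have hAcomm : IsMulCommutative A := by
    refine ⟨⟨?_⟩⟩
    rintro ⟨γ, hγ⟩ ⟨γ', hγ'⟩
    apply Subtype.ext
    show γ * γ' = γ' * γ
    apply hext
    · rw [map_mul, map_mul, (hAmem γ).mp hγ, (hAmem γ').mp hγ']
    · rw [map_mul, map_mul]
      exact hcentral _ (hAπ γ hγ) _
  have hApow : ∀ γ : Γ, γ ∈ A → γ ^ p ^ kE = 1 := by
    intro γ hγ
    apply hext
    · rw [map_pow, (hAmem γ).mp hγ, one_pow, map_one]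
    · rw [map_pow, hEpow, map_one]
  -- the complement over `P`
  let ι : (P : Subgroup G) →* Γ :=
    MonoidHom.codRestrict (MonoidHom.prod (P : Subgroup G).subtype (QuotientGroup.mk' D₀)) Γ
      (fun x => rfl)
  have hιfst : ∀ x : (P : Subgroup G), fstΓ (ι x) = (x : G) := fun x => rfl
  have hιsnd : ∀ x : (P : Subgroup G), sndΓ (ι x) = (QuotientGroup.mk x : E) := fun x => rfl
  let K : Subgroup Γ := ι.range
  let P₁ : Subgroup Γ := (P : Subgroup G).comap fstΓ
  have hAP₁ : A ≤ P₁ := by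
    intro γ hγ
    show fstΓ γ ∈ (P : Subgroup G)
    rw [(hAmem γ).mp hγ]
    exact Subgroup.one_mem _
  have hK1 : K ⊓ A = ⊥ := by
    rw [eq_bot_iff]
    rintro γ ⟨⟨x, rfl⟩, hγA⟩
    rw [Subgroup.mem_bot]
    have hx1 : (x : G) = 1 := by rw [← hιfst]; exact (hAmem _).mp hγA
    have hx : x = 1 := Subtype.ext hx1
    rw [hx, map_one]
  have hK2 : K ⊔ A = P₁ := by
    apply le_antisymm
    · refine sup_le ?_ hAP₁
      rintro γ ⟨x, rfl⟩
      show fstΓ (ι x) ∈ (P : Subgroup G)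
      rw [hιfst]; exact x.2
    · intro γ hγ
      have hγP : fstΓ γ ∈ (P : Subgroup G) := hγ
      have h1 : γ = ι ⟨fstΓ γ, hγP⟩ * ((ι ⟨fstΓ γ, hγP⟩)⁻¹ * γ) := by group
      rw [h1]
      refine Subgroup.mul_mem_sup ⟨_, rfl⟩ ?_
      rw [hAmem, map_mul, map_inv, hιfst]
      simp
  have hcop : Nat.Coprime P₁.index (Nat.card A) := by
    have h1 : P₁.index ∣ (P : Subgroup G).index := by
      rw [Subgroup.index_comap]
      apply Subgroup.relIndex_dvd_index_of_le
      intro x hx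
      exact ⟨ι ⟨x, hx⟩, rfl⟩
    have hApg : IsPGroup p A := fun γ => ⟨kE, Subtype.ext (by
      have := hApow γ.1 γ.2
      simpa using this)⟩
    obtain ⟨j, hj⟩ := IsPGroup.iff_card.mp hApg
    rw [hj]
    apply Nat.Coprime.pow_right
    exact Nat.Coprime.coprime_dvd_left h1
      ((Nat.Prime.coprime_iff_not_dvd hp.out).mpr P.not_dvd_index).symm
  obtain ⟨Kh, hKh⟩ := gaschutz_of_coprime_index A hAcomm P₁ K hAP₁ hK1 hK2 hcop
  have hKhA : Kh ⊓ A = ⊥ := hKh.disjoint.eq_bot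
  -- every `γ` has a representative in `Kh` with the same first coordinate
  have hrep : ∀ γ : Γ, ∃ k ∈ Kh, fstΓ k = fstΓ γ := by
    intro γ
    have hγ : γ ∈ ((Kh ⊔ A : Subgroup Γ) : Set Γ) := by
      rw [hKh.sup_eq_top]; trivial
    rw [Subgroup.mul_normal] at hγ
    obtain ⟨k, hk, a, ha, rfl⟩ := hγ
    refine ⟨k, hk, ?_⟩
    rw [map_mul, (hAmem a).mp ha, mul_one]
  have huniq : ∀ k ∈ Kh, ∀ k' ∈ Kh, fstΓ k = fstΓ k' → k = k' := by
    intro k hk k' hk' hkk
    have h1 : k⁻¹ * k' ∈ Kh ⊓ A := by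
      refine Subgroup.mem_inf.mpr ⟨Kh.mul_mem (Kh.inv_mem hk) hk', ?_⟩
      rw [hAmem, map_mul, map_inv, hkk, inv_mul_cancel]
    rw [hKhA, Subgroup.mem_bot] at h1
    exact (inv_mul_eq_one.mp h1)
  -- elements of `N`
  have hNΓ : ∀ n ∈ N, ((n, (1 : E)) : G × E) ∈ Γ := by
    intro n hn
    rw [hΓmem]
    show φ n = π 1
    rw [map_one, hφker]; exact hn
  have hNrep : ∀ n ∈ N, ∃ k ∈ Kh, fstΓ k = n ∧ π (sndΓ k) = 1 := by
    intro n hn
    obtain ⟨k, hk, hkn⟩ := hrep ⟨(n, 1), hNΓ n hn⟩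
    refine ⟨k, hk, hkn, ?_⟩
    rw [← hcompat, hkn]
    exact (hφker n).mpr hn
  let N₁ : Subgroup G := (Kh ⊓ sndΓ.ker).map fstΓ
  have hN₁mem : ∀ g : G, g ∈ N₁ ↔ ∃ k ∈ Kh, sndΓ k = 1 ∧ fstΓ k = g := by
    intro g
    constructor
    · rintro ⟨k, ⟨hk, hk2⟩, rfl⟩
      exact ⟨k, hk, MonoidHom.mem_ker.mp hk2, rfl⟩
    · rintro ⟨k, hk, hk2, rfl⟩
      exact ⟨k, ⟨hk, MonoidHom.mem_ker.mpr hk2⟩, rfl⟩
  refine ⟨N₁, ?_, ?_, ?_, ?_⟩
  · intro g hg
    obtain ⟨k, hk, hk2, rfl⟩ := (hN₁mem g).mp hg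
    rw [← hφker, hcompat, hk2, map_one]
  · -- `N₁ ≠ N`
    intro hEq
    have hNk : ∀ n ∈ N, ∃ k ∈ Kh, sndΓ k = 1 ∧ fstΓ k = n := by
      intro n hn
      exact (hN₁mem n).mp (hEq ▸ hn)
    let L : Subgroup (P : Subgroup G) := Kh.comap ι
    have hLtop : L ⊔ frattini (P : Subgroup G) = ⊤ := by
      rw [eq_top_iff]
      intro x _
      obtain ⟨k, hk, hkx⟩ := hrep (ι x)
      rw [hιfst] at hkx
      obtain ⟨y, hy⟩ := QuotientGroup.mk_surjective (s := D₀) (sndΓ k)
      -- `φ x = φ y`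
      have h1 : φ (x : G) = φ (y : G) := by
        rw [← hkx, hcompat, ← hy]; rfl
      have h2 : (y : G)⁻¹ * (x : G) ∈ N := by
        rw [← hφker, map_mul, map_inv, h1, inv_mul_cancel]
      have hd : y⁻¹ * x ∈ DP := Subgroup.mem_subgroupOf.mpr h2
      obtain ⟨kd, hkd, hkd2, hkd1⟩ := hNk _ h2
      -- `k * kd⁻¹ = ι y`
      have h3 : k * kd⁻¹ = ι y := by
        apply hext
        · rw [map_mul, map_inv, hkx, hkd1, hιfst]; group
        · rw [map_mul, map_inv, hkd2, inv_one, mul_one, hιsnd, hy]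
      have hyL : y ∈ L := by
        show ι y ∈ Kh
        rw [← h3]
        exact Kh.mul_mem hk (Kh.inv_mem hkd)
      have : x = y * (y⁻¹ * x) := by group
      rw [this]
      exact Subgroup.mul_mem_sup hyL (hDPfrat hd)
    have hL : L = ⊤ := frattini_nongenerating hLtop
    -- now `DP ≤ D₀`
    apply hD₀lt.ne
    apply le_antisymm hD₀le
    intro d hd
    have hdN : (d : G) ∈ N := Subgroup.mem_subgroupOf.mp hd
    obtain ⟨kd, hkd, hkd2, hkd1⟩ := hNk _ hdN
    have hιd : ι d ∈ Kh := by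
      have : d ∈ L := hL ▸ Subgroup.mem_top d
      exact this
    have h4 : ι d = kd := huniq _ hιd _ hkd (by rw [hιfst, hkd1])
    have h5 : (QuotientGroup.mk d : E) = 1 := by
      rw [← hιsnd, h4, hkd2]
    exact (QuotientGroup.eq_one_iff d).mp h5
  · -- commutators
    intro a ha b hb
    obtain ⟨ka, hka, hka1, hka2⟩ := hNrep a ha
    obtain ⟨kb, hkb, hkb1, hkb2⟩ := hNrep b hb
    rw [hN₁mem]
    have hmem : ⁅ka, kb⁆ ∈ Kh := by
      rw [commutatorElement_def]
      exact Kh.mul_mem (Kh.mul_mem (Kh.mul_mem hka hkb) (Kh.inv_mem hka)) (Kh.inv_mem hkb)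
    refine ⟨⁅ka, kb⁆, hmem, ?_, ?_⟩
    · rw [map_commutatorElement, commutatorElement_eq_one_iff_commute]
      exact hcentral _ hka2 _
    · rw [map_commutatorElement, hka1, hkb1]
  · -- `p'`-elements
    intro x hx hxo
    obtain ⟨kx, hkx, hkx1, hkx2⟩ := hNrep x hx
    have h1 : x ^ p ^ kE ∈ N₁ := by
      rw [hN₁mem]
      refine ⟨kx ^ p ^ kE, Kh.pow_mem hkx _, ?_, ?_⟩
      · rw [map_pow, hEpow]
      · rw [map_pow, hkx1]
    have h2 : x ^ orderOf x ∈ N₁ := by
      rw [pow_orderOf_eq_one]; exact N₁.one_mem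
    exact mem_of_pow_mem_of_coprime N₁ x (Nat.Coprime.pow_left kE hxo.symm) h1 h2

/-- `HasNormalPComplement` transfers along a group isomorphism. -/
theorem hasNormalPComplement_of_mulEquiv {G H : Type*} [Group G] [Finite G] [Group H] [Finite H]
    {p : ℕ} [hp : Fact p.Prime] (e : G ≃* H) (h : Cfsg.HasNormalPComplement p G) :
    Cfsg.HasNormalPComplement p H := by
  obtain ⟨P, K, hKn, hKc⟩ := h
  obtain ⟨a, ha⟩ := IsPGroup.iff_card.mp P.isPGroup'
  have hKcop : Nat.Coprime (Nat.card K) p := by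
    rw [← hKc.index_eq_card]
    exact ((Nat.Prime.coprime_iff_not_dvd hp.out).mpr P.not_dvd_index).symm
  have hKidx : K.index = p ^ a := by rw [hKc.symm.index_eq_card, ha]
  refine hasNormalPComplement_of_card_coprime_of_index_pow (K.map (e : G →* H))
    (hKn.map _ e.surjective) ?_ a ?_
  · rw [Subgroup.card_map_of_injective e.injective]; exact hKcop
  · rw [Subgroup.index_map_equiv]; exact hKidx

/-- **Tate's theorem**, by induction on the order of the normal subgroup. -/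
theorem tate_aux {G : Type*} [Group G] [Finite G] {p : ℕ} [hp : Fact p.Prime] (P : Sylow p G) :
    ∀ (n : ℕ) (N : Subgroup G), N.Normal → Nat.card N = n →
      N ⊓ (P : Subgroup G) ≤ (frattini P).map (P : Subgroup G).subtype →
      Cfsg.HasNormalPComplement p N := by
  intro n
  induction n using Nat.strong_induction_on with
  | _ n ih =>
  intro N hN hcard h
  by_cases hb : N ⊓ (P : Subgroup G) = ⊥
  · -- `N` is a `p'`-group
    have hcop : Nat.Coprime (Nat.card N) p := by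
      rw [Nat.coprime_comm, Nat.Prime.coprime_iff_not_dvd hp.out]
      intro hdvd
      obtain ⟨x, hx⟩ := exists_prime_orderOf_dvd_card' p hdvd
      have hxp : IsPGroup p (Subgroup.zpowers (x : G)) := by
        apply IsPGroup.of_card (n := 1)
        rw [Nat.card_zpowers, Subgroup.orderOf_coe, hx, pow_one]
      obtain ⟨Q, hQ⟩ := hxp.exists_le_sylow
      obtain ⟨g, hg⟩ := MulAction.exists_smul_eq G P Q
      have hxQ : (x : G) ∈ (Q : Subgroup G) := hQ (Subgroup.mem_zpowers _)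
      rw [← hg] at hxQ
      have hxQ' : g⁻¹ * (x : G) * g ∈ (P : Subgroup G) := (mem_smul_sylow_iff P g _).mp hxQ
      have hxN : g⁻¹ * (x : G) * g ∈ N := by
        have := hN.conj_mem _ x.2 g⁻¹
        simpa using this
      have h1 : g⁻¹ * (x : G) * g ∈ N ⊓ (P : Subgroup G) := Subgroup.mem_inf.mpr ⟨hxN, hxQ'⟩
      rw [hb, Subgroup.mem_bot] at h1
      have hx1 : (x : G) = 1 := by
        have : (x : G) = g * (g⁻¹ * (x : G) * g) * g⁻¹ := by group
        rw [this, h1]; group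
      have h2 : orderOf (x : G) = 1 := by rw [hx1, orderOf_one]
      rw [Subgroup.orderOf_coe, hx] at h2
      exact hp.out.one_lt.ne' h2
    refine hasNormalPComplement_of_card_coprime_of_index_pow (⊤ : Subgroup N) inferInstance ?_ 0 ?_
    · rw [Subgroup.card_top]; exact hcop
    · rw [Subgroup.index_top, pow_zero]
  · obtain ⟨N₁, hN₁le, hN₁ne, hcomm, hp'⟩ := tate_key P N h hb
    have hSN₁ : ∀ g : G, ((∃ a ∈ N, ∃ b ∈ N, g = ⁅a, b⁆) ∨ (g ∈ N ∧ Nat.Coprime (orderOf g) p)) →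
        g ∈ N₁ := by
      rintro g (⟨a, ha, b, hb', rfl⟩ | ⟨hg, hgo⟩)
      · exact hcomm a ha b hb'
      · exact hp' g hg hgo
    obtain ⟨N₂, hN₂⟩ : ∃ N₂ : Subgroup G, N₂ = Subgroup.closure
        {g : G | (∃ a ∈ N, ∃ b ∈ N, g = ⁅a, b⁆) ∨ (g ∈ N ∧ Nat.Coprime (orderOf g) p)} := ⟨_, rfl⟩
    have hN₂N₁ : N₂ ≤ N₁ := by
      rw [hN₂, Subgroup.closure_le]
      exact fun g hg => hSN₁ g hg
    have hN₂N : N₂ ≤ N := hN₂N₁.trans hN₁le
    have hN₂lt : N₂ < N := lt_of_le_of_lt hN₂N₁ (lt_of_le_of_ne hN₁le hN₁ne)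
    have hSconj : ∀ g s : G,
        ((∃ a ∈ N, ∃ b ∈ N, s = ⁅a, b⁆) ∨ (s ∈ N ∧ Nat.Coprime (orderOf s) p)) →
        ((∃ a ∈ N, ∃ b ∈ N, g * s * g⁻¹ = ⁅a, b⁆) ∨
          (g * s * g⁻¹ ∈ N ∧ Nat.Coprime (orderOf (g * s * g⁻¹)) p)) := by
      rintro g s (⟨a, ha, b, hb', rfl⟩ | ⟨hs, hso⟩)
      · left
        refine ⟨g * a * g⁻¹, hN.conj_mem a ha g, g * b * g⁻¹, hN.conj_mem b hb' g, ?_⟩
        simp only [commutatorElement_def]; group
      · right
        exact ⟨hN.conj_mem s hs g, by rw [orderOf_conj']; exact hso⟩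
    have hN₂n : N₂.Normal := by
      constructor
      intro x hx g
      rw [hN₂] at hx ⊢
      induction hx using Subgroup.closure_induction with
      | mem s hs => exact Subgroup.subset_closure (hSconj g s hs)
      | one => simp
      | mul a b _ _ iha ihb =>
        have : g * (a * b) * g⁻¹ = (g * a * g⁻¹) * (g * b * g⁻¹) := by group
        rw [this]; exact Subgroup.mul_mem _ iha ihb
      | inv a _ iha =>
        have : g * a⁻¹ * g⁻¹ = (g * a * g⁻¹)⁻¹ := by group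
        rw [this]; exact Subgroup.inv_mem _ iha
    have hcard₂ : Nat.card N₂ < n := by rw [← hcard]; exact card_lt_card_of_lt' hN₂lt
    have h₂ : N₂ ⊓ (P : Subgroup G) ≤ (frattini P).map (P : Subgroup G).subtype :=
      (inf_le_inf_right _ hN₂N).trans h
    have hN₂c : Cfsg.HasNormalPComplement p N₂ := ih _ hcard₂ N₂ hN₂n rfl h₂
    have hMn : (N₂.subgroupOf N).Normal := hN₂n.subgroupOf N
    have hMc : Cfsg.HasNormalPComplement p (N₂.subgroupOf N) :=
      hasNormalPComplement_of_mulEquiv (Subgroup.subgroupOfEquivOfLe hN₂N).symm hN₂c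
    have hquot : IsPGroup p (N ⧸ N₂.subgroupOf N) := by
      intro q
      obtain ⟨x, rfl⟩ := QuotientGroup.mk_surjective q
      refine ⟨(orderOf x).factorization p, ?_⟩
      rw [← QuotientGroup.mk_pow, QuotientGroup.eq_one_iff, Subgroup.mem_subgroupOf, hN₂]
      apply Subgroup.subset_closure
      right
      refine ⟨(x ^ p ^ (orderOf x).factorization p).2, ?_⟩
      rw [Subgroup.orderOf_coe]
      exact coprime_orderOf_pow_ordProj x
    obtain ⟨j, hj⟩ := IsPGroup.iff_card.mp hquot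
    have hMidx : (N₂.subgroupOf N).index = p ^ j := by rw [Subgroup.index_eq_card]; exact hj
    exact hasNormalPComplement_of_normal_index_pow (N₂.subgroupOf N) hMn j hMidx hMc


end Cfsg.Agent.Helper2
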