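import Mathlib.GroupTheory.Nilpotent

set_option autoImplicit false

namespace Cfsg.Agent.Helper2

/-- A nontrivial normal subgroup of a nilpotent group meets the centre nontrivially.
(Same argument as `Cfsg.Agent.Helper62.normal_inf_center_ne_bot`, restated here with light imports.) -/
theorem normal_inf_center_ne_bot {N : Type*} [Group N] [Group.IsNilpotent N]
    (K : Subgroup N) [K.Normal] (hK : K ≠ ⊥) : K ⊓ Subgroup.center N ≠ ⊥ := by
  classical
  let c : ℕ → Subgroup N := fun j => Nat.rec K (fun _ X => ⁅X, (⊤ : Subgroup N)⁆) j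
  have c0 : c 0 = K := rfl
  have cs : ∀ j, c (j + 1) = ⁅c j, (⊤ : Subgroup N)⁆ := fun j => rfl
  have hcn : ∀ j, (c j).Normal := by
    intro j
    induction j with
    | zero => rw [c0]; infer_instance
    | succ j ih => rw [cs]; exact @Subgroup.commutator_normal _ _ (c j) ⊤ ih inferInstance
  have hcK : ∀ j, c j ≤ K := by
    intro j
    induction j with
    | zero => rw [c0]
    | succ j ih =>
      rw [cs]
      exact (@Subgroup.commutator_le_left _ _ (c j) ⊤ (hcn j)).trans ih
  have hcl : ∀ j, c j ≤ (⊤ : Subgroup N).lowerCentralSeries j := by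
    intro j
    induction j with
    | zero => rw [c0]; simp
    | succ j ih =>
      rw [cs, Subgroup.lowerCentralSeries_succ]
      exact Subgroup.commutator_mono ih le_rfl
  obtain ⟨n, hn⟩ := Subgroup.nilpotent_iff_lowerCentralSeries.mp (inferInstance : Group.IsNilpotent N)
  have hex : ∃ j, c j = ⊥ := ⟨n, le_bot_iff.mp (hn ▸ hcl n)⟩
  obtain ⟨j, hj, hjmin⟩ : ∃ j, c j = ⊥ ∧ ∀ i < j, c i ≠ ⊥ :=
    ⟨@Nat.find (fun n => c n = ⊥) (Classical.decPred _) hex,
      @Nat.find_spec (fun n => c n = ⊥) (Classical.decPred _) hex,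
      fun i hi => @Nat.find_min (fun n => c n = ⊥) (Classical.decPred _) hex i hi⟩
  have hj0 : j ≠ 0 := by
    intro h
    rw [h, c0] at hj
    exact hK hj
  obtain ⟨i, hi⟩ := Nat.exists_eq_succ_of_ne_zero hj0
  have hci : c i ≠ ⊥ := by
    have : i < j := by omega
    exact hjmin i this
  have hcomm : ⁅c i, (⊤ : Subgroup N)⁆ = ⊥ := by
    rw [← cs, ← Nat.succ_eq_add_one, ← hi]; exact hj
  have hcen : c i ≤ Subgroup.center N := Subgroup.commutator_top_right_eq_bot_iff_le_center.mp hcomm
  intro h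
  apply hci
  rw [eq_bot_iff, ← h]
  exact le_inf (hcK i) hcen

end Cfsg.Agent.Helper2
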