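import Mathlib
import Cfsg.Agent.Lib.Helper5.SpAut1
import Cfsg.Agent.Lib.Helper13.SympGeom
import Cfsg.Agent.S0765

/-!
# SR project (S2281): Sp_2n(F) is generated by three conjugate regular unipotent elements.
Shared definitions (helper2).  Core part: arbitrary `n`.  Concrete part: `n = m + 2`.
Conventions: `ω = Cfsg.sympForm`, `ω (f_i) (e_i) = 1`, `sympT w c : x ↦ x + c ω(x,w) w`,
`eich v w c : x ↦ x + ω(x,v) w + ω(x,w) v + c ω(x,v) v` (Helper5.SpAut, needs `ω w v = 0`).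
-/

set_option autoImplicit false

namespace Cfsg.Agent.Helper2.SR

open Matrix Cfsg Cfsg.Agent.Helper13 Cfsg.Agent.Helper84.SpRoot Cfsg.Agent.Helper5.SpAut

section Core

variable {F : Type*} [Field F] {n : ℕ}

/-- `lam` generates `F` as a ring: an additive subgroup with a nonzero element that is stable
under multiplication by `lam` is everything -/
def IsGen (lam : F) : Prop :=
  ∀ S : AddSubgroup F, (∃ a ∈ S, a ≠ 0) → (∀ a ∈ S, lam * a ∈ S) → S = ⊤

/-- the orbit of `e0` under `H` -/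
def Orb (H : Subgroup (Matrix.symplecticGroup (Fin n) F)) (e0 : Fin n ⊕ Fin n → F) :
    Set (Fin n ⊕ Fin n → F) :=
  {x | ∃ h ∈ H, h.val *ᵥ e0 = x}

/-- parameters of the transvections with centre `e0` in `H` -/
def MM (H : Subgroup (Matrix.symplecticGroup (Fin n) F)) (e0 : Fin n ⊕ Fin n → F) : Set F :=
  {c | sympT e0 c ∈ H}

/-- vectors `w ⊥ e0` such that some Eichler element `eich e0 w c` lies in `H` -/
def QQ (H : Subgroup (Matrix.symplecticGroup (Fin n) F)) (e0 : Fin n ⊕ Fin n → F) :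
    Set (Fin n ⊕ Fin n → F) :=
  {w | Cfsg.sympForm n F w e0 = 0 ∧ ∃ c : F, eich e0 w c ∈ H}

/-- full centres: all transvections with centre `v` lie in `H` -/
def WW (H : Subgroup (Matrix.symplecticGroup (Fin n) F)) : Set (Fin n ⊕ Fin n → F) :=
  {v | ∀ c : F, sympT v c ∈ H}

/-- the hypotheses of the abstract generation criterion -/
structure Hyp (H : Subgroup (Matrix.symplecticGroup (Fin n) F))
    (u l : Matrix.symplecticGroup (Fin n) F) (e0 e1 p : Fin n ⊕ Fin n → F) (κ γ : F) : Prop where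
  hu : u ∈ H
  hl : l ∈ H
  hκ : sympT e0 κ ∈ H
  κ0 : κ ≠ 0
  ue0 : u.val *ᵥ e0 = e0
  ue1 : u.val *ᵥ e1 = e1 + e0
  le0 : l.val *ᵥ e0 = e1
  lp : l.val *ᵥ p = e0
  e1e0 : Cfsg.sympForm n F e1 e0 = 0
  pe0 : Cfsg.sympForm n F p e0 = 0
  e1p : Cfsg.sympForm n F e1 p = γ
  γ0 : γ ≠ 0
  gen : IsGen ((κ * γ) ^ 2)
  cyc : ∀ S : Submodule F (Fin n ⊕ Fin n → F), p ∈ S → (∀ x ∈ S, u.val *ᵥ x ∈ S) →
    ∀ x, Cfsg.sympForm n F x e0 = 0 → x ∈ S
  out : Cfsg.sympForm n F (l.val *ᵥ e1) e0 ≠ 0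

end Core

section Concrete

variable {F : Type*} [Field F] {m : ℕ}

/-- basis vectors `e_i` -/
def be (i : Fin (m + 2)) : Fin (m + 2) ⊕ Fin (m + 2) → F := Pi.single (Sum.inl i) 1

/-- basis vectors `f_i` -/
def bf (i : Fin (m + 2)) : Fin (m + 2) ⊕ Fin (m + 2) → F := Pi.single (Sum.inr i) 1

/-- the index `n - 2` -/
def jA : Fin (m + 2) := ⟨m, by omega⟩

/-- the index `n - 1` -/
def jB : Fin (m + 2) := ⟨m + 1, by omega⟩

/-- the upper shift `N = Σ E_{i,i+1}` (`N e_j = e_{j-1}`) -/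
def Nm (m : ℕ) (F : Type*) [Field F] : Matrix (Fin (m + 2)) (Fin (m + 2)) F :=
  Matrix.of fun i j => if i.val + 1 = j.val then 1 else 0

/-- `P = 1 + N` -/
def Pm (m : ℕ) (F : Type*) [Field F] : Matrix (Fin (m + 2)) (Fin (m + 2)) F := 1 + Nm m F

/-- `P⁻¹ = Σ (-N)^k`: entries `(-1)^(j-i)` for `i ≤ j` -/
def Pinv (m : ℕ) (F : Type*) [Field F] : Matrix (Fin (m + 2)) (Fin (m + 2)) F :=
  Matrix.of fun i j => if i.val ≤ j.val then (-1) ^ (j.val - i.val) else 0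

/-- `Y = s E_{n-1,n-1}` -/
def Ym (s : F) : Matrix (Fin (m + 2)) (Fin (m + 2)) F :=
  Matrix.of fun i j => if i = jB ∧ j = jB then s else 0

/-- the matrix of `u = L(P) U(Y)` -/
def uM (s : F) : Matrix (Fin (m + 2) ⊕ Fin (m + 2)) (Fin (m + 2) ⊕ Fin (m + 2)) F :=
  Matrix.fromBlocks (Pm m F) (Pm m F * Ym s) 0 (Pinv m F)ᵀ

/-- the matrix of `u⁻¹ = U(-Y) L(P⁻¹)` -/
def uinvM (s : F) : Matrix (Fin (m + 2) ⊕ Fin (m + 2)) (Fin (m + 2) ⊕ Fin (m + 2)) F :=
  Matrix.fromBlocks (Pinv m F) (-(Ym s * (Pm m F)ᵀ)) 0 (Pm m F)ᵀ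

open Classical in
/-- the regular unipotent element `u` (junk value `1` unless `uM s` is symplectic; piece C2) -/
noncomputable def uEl (s : F) : Matrix.symplecticGroup (Fin (m + 2)) F :=
  if h : uM (m := m) s ∈ Matrix.symplecticGroup (Fin (m + 2)) F then ⟨uM s, h⟩ else 1

/-- the vector `p = 2 e_0 - e_1 - s f_1` -/
def pV (s : F) : Fin (m + 2) ⊕ Fin (m + 2) → F := (2 : F) • be 0 - be 1 - s • bf 1

/-- the level of a basis index in the Jordan chain of `u`: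
`f_0, f_1, .., f_{n-1}, e_{n-1}, .., e_1, e_0` have levels `0, 1, .., 2n-1` -/
def lvl : Fin (m + 2) ⊕ Fin (m + 2) → ℕ
  | Sum.inr j => j.val
  | Sum.inl i => 2 * (m + 2) - 1 - i.val

end Concrete

end Cfsg.Agent.Helper2.SR
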