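import Mathlib
import Cfsg.Agent.Lib.Helper2.SR0

/-!
# SS project (S2411): Sp_2n(F) is generated by two elements (helper2).
Generators: `c` = Coxeter element `e_0 → e_1 → .. → e_{n-1} → f_0 → .. → f_{n-1} → -e_0` and
`b = T_{e_0}(1) * y`, `y = T_w(α) T_{w'}(β)`, `w = e_1 - e_0`, `w' = ξ e_{n-1} + f_1`.
`y` is semisimple (order 3 if char 2, `α = β = 1`; order 4 else, `α = 2, β = 1`) and commutes with
`T_{e_0}`, so `⟨b⟩` contains `y` and a transvection.  With `l = c * y` the abstract criterion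
`Hyp2` (a variant of `SR.Hyp` without the unipotent `u`) applies.
Shared definitions.  Conventions as in `SR0`.
-/

set_option autoImplicit false

namespace Cfsg.Agent.Helper2.SS

open Matrix Cfsg Cfsg.Agent.Helper13 Cfsg.Agent.Helper84.SpRoot Cfsg.Agent.Helper5.SpAut
open Cfsg.Agent.Helper2.SR

section Core

variable {F : Type*} [Field F] {n : ℕ}

/-- the hypotheses of the second abstract generation criterion -/
structure Hyp2 (H : Subgroup (Matrix.symplecticGroup (Fin n) F))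
    (l : Matrix.symplecticGroup (Fin n) F) (e0 e1 p : Fin n ⊕ Fin n → F) (κ γ : F) : Prop where
  hl : l ∈ H
  hκ : sympT e0 κ ∈ H
  κ0 : κ ≠ 0
  le0 : l.val *ᵥ e0 = e1
  lp : l.val *ᵥ p = e0
  e1e0 : Cfsg.sympForm n F e1 e0 = 0
  pe0 : Cfsg.sympForm n F p e0 = 0
  e1p : Cfsg.sympForm n F e1 p = γ
  γ0 : γ ≠ 0
  gen : IsGen ((κ * γ) ^ 2)
  seed : ∃ w0 ∈ QQ H e0, Cfsg.sympForm n F w0 e1 ≠ 0 ∨ Cfsg.sympForm n F w0 p ≠ 0
  cyc : ∀ S : Submodule F (Fin n ⊕ Fin n → F), p ∈ S →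
    (∀ v ∈ Orb H e0, Cfsg.sympForm n F v e0 = 0 →
      (∃ w ∈ S, Cfsg.sympForm n F w v ≠ 0) → v ∈ S) →
    ∀ x, Cfsg.sympForm n F x e0 = 0 → x ∈ S

end Core

section Concrete

variable {F : Type*} [Field F] {m : ℕ}

/-- the matrix of the Coxeter element:
`e_i ↦ e_{i+1}`, `e_{n-1} ↦ f_0`, `f_i ↦ f_{i+1}`, `f_{n-1} ↦ -e_0` (columns = images) -/
def cM (m : ℕ) (F : Type*) [Field F] :
    Matrix (Fin (m + 2) ⊕ Fin (m + 2)) (Fin (m + 2) ⊕ Fin (m + 2)) F :=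
  Matrix.of fun a b =>
    match a, b with
    | Sum.inl i, Sum.inl j => if i.val = j.val + 1 then 1 else 0
    | Sum.inr i, Sum.inl j => if i.val = 0 ∧ j.val = m + 1 then 1 else 0
    | Sum.inr i, Sum.inr j => if i.val = j.val + 1 then 1 else 0
    | Sum.inl i, Sum.inr j => if i.val = 0 ∧ j.val = m + 1 then -1 else 0

open Classical in
/-- the Coxeter element (junk value `1` unless `cM` is symplectic; piece Y1) -/
noncomputable def cEl (m : ℕ) (F : Type*) [Field F] : Matrix.symplecticGroup (Fin (m + 2)) F :=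
  if h : cM m F ∈ Matrix.symplecticGroup (Fin (m + 2)) F then ⟨cM m F, h⟩ else 1

/-- `w = e_1 - e_0` -/
def wV : Fin (m + 2) ⊕ Fin (m + 2) → F := be 1 - be 0

/-- `w' = ξ e_{n-1} + f_1` -/
def wpV (ξ : F) : Fin (m + 2) ⊕ Fin (m + 2) → F := ξ • be jB + bf 1

/-- the semisimple element `y = T_w(α) T_{w'}(β)` -/
noncomputable def yEl (α β ξ : F) : Matrix.symplecticGroup (Fin (m + 2)) F :=
  sympT (wV (m := m)) α * sympT (wpV (m := m) ξ) β

/-- the second generator `b = T_{e_0}(1) y` -/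
noncomputable def bEl (α β ξ : F) : Matrix.symplecticGroup (Fin (m + 2)) F :=
  sympT (be (m := m) 0) 1 * yEl α β ξ

/-- `l = c y` -/
noncomputable def lEl (α β ξ : F) : Matrix.symplecticGroup (Fin (m + 2)) F :=
  cEl m F * yEl α β ξ

/-- `d = y e_1 = (1 - αβ) e_1 + αβ e_0 - βξ e_{n-1} - β f_1` -/
def dV (α β ξ : F) : Fin (m + 2) ⊕ Fin (m + 2) → F :=
  (1 - α * β) • be 1 + (α * β) • be 0 - (β * ξ) • be jB - β • bf 1

/-- `p = l⁻¹ e_0` for `n ≥ 3`: `p = - f_{n-1} + βξ w'` -/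
def pGe (β ξ : F) : Fin (m + 2) ⊕ Fin (m + 2) → F := - bf jB + (β * ξ) • wpV ξ

/-- `p = l⁻¹ e_0` for `n = 2`: `p = - f_1 + α w + β(ξ+α) w'` -/
def pTwo (α β ξ : F) : Fin (0 + 2) ⊕ Fin (0 + 2) → F :=
  - bf 1 + α • wV (m := 0) + (β * (ξ + α)) • wpV (m := 0) ξ

end Concrete

end Cfsg.Agent.Helper2.SS
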