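import Mathlib
import Cfsg.Agent.Lib.Helper13.OrthSimple

/-!
# Two opposite root groups generate `EK Q`

For a hyperbolic pair `u, v` of singular vectors (Witt index at least three) the root groups
`rootGroup Q u` and `rootGroup Q v` generate the whole group `EK Q`.
-/

set_option autoImplicit false

namespace Cfsg.Agent.Helper2.OrthRootGen

open Matrix QuadraticMap Cfsg.Agent.Helper13 Cfsg.Agent.Helper43 Cfsg.Agent.Helper14.ReflGen
open scoped Pointwise

variable {F : Type*} [Field F] {ι : Type} [Fintype ι] [DecidableEq ι]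
  (Q : QuadraticForm F (ι → F))

theorem EK_smul_smul_comm (g : ↥(EK Q)) (c : F) (v : ι → F) :
    g • (c • v) = c • (g • v) := by
  rw [EK_smul_def, EK_smul_def, O_smul_smul_comm]

/-- the root group of a singular point is transitive on the non-orthogonal singular points -/
theorem exists_root_nonorth (x y z : ι → F) (hx : Q x = 0) (hy : Q y = 0) (hz : Q z = 0)
    (hxy : polar (⇑Q) x y ≠ 0) (hxz : polar (⇑Q) x z ≠ 0) :
    ∃ g ∈ rootGroup Q x hx, ∃ c : F, c ≠ 0 ∧ g • y = c • z := by
  set α := polar (⇑Q) x y with hα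
  set β := polar (⇑Q) x z with hβ
  set w : ι → F := β⁻¹ • z - α⁻¹ • y with hw
  have hxx := polar_self_of_sing Q x hx
  have hyy := polar_self_of_sing Q y hy
  have hxw : polar (⇑Q) x w = 0 := by
    rw [hw, polar_sub_right, polar_smul_right, polar_smul_right, ← hα, ← hβ, smul_eq_mul,
      smul_eq_mul, inv_mul_cancel₀ hxy, inv_mul_cancel₀ hxz, sub_self]
  have hwy : polar (⇑Q) w y = β⁻¹ * polar (⇑Q) z y := by
    rw [hw, polar_sub_left, polar_smul_left, polar_smul_left, hyy]
    simp
  have hQw : Q w = -(β⁻¹ * α⁻¹ * polar (⇑Q) z y) := by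
    rw [hw, Q_sub, Q_smul', Q_smul', hy, hz, polar_smul_left, polar_smul_right]
    simp only [smul_eq_mul]
    ring
  refine ⟨eichK Q x w hx hxw, eichK_mem_rootGroup Q x w hx hxw, α * β⁻¹,
    mul_ne_zero hxy (inv_ne_zero hxz), ?_⟩
  rw [EK_smul_def]
  change eichO Q x w hx hxw • y = _
  rw [eichO_smul, ← hα, hwy, hQw, hw]
  have h1 : α * α⁻¹ = 1 := mul_inv_cancel₀ hxy
  match_scalars
  · linear_combination -h1
  · ring
  · linear_combination (β⁻¹ * polar (⇑Q) z y) * h1

/-- a root group in the orbit of `u` under a subgroup containing `rootGroup Q u` lies in it -/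
theorem rootGroup_le_of_orbit (H : Subgroup ↥(EK Q)) (u : ι → F) (hu : Q u = 0)
    (huH : rootGroup Q u hu ≤ H) (x : ι → F) (hx : Q x = 0) (h : ↥(EK Q)) (hh : h ∈ H)
    (c : F) (hc : c ≠ 0) (hux : h • u = c • x) : rootGroup Q x hx ≤ H := by
  have h' : Q (h • u) = 0 := by rw [EK_Q_smul]; exact hu
  have h1 : rootGroup Q (h • u) h' = MulAut.conj h • rootGroup Q u hu :=
    rootGroup_conj Q h u hu h'
  have key : ∀ (v : ι → F) (hv : Q v = 0), v = c • x →
      rootGroup Q v hv = rootGroup Q x hx := by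
    intro v hv hvx
    subst hvx
    exact rootGroup_smul Q c hc x hx hv
  rw [← key (h • u) h' hux, h1]
  intro A hA
  rw [Subgroup.mem_smul_pointwise_iff_exists] at hA
  obtain ⟨s, hs, rfl⟩ := hA
  rw [MulAut.smul_def, MulAut.conj_apply]
  exact H.mul_mem (H.mul_mem hh (huH hs)) (H.inv_mem hh)

theorem rootGroup_sup_eq_top (hQ : (polarBilin Q).Nondegenerate) {k : ℕ}
    (e f : Fin k → (ι → F)) (hef : IsHypFamily Q e f) (hk : 3 ≤ k) (u v : ι → F)
    (hu : Q u = 0) (hv : Q v = 0) (huv : polar (⇑Q) u v = 1) :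
    rootGroup Q u hu ⊔ rootGroup Q v hv = ⊤ := by
  set H : Subgroup ↥(EK Q) := rootGroup Q u hu ⊔ rootGroup Q v hv with hH
  have huH : rootGroup Q u hu ≤ H := le_sup_left
  have hvH : rootGroup Q v hv ≤ H := le_sup_right
  have hvu : polar (⇑Q) v u = 1 := by rw [polar_comm, huv]
  have huu := polar_self_of_sing Q u hu
  have hvv := polar_self_of_sing Q v hv
  -- `v` lies in the `H`-orbit of `u`
  have hvorb : ∃ h ∈ H, ∃ c : F, c ≠ 0 ∧ h • u = c • v := by
    obtain ⟨t, t', ht, ht', htt', hut, hvt, hut', hvt'⟩ := hyp_perp Q hQ e f hef hk u v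
    set z : ι → F := u + v + (t - t') with hz
    have hQtt : Q (t - t') = -1 := by
      rw [Q_sub, ht, ht', htt']; ring
    have hutt : polar (⇑Q) u (t - t') = 0 := by rw [polar_sub_right, hut, hut', sub_self]
    have hvtt : polar (⇑Q) v (t - t') = 0 := by rw [polar_sub_right, hvt, hvt', sub_self]
    have huz : polar (⇑Q) u z = 1 := by
      rw [hz, polar_add_right, polar_add_right, huu, huv, hutt]; ring
    have hvz : polar (⇑Q) v z = 1 := by
      rw [hz, polar_add_right, polar_add_right, hvu, hvv, hvtt]; ring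
    have hQz : Q z = 0 := by
      rw [hz, Q_add', Q_add', hu, hv, huv, hQtt, polar_add_left, hutt, hvtt]; ring
    obtain ⟨g₁, hg₁, c₁, hc₁, h1⟩ := exists_root_nonorth Q v u z hv hu hQz
      (by rw [hvu]; exact one_ne_zero) (by rw [hvz]; exact one_ne_zero)
    obtain ⟨g₂, hg₂, c₂, hc₂, h2⟩ := exists_root_nonorth Q u z v hu hQz hv
      (by rw [huz]; exact one_ne_zero) (by rw [huv]; exact one_ne_zero)
    refine ⟨g₂ * g₁, H.mul_mem (huH hg₂) (hvH hg₁), c₁ * c₂, mul_ne_zero hc₁ hc₂, ?_⟩
    rw [mul_smul, h1, EK_smul_smul_comm, h2, smul_smul]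
  obtain ⟨h₀, hh₀, c₀, hc₀, h₀u⟩ := hvorb
  -- every nonzero singular vector lies in the orbit
  have horb : ∀ x : ι → F, x ≠ 0 → Q x = 0 → ∃ h ∈ H, ∃ c : F, c ≠ 0 ∧ h • u = c • x := by
    intro x hx0 hx
    by_cases hvx : polar (⇑Q) v x = 0
    · by_cases hux : polar (⇑Q) u x = 0
      · -- `x` orthogonal to both
        have hli : LinearIndependent F ![v, x] := by
          have hv0 : v ≠ 0 := by
            rintro rfl
            rw [polar_zero_right] at huv
            exact zero_ne_one huv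
          rw [LinearIndependent.pair_iff' hv0]
          intro s hs
          have : polar (⇑Q) u x = s := by
            rw [← hs, polar_smul_right, huv, smul_eq_mul, mul_one]
          rw [hux] at this
          rw [← this, zero_smul] at hs
          exact hx0 hs.symm
        obtain ⟨z, hQz, hzv, hzx⟩ := exists_common_nonorth Q hQ v x hv hli hvx
        have hvz : polar (⇑Q) v z ≠ 0 := by rw [polar_comm]; exact hzv
        -- `z` is in the orbit
        obtain ⟨g₁, hg₁, c₁, hc₁, h1⟩ := exists_root_nonorth Q v u z hv hu hQz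
          (by rw [hvu]; exact one_ne_zero) hvz
        have hzH : rootGroup Q z hQz ≤ H :=
          rootGroup_le_of_orbit Q H u hu huH z hQz g₁ (hvH hg₁) c₁ hc₁ h1
        obtain ⟨g₂, hg₂, c₂, hc₂, h2⟩ := exists_root_nonorth Q z v x hQz hv hx hzv hzx
        refine ⟨g₂ * h₀, H.mul_mem (hzH hg₂) hh₀, c₀ * c₂, mul_ne_zero hc₀ hc₂, ?_⟩
        rw [mul_smul, h₀u, EK_smul_smul_comm, h2, smul_smul]
      · obtain ⟨g, hg, c, hc, h1⟩ := exists_root_nonorth Q u v x hu hv hx
          (by rw [huv]; exact one_ne_zero) hux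
        refine ⟨g * h₀, H.mul_mem (huH hg) hh₀, c₀ * c, mul_ne_zero hc₀ hc, ?_⟩
        rw [mul_smul, h₀u, EK_smul_smul_comm, h1, smul_smul]
    · obtain ⟨g, hg, c, hc, h1⟩ := exists_root_nonorth Q v u x hv hu hx
        (by rw [hvu]; exact one_ne_zero) hvx
      exact ⟨g, hvH hg, c, hc, h1⟩
  apply EK_eq_top_of_eichK
  intro x w hx hxw
  by_cases hx0 : x = 0
  · subst hx0
    have : eichK Q 0 w hx hxw = 1 := by
      apply Subtype.ext
      exact eichO_zero_left Q w
    rw [this]
    exact H.one_mem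
  · obtain ⟨h, hh, c, hc, hux⟩ := horb x hx0 hx
    exact rootGroup_le_of_orbit Q H u hu huH x hx h hh c hc hux
      (eichK_mem_rootGroup Q x w hx hxw)

end Cfsg.Agent.Helper2.OrthRootGen
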