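import Mathlib

set_option autoImplicit false

/-!
# The automizer of an abelian Sylow subgroup: orbit counting (helper2)
-/

namespace Cfsg.Agent.Helper2

open Subgroup

/-- An automorphism `σ` of prime order `q` of a finite group `P` has a proper fixed subgroup `F`
with `q ∣ |P| - |F|`. -/
theorem exists_fixed_subgroup_of_prime_order {P : Type*} [Group P] [Finite P] (σ : MulAut P) {q : ℕ}
    (hq : q.Prime) (hσ : orderOf σ = q) :
    ∃ d : ℕ, d ∣ Nat.card P ∧ d < Nat.card P ∧ q ∣ Nat.card P - d := by
  have : Fact q.Prime := ⟨hq⟩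
  let F : Subgroup P := MonoidHom.eqLocus σ.toMonoidHom (MonoidHom.id P)
  have hFmem : ∀ x : P, x ∈ F ↔ σ x = x := fun x => Iff.rfl
  have hFne : F ≠ ⊤ := by
    intro h
    have : σ = 1 := by
      ext x
      have : x ∈ F := h ▸ Subgroup.mem_top x
      exact (hFmem x).mp this
    rw [this, orderOf_one] at hσ
    exact hq.one_lt.ne hσ
  refine ⟨Nat.card F, Subgroup.card_subgroup_dvd_card F, ?_, ?_⟩
  · exact lt_of_le_of_ne (Subgroup.card_le_card_group F)
      (fun h => hFne ((Subgroup.card_eq_iff_eq_top F).mp h))
  · have hH : IsPGroup q (zpowers σ) := by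
      apply IsPGroup.of_card (n := 1)
      rw [Nat.card_zpowers, hσ, pow_one]
    have h1 := hH.card_modEq_card_fixedPoints P
    have h2 : Nat.card (MulAction.fixedPoints (zpowers σ) P) = Nat.card F := by
      apply Nat.card_congr
      apply Equiv.subtypeEquivRight
      intro x
      rw [MulAction.mem_fixedPoints, hFmem]
      constructor
      · intro h
        exact h ⟨σ, mem_zpowers σ⟩
      · intro h g
        have hle : zpowers σ ≤ MulAction.stabilizer (MulAut P) x := by
          rw [zpowers_le]
          exact h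
        exact hle g.2
    rw [h2] at h1
    exact (Nat.modEq_iff_dvd' (Subgroup.card_le_card_group F)).mp h1.symm

/-- Orbit counting for the automizer `N(P)/C(P)` of an abelian Sylow `p`-subgroup. -/
theorem normalizer_le_centralizer_of_orbit_count {G : Type*} [Group G] [Finite G] {p : ℕ}
    [Fact p.Prime] (P : Sylow p G) [hcomm : IsMulCommutative P]
    (h : ∀ q : ℕ, q.Prime → q ∣ Nat.card G → q ≠ p → ∀ d : ℕ, d ∣ Nat.card P → d < Nat.card P →
      ¬ q ∣ Nat.card P - d) :
    normalizer ((P : Subgroup G) : Set G) ≤ centralizer ((P : Subgroup G) : Set G) := by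
  by_contra hNC
  have hker := normalizerMonoidHom_ker (P : Subgroup G)
  have hcard : Nat.card (P : Subgroup G).normalizerMonoidHom.range =
      (centralizer ((P : Subgroup G) : Set G)).relIndex (normalizer ((P : Subgroup G) : Set G)) := by
    rw [← Subgroup.index_ker, hker]; rfl
  have hne : Nat.card (P : Subgroup G).normalizerMonoidHom.range ≠ 1 := by
    rw [hcard]
    intro h1
    exact hNC (relIndex_eq_one.mp h1)
  set A := (P : Subgroup G).normalizerMonoidHom.range with hA
  have hq : (Nat.card A).minFac.Prime := Nat.minFac_prime hne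
  have : Fact (Nat.card A).minFac.Prime := ⟨hq⟩
  have : Finite A := Finite.of_surjective _ (P : Subgroup G).normalizerMonoidHom.rangeRestrict_surjective
  obtain ⟨σ', hσ'⟩ := exists_prime_orderOf_dvd_card' (G := A) (Nat.card A).minFac (Nat.minFac_dvd _)
  have hσ : orderOf (σ' : MulAut (P : Subgroup G)) = (Nat.card A).minFac := by
    rw [Subgroup.orderOf_coe]; exact hσ'
  obtain ⟨d, hd1, hd2, hd3⟩ := exists_fixed_subgroup_of_prime_order (σ' : MulAut (P : Subgroup G)) hq hσ
  refine h _ hq ?_ ?_ d hd1 hd2 hd3
  · refine (Nat.minFac_dvd _).trans ?_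
    exact (Subgroup.card_range_dvd _).trans (Subgroup.card_subgroup_dvd_card _)
  · intro hqp
    have h1 : p ∣ Nat.card A := (dvd_of_eq hqp.symm).trans (Nat.minFac_dvd _)
    rw [hcard] at h1
    have h2 := relIndex_dvd_of_le_left (normalizer ((P : Subgroup G) : Set G)) (P : Subgroup G).le_centralizer
    have h3 := relIndex_dvd_index_of_le (P : Subgroup G).le_normalizer
    exact P.not_dvd_index ((h1.trans h2).trans h3)

end Cfsg.Agent.Helper2
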