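import Mathlib
import Cfsg.Agent.Lib.Helper60.BG144c
import Cfsg.Agent.S1375
import Cfsg.Agent.Lib.Helper1.Hall
import Cfsg.Agent.Lib.Helper25.BGNat

/-!
# B-G 14.13 / 14.14 (S1436), part A: the configuration and the conjugacy statement (helper2)

`Cfg M N x q X`: `x ∈ M_σ`, `X ≤ ⟨x⟩` of prime order `q`, `N ≠ M` maximal over `N_G(X)`, together with
helper60's structure `Sig M N q` (B-G 14.4).  `part2`: two such configurations over the same `M` whose
`N`'s are `G`-conjugate are `M`-conjugate.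
-/

set_option autoImplicit false
set_option linter.unusedSectionVars false
set_option linter.style.haveILetI false

namespace Cfsg.Agent.Helper2.BG1413

open Subgroup Cfsg
open Cfsg.Agent.Helper79.BG10 (cj mem_cj conj_mem_cj cj_mul cj_one cj_mono cj_le_iff card_cj
  isPGroup_cj cj_eq_self_of_mem cj_eq_self_of_mem_normalizer mem_normalizer_of_cj_eq cj_inv_cj
  cj_cj_inv normalizer_cj centralizer_cj)
open Cfsg.Agent.Helper55.BGB (sigmaCore_le isPi_sigmaCore le_normalizer_sigmaCore card_mul_relIndex)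
open Cfsg.Agent.Helper60.BG144
open scoped Pointwise

variable {G : Type*} [Group G] [Finite G]

/-- the configuration of B-G 14.4 -/
structure Cfg (M N : Subgroup G) (x : G) (q : ℕ) (X : Subgroup G) : Prop where
  hM : IsCoatom M
  hN : IsCoatom N
  hx : x ∈ sigmaCore M
  hx1 : x ≠ 1
  hq : q.Prime
  hqσ : q ∈ sigma M
  Xcard : Nat.card X = q
  XM : X ≤ M
  Xx : X ≤ zpowers x
  NX : normalizer (X : Set G) ≤ N
  ne : N ≠ M
  sig : Sig M N q

theorem Cfg.X_ne_bot {M N : Subgroup G} {x : G} {q : ℕ} {X : Subgroup G} (c : Cfg M N x q X) :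
    X ≠ ⊥ := by
  intro h
  have := c.Xcard
  rw [h, Subgroup.card_bot] at this
  exact c.hq.one_lt.ne this

theorem Cfg.X_pgroup {M N : Subgroup G} {x : G} {q : ℕ} {X : Subgroup G} (c : Cfg M N x q X) :
    IsPGroup q X := by
  haveI : Fact q.Prime := ⟨c.hq⟩
  exact IsPGroup.of_card (n := 1) (by rw [c.Xcard, pow_one])

theorem Cfg.X_le_N {M N : Subgroup G} {x : G} {q : ℕ} {X : Subgroup G} (c : Cfg M N x q X) :
    X ≤ N := le_normalizer.trans c.NX

theorem Cfg.cent_le {M N : Subgroup G} {x : G} {q : ℕ} {X : Subgroup G} (c : Cfg M N x q X) :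
    centralizer ({x} : Set G) ≤ N :=
  (centralizer_le_normalizer_of_le_zpowers c.Xx).trans c.NX

theorem Cfg.x_mem_N {M N : Subgroup G} {x : G} {q : ℕ} {X : Subgroup G} (c : Cfg M N x q X) :
    x ∈ N := c.cent_le (by rw [mem_centralizer_singleton_iff])

theorem Cfg.X_le_sigmaCore {M N : Subgroup G} {x : G} {q : ℕ} {X : Subgroup G}
    (c : Cfg M N x q X) : X ≤ sigmaCore M :=
  c.Xx.trans ((zpowers_le).mpr c.hx)

/-- a configuration from the hypotheses of S1436 -/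
theorem exists_cfg (hG : IsMinSimpleOddOrder G) {M : Subgroup G} (hM : IsCoatom M) {x : G}
    (hx : x ∈ sigmaCore M) (hx1 : x ≠ 1) (hxM : ¬ centralizer ({x} : Set G) ≤ M)
    {N : Subgroup G} (hN : IsCoatom N) (hxN : centralizer ({x} : Set G) ≤ N) :
    ∃ (q : ℕ) (X : Subgroup G), Cfg M N x q X := by
  obtain ⟨p, X, hp, hpσ, hpx, hXc, hXx, hXM, hXp, hX1⟩ := exists_prime_sub hx hx1
  haveI : Fact p.Prime := ⟨hp⟩
  have hNXM : ¬ normalizer (X : Set G) ≤ M := fun h =>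
    hxM ((centralizer_le_normalizer_of_le_zpowers hXx).trans h)
  have hXt : X ≠ ⊤ := fun h => hM.1 (top_le_iff.mp (h ▸ hXM))
  obtain ⟨N', hN', hNX⟩ := Cfsg.Agent.Helper34.BG.exists_coatom_ge
    (Cfsg.Agent.Helper34.BG.normalizer_ne_top hG hX1 hXt)
  obtain ⟨N₀, -, hu, -⟩ := Cfsg.Agent.S1375.result hG M hM x hx hx1 hxM
  have h1 : N = N₀ := hu N hN hxN
  have h2 : N' = N₀ := hu N' hN' ((centralizer_le_normalizer_of_le_zpowers hXx).trans hNX)
  have hNN : N' = N := h2.trans h1.symm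
  rw [hNN] at hNX
  have hne : N ≠ M := fun h => hNXM (h ▸ hNX)
  have hS := sig_of_normalizer_le hG hM hN hne hpσ hXc hXM hNX
  exact ⟨p, X, hM, hN, hx, hx1, hp, hpσ, hXc, hXM, hXx, hNX, hne, hS⟩

/-- the complement `M ∩ N` has order prime to its index in `N` -/
theorem Cfg.card_compl {M N : Subgroup G} {x : G} {q : ℕ} {X : Subgroup G} (c : Cfg M N x q X) :
    (M ⊓ N).relIndex N = Nat.card (sigmaCore N) ∧
      (Nat.card ↥(M ⊓ N)).Coprime (Nat.card (sigmaCore N)) := by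
  have hc3 := Cfsg.Agent.Helper23.card_of_isComplIn c.sig.compl
  have hc4 := card_mul_relIndex c.sig.hallN.1
  have hc5 := card_mul_relIndex (inf_le_right : M ⊓ N ≤ N)
  have hrel : (M ⊓ N).relIndex N = Nat.card (sigmaCore N) := by
    have hpos : 0 < Nat.card ↥(M ⊓ N) := Nat.card_pos
    apply Nat.eq_of_mul_eq_mul_left hpos
    rw [hc5, hc3]
  have hrel2 : (sigmaCore N).relIndex N = Nat.card ↥(M ⊓ N) := by
    have hpos : 0 < Nat.card ↥(sigmaCore N) := Nat.card_pos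
    apply Nat.eq_of_mul_eq_mul_left hpos
    rw [hc4, hc3, mul_comm]
  refine ⟨hrel, ?_⟩
  by_contra hnc
  obtain ⟨s, hs, h1, h2⟩ := Nat.Prime.not_coprime_iff_dvd.mp hnc
  have hsσ : s ∈ sigma N := c.sig.hallN.2.1 s hs h2
  exact c.sig.hallN.2.2 s hs hsσ (hrel2 ▸ h1)

/-- Hall conjugacy inside a solvable subgroup, internal form -/
theorem exists_conj_eq_of_card_eq {N D₁ D₂ : Subgroup G} (hs : Group.IsSolvable N)
    (h1 : D₁ ≤ N) (h2 : D₂ ≤ N) (hc : Nat.card D₁ = Nat.card D₂)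
    (hcop : (Nat.card D₁).Coprime (D₁.relIndex N)) :
    ∃ n ∈ N, cj n D₁ = D₂ := by
  haveI := hs
  have hcard : Nat.card N = Nat.card D₁ * D₁.relIndex N := (card_mul_relIndex h1).symm
  have hc1 : Nat.card (D₁.subgroupOf N) = Nat.card D₁ :=
    Cfsg.Agent.Helper34.BG.card_subgroupOf_of_le h1
  have hc2 : Nat.card (D₂.subgroupOf N) = Nat.card D₁ := by
    rw [Cfsg.Agent.Helper34.BG.card_subgroupOf_of_le h2, hc]
  obtain ⟨g, hg⟩ := Cfsg.Agent.Helper1.hall_conj (G := ↥N) (Nat.card D₁) (D₁.relIndex N) hcard hcop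
    (D₁.subgroupOf N) (D₂.subgroupOf N) hc1 hc2
  refine ⟨g.1, g.2, ?_⟩
  ext z
  constructor
  · intro hz
    rw [mem_cj] at hz
    have hzN : z ∈ N := by
      have : z = g.1 * (g.1⁻¹ * z * g.1) * g.1⁻¹ := by group
      rw [this]
      exact N.mul_mem (N.mul_mem g.2 (h1 hz)) (N.inv_mem g.2)
    have h3 : (⟨z, hzN⟩ : N) ∈ MulAut.conj g • D₁.subgroupOf N := by
      rw [Subgroup.mem_pointwise_smul_iff_inv_smul_mem, mem_subgroupOf]
      have : (((MulAut.conj g)⁻¹ • (⟨z, hzN⟩ : N) : N) : G) = g.1⁻¹ * z * g.1 := by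
        simp [MulAut.smul_def, MulAut.conj_symm_apply]
      rw [this]
      exact hz
    rw [hg] at h3
    exact mem_subgroupOf.mp h3
  · intro hz
    have hzN : z ∈ N := h2 hz
    have h3 : (⟨z, hzN⟩ : N) ∈ D₂.subgroupOf N := mem_subgroupOf.mpr hz
    rw [← hg, Subgroup.mem_pointwise_smul_iff_inv_smul_mem, mem_subgroupOf] at h3
    have : (((MulAut.conj g)⁻¹ • (⟨z, hzN⟩ : N) : N) : G) = g.1⁻¹ * z * g.1 := by
      simp [MulAut.smul_def, MulAut.conj_symm_apply]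
    rw [this] at h3
    rw [mem_cj]
    exact h3

theorem cj_inf (g : G) (A B : Subgroup G) : cj g (A ⊓ B) = cj g A ⊓ cj g B := by
  ext z
  simp only [mem_cj, Subgroup.mem_inf]

/-- B-G 14.14 (second half of S1436): conjugacy by an element of `M`. -/
theorem part2 (hG : IsMinSimpleOddOrder G) {M N N' : Subgroup G} {x y : G} {q q' : ℕ}
    {X X' : Subgroup G} (c : Cfg M N x q X) (c' : Cfg M N' y q' X') (g : G)
    (hg : cj g N' = N) : ∃ m ∈ M, cj m N' = N := by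
  haveI : Fact q.Prime := ⟨c.hq⟩
  -- cardinalities
  have hσ : sigmaCore N = cj g (sigmaCore N') := by
    rw [← hg]; exact Cfsg.Agent.Helper25.BGNat.sigmaCore_cj g N'
  have hcN : Nat.card N = Nat.card N' := by rw [← hg, card_cj]
  have hcσ : Nat.card (sigmaCore N) = Nat.card (sigmaCore N') := by rw [hσ, card_cj]
  have hcD : Nat.card ↥(M ⊓ N) * Nat.card (sigmaCore N) = Nat.card N :=
    (Cfsg.Agent.Helper23.card_of_isComplIn c.sig.compl).symm
  have hcD' : Nat.card ↥(M ⊓ N') * Nat.card (sigmaCore N') = Nat.card N' :=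
    (Cfsg.Agent.Helper23.card_of_isComplIn c'.sig.compl).symm
  have hcDD : Nat.card ↥(M ⊓ N) = Nat.card ↥(M ⊓ N') := by
    have hpos : 0 < Nat.card (sigmaCore N) := Nat.card_pos
    apply Nat.eq_of_mul_eq_mul_right hpos
    rw [hcD, hcN, ← hcD', hcσ]
  have hD₂N : cj g (M ⊓ N') ≤ N := by
    rw [← hg]; exact cj_mono g inf_le_right
  have hNs : Group.IsSolvable N := Cfsg.Agent.Helper34.BG.solvable_of_ne_top hG c.hN.1
  obtain ⟨hrel, hcop⟩ := c.card_compl
  obtain ⟨n, hn, hnD⟩ := exists_conj_eq_of_card_eq hNs hD₂N (inf_le_right : M ⊓ N ≤ N)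
    (by rw [card_cj, hcDD]) (by
      rw [card_cj, ← hcDD]
      have : (cj g (M ⊓ N')).relIndex N = Nat.card (sigmaCore N) := by
        have h5 := card_mul_relIndex hD₂N
        have hpos : 0 < Nat.card ↥(cj g (M ⊓ N')) := Nat.card_pos
        apply Nat.eq_of_mul_eq_mul_left hpos
        rw [h5, card_cj, ← hcDD, hcD]
      rw [this]
      exact hcop)
  -- `h = n g`, `D ≤ h M h⁻¹`
  have hD : M ⊓ N = cj (n * g) (M ⊓ N') := by rw [cj_mul, hnD]
  -- the Sylow `q`-subgroup `S` of `M ∩ N` over `X`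
  have hXMN : X ≤ M ⊓ N := le_inf c.XM c.X_le_N
  obtain ⟨S, hS⟩ := (c.X_pgroup.comap_subtype : IsPGroup q (X.subgroupOf (M ⊓ N))).exists_le_sylow
  have hXS : X ≤ (S : Subgroup ↥(M ⊓ N)).map (M ⊓ N).subtype := by
    intro a ha
    refine ⟨⟨a, hXMN ha⟩, hS ?_, rfl⟩
    exact ha
  obtain ⟨-, hNS, -⟩ := Cfsg.Agent.S1424.result hG M c.hM q c.hqσ X c.X_pgroup c.X_ne_bot c.XM N c.hN
    c.ne c.NX S hXS
  set S₀ : Subgroup G := (S : Subgroup ↥(M ⊓ N)).map (M ⊓ N).subtype with hS₀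
  have hS₀le : S₀ ≤ M ⊓ N := by
    rintro _ ⟨y, -, rfl⟩; exact y.2
  have hS₀p : IsPGroup q S₀ := S.isPGroup'.map _
  have hS₀1 : S₀ ≠ ⊥ := by
    intro h
    apply c.X_ne_bot
    rw [eq_bot_iff, ← h]
    exact hXS
  have hconj : cj (n * g)⁻¹ S₀ ≤ M := by
    rw [cj_le_iff, inv_inv]
    calc S₀ ≤ M ⊓ N := hS₀le
      _ = cj (n * g) (M ⊓ N') := hD
      _ ≤ cj (n * g) M := cj_mono _ inf_le_left
  obtain ⟨m, hm, c₀, hc₀, hmc⟩ :=
    (Cfsg.Agent.S1404.result hG M c.hM q c.hqσ S₀ hS₀p hS₀1 (hS₀le.trans inf_le_left)).1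
      (n * g)⁻¹ hconj
  have hc₀M : c₀ ∈ M := hNS (Subgroup.centralizer_le_normalizer _ hc₀)
  have hngM : n * g ∈ M := by
    have : n * g = ((n * g)⁻¹)⁻¹ := (inv_inv _).symm
    rw [this, hmc]
    exact M.inv_mem (M.mul_mem hm hc₀M)
  refine ⟨n * g, hngM, ?_⟩
  rw [cj_mul, hg]
  exact cj_eq_self_of_mem hn

end Cfsg.Agent.Helper2.BG1413
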