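import Mathlib
import Cfsg.Agent.Lib.Helper2.BG1413a
import Cfsg.Agent.S1405
import Cfsg.Agent.S1408
import Cfsg.Agent.S1414
import Cfsg.Agent.S1423
import Cfsg.Agent.Lib.Helper48.CoprimeGen
import Cfsg.Agent.Lib.Helper45.BGTools
import Cfsg.Agent.Lib.Helper55.Cores
import Cfsg.Agent.Lib.Helper55.BGHall

/-!
# B-G 14.13 (S1436), part B: steps 1 and 2 (helper2)

`step1`: in a configuration `Cfg M N x q X`, every prime of `σ(N)` dividing `#M` lies in `β(N)`.
`prank_one`: such a prime has rank at most one in `M`.  `step2`: a subgroup of order `p` lies in the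
`σ`-core of a conjugate `N₁` of `N`, the unique maximal subgroup over its centralizer.
-/

set_option autoImplicit false
set_option linter.unusedSectionVars false
set_option linter.style.haveILetI false

namespace Cfsg.Agent.Helper2.BG1413

open Subgroup Cfsg
open Cfsg.Agent.Helper79.BG10 (cj mem_cj conj_mem_cj cj_mul cj_one cj_mono cj_le_iff card_cj
  isPGroup_cj cj_eq_self_of_mem cj_eq_self_of_mem_normalizer mem_normalizer_of_cj_eq cj_inv_cj
  cj_cj_inv normalizer_cj centralizer_cj)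
open Cfsg.Agent.Helper55.BGB (sigmaCore_le isPi_sigmaCore le_normalizer_sigmaCore card_mul_relIndex)
open Cfsg.Agent.Helper60.BG144

variable {G : Type*} [Group G] [Finite G]

/-- a normal subgroup of index prime to `q` contains every `q`-subgroup -/
theorem le_of_isPGroup_of_not_dvd_index {H : Type*} [Group H] [Finite H] {q : ℕ} (hq : q.Prime)
    (K : Subgroup H) [K.Normal] (hK : ¬ q ∣ K.index) {Q : Subgroup H} (hQ : IsPGroup q Q) :
    Q ≤ K := by
  intro y hy
  obtain ⟨k, hk⟩ := hQ ⟨y, hy⟩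
  have hyk : y ^ q ^ k = 1 := by simpa using congrArg Subtype.val hk
  have hq' : ((QuotientGroup.mk' K) y) ^ q ^ k = 1 := by rw [← map_pow, hyk, map_one]
  have ho1 : orderOf ((QuotientGroup.mk' K) y) ∣ q ^ k := orderOf_dvd_of_pow_eq_one hq'
  have ho2 : orderOf ((QuotientGroup.mk' K) y) ∣ K.index := by
    rw [Subgroup.index_eq_card]; exact orderOf_dvd_natCard _
  have hcop : (q ^ k).Coprime K.index :=
    Nat.Coprime.pow_left _ ((Nat.Prime.coprime_iff_not_dvd hq).mpr hK)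
  have ho : orderOf ((QuotientGroup.mk' K) y) = 1 := Nat.eq_one_of_dvd_coprimes hcop ho1 ho2
  exact (QuotientGroup.eq_one_iff y).mp (orderOf_eq_one_iff.mp ho)

/-- a normal subgroup of `↥M`, seen in `G`, is normalized by `M` -/
theorem le_normalizer_map_subtype' (M : Subgroup G) (K : Subgroup ↥M) [hK : K.Normal] :
    M ≤ normalizer ((K.map M.subtype : Subgroup G) : Set G) := by
  intro m hm
  apply mem_normalizer_fintype
  rintro _ ⟨k, hk, rfl⟩
  refine ⟨(⟨m, hm⟩ : ↥M) * k * (⟨m, hm⟩ : ↥M)⁻¹, hK.conj_mem k hk _, ?_⟩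
  simp

/-- the Sylow `p`-subgroup of a nilpotent subgroup `H` normalized by `N` is normalized by `N` -/
theorem exists_normal_sylow_of_nilpotent {N H : Subgroup G} (hHN : N ≤ normalizer (H : Set G))
    (hnil : Group.IsNilpotent H) {p : ℕ} (hp : p.Prime) (hpH : p ∣ Nat.card H) :
    ∃ T : Subgroup G, T ≤ H ∧ T ≠ ⊥ ∧ IsPGroup p T ∧ N ≤ normalizer (T : Set G) := by
  haveI : Fact p.Prime := ⟨hp⟩
  obtain ⟨P⟩ : Nonempty (Sylow p ↥H) := inferInstance
  haveI : Group.IsNilpotent ↥H := hnil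
  have hPn : (P : Subgroup ↥H).Normal := inferInstance
  have hall : ∀ Q : Subgroup ↥H, IsPGroup p Q → Q ≤ (P : Subgroup ↥H) := by
    intro Q hQ
    obtain ⟨P', hP'⟩ := hQ.exists_le_sylow
    haveI := Sylow.unique_of_normal P hPn
    have : P' = P := Subsingleton.elim _ _
    rw [← this]; exact hP'
  set T : Subgroup G := (P : Subgroup ↥H).map H.subtype with hT
  have hTH : T ≤ H := by rintro _ ⟨y, -, rfl⟩; exact y.2
  have hTp : IsPGroup p T := P.isPGroup'.map _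
  refine ⟨T, hTH, ?_, hTp, ?_⟩
  · intro h
    have h1 : (P : Subgroup ↥H) ≠ ⊥ := P.ne_bot_of_dvd_card hpH
    apply h1
    rw [eq_bot_iff]
    intro y hy
    have : (y : G) ∈ T := ⟨y, hy, rfl⟩
    rw [h, Subgroup.mem_bot] at this
    exact Subgroup.mem_bot.mpr (Subtype.ext this)
  · intro n hn
    have hcjH : cj n T ≤ H := by
      intro z hz
      rw [mem_cj] at hz
      have h1 : n⁻¹ * z * n ∈ H := hTH hz
      have h2 := (mem_normalizer_iff.mp (hHN hn) (n⁻¹ * z * n)).mp h1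
      have : n * (n⁻¹ * z * n) * n⁻¹ = z := by group
      rwa [this] at h2
    have hle : cj n T ≤ T := by
      have h1 := hall ((cj n T).subgroupOf H) ((isPGroup_cj n hTp).comap_subtype)
      intro z hz
      have h2 : (⟨z, hcjH hz⟩ : ↥H) ∈ (cj n T).subgroupOf H := mem_subgroupOf.mpr hz
      exact ⟨⟨z, hcjH hz⟩, h1 h2, rfl⟩
    have heq : cj n T = T := Subgroup.eq_of_le_of_card_ge hle (by rw [card_cj])
    exact mem_normalizer_of_cj_eq heq

theorem Cfg.not_beta (hG : IsMinSimpleOddOrder G) {M N : Subgroup G} {x : G} {q : ℕ}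
    {X : Subgroup G} (c : Cfg M N x q X) : q ∉ beta M := by
  intro hβ
  haveI : Fact q.Prime := ⟨c.hq⟩
  obtain ⟨P⟩ : Nonempty (Sylow q ↥(sigmaCore M)) := inferInstance
  obtain ⟨⟨-, hu⟩, -, -⟩ :=
    Cfsg.Agent.S1423.result hG M c.hM q c.hqσ X c.XM c.Xcard P (Or.inl hβ)
  exact c.ne (hu N c.hN ((Subgroup.centralizer_le_normalizer _).trans c.NX))

theorem Cfg.exists_B {M N : Subgroup G} {x : G} {q : ℕ} {X : Subgroup G} (c : Cfg M N x q X) :
    ∃ B : Subgroup G, B ≤ N ∧ IsElementaryAbelian q B ∧ Nat.card B = q ^ 2 := by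
  haveI : Fact q.Prime := ⟨c.hq⟩
  obtain ⟨A₁, hA₁N, hA₁e, hA₁c⟩ :=
    Cfsg.Agent.Helper34.BG.exists_elemAb_of_not_pRankLE c.sig.tau2.2.2.2
  obtain ⟨B, hBA₁, hBe, hBc⟩ := Cfsg.Agent.Helper34.BG.exists_elemAb_card_eq hA₁e hA₁c
  exact ⟨B, hBA₁.trans hA₁N, hBe, hBc⟩

/-- a prime of `σ(N)` does not divide `#(M ∩ N)` -/
theorem Cfg.not_dvd_card_inf {M N : Subgroup G} {x : G} {q : ℕ} {X : Subgroup G}
    (c : Cfg M N x q X) {p : ℕ} (hp : p.Prime) (hpN : p ∈ sigma N) :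
    ¬ p ∣ Nat.card ↥(M ⊓ N) := by
  intro hd
  have hc3 := Cfsg.Agent.Helper23.card_of_isComplIn c.sig.compl
  have hc4 := card_mul_relIndex c.sig.hallN.1
  have hrel2 : (sigmaCore N).relIndex N = Nat.card ↥(M ⊓ N) := by
    have hpos : 0 < Nat.card ↥(sigmaCore N) := Nat.card_pos
    apply Nat.eq_of_mul_eq_mul_left hpos
    rw [hc4, hc3, mul_comm]
  exact c.sig.hallN.2.2 p hp hpN (hrel2 ▸ hd)

/-- a prime of `σ(N)` divides `#N_σ` -/
theorem dvd_card_sigmaCore {N : Subgroup G} (hH : IsPiHallOf (sigma N) (sigmaCore N) N) {p : ℕ}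
    (hpN : p ∈ sigma N) : p ∣ Nat.card (sigmaCore N) := by
  have hc4 := card_mul_relIndex hH.1
  have h1 : p ∣ Nat.card (sigmaCore N) * (sigmaCore N).relIndex N := by rw [hc4]; exact hpN.2.1
  rcases (Nat.Prime.dvd_mul hpN.1).mp h1 with h | h
  · exact h
  · exact absurd h (hH.2.2 p hpN.1 hpN)

/-- **Step 1**: every prime of `σ(N)` dividing `#M` is in `β(N)`. -/
theorem step1 (hG : IsMinSimpleOddOrder G) {M N : Subgroup G} {x : G} {q : ℕ} {X : Subgroup G}
    (c : Cfg M N x q X) {p : ℕ} (hpN : p ∈ sigma N) (hpM : p ∣ Nat.card M) : p ∈ beta N := by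
  by_contra hpβ
  have hp : p.Prime := hpN.1
  haveI : Fact p.Prime := ⟨hp⟩
  haveI : Fact q.Prime := ⟨c.hq⟩
  have hqN : q ∉ sigma N := c.sig.tau2.2.1
  have hpq : p ≠ q := fun h => hqN (h ▸ hpN)
  have hpσM : p ∉ sigma M := fun h => c.sig.disj p h hpN
  obtain ⟨B, hBN, hBe, hBc⟩ := c.exists_B
  have hBp : IsPGroup q B := Cfsg.Agent.Helper34.BG.isElementaryAbelian_isPGroup hBe
  obtain ⟨hnil, -, -, hCB, -, -⟩ :=
    Cfsg.Agent.S1417.result hG N c.hN q c.sig.tau2 B ⟨hBN, hBe, hBc⟩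
  have h14N := (Cfsg.Agent.S1414.result hG N c.hN).2.2.2.2 p hp hpN.2.1 hpβ
  -- `q ≤ p`
  have hqp : q ≤ p := by
    by_contra hlt
    have hnd : ¬ q ∣ (pPrimeCore p ↥N).index := fun h => hlt (h14N.2.2 q c.hq h)
    have hBW : B.subgroupOf N ≤ pPrimeCore p ↥N :=
      le_of_isPGroup_of_not_dvd_index c.hq _ hnd hBp.comap_subtype
    obtain ⟨T, hTle, hT1, hTp, hTn⟩ := exists_normal_sylow_of_nilpotent
      (le_normalizer_sigmaCore N) hnil hp (dvd_card_sigmaCore c.sig.hallN hpN)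
    set W : Subgroup G := (pPrimeCore p ↥N).map N.subtype with hW
    have hWn : N ≤ normalizer (W : Set G) := le_normalizer_map_subtype' N _
    have hBW' : B ≤ W := by
      intro b hb
      exact ⟨⟨b, hBN hb⟩, hBW (mem_subgroupOf.mpr hb), rfl⟩
    have hWcop : (Nat.card W).Coprime p := by
      rw [hW, Subgroup.card_map_of_injective N.subtype_injective]
      exact Cfsg.Agent.Helper55.pPrimeCore_coprime p
    have hTW : T ⊓ W = ⊥ := by
      apply Disjoint.eq_bot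
      apply Subgroup.disjoint_of_coprime_natCard
      obtain ⟨k, hk⟩ := IsPGroup.iff_card.mp hTp
      rw [hk]
      exact Nat.Coprime.pow_left k (Nat.Coprime.symm hWcop)
    have hTC : T ≤ sigmaCore N ⊓ centralizer (B : Set G) := by
      refine le_inf hTle ?_
      intro t ht
      rw [mem_centralizer_iff]
      intro b hb
      have htN : t ∈ N := sigmaCore_le N (hTle ht)
      have hbN : b ∈ N := hBN hb
      have h1 : b * t * b⁻¹ ∈ T := (mem_normalizer_iff.mp (hTn hbN) t).mp ht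
      have h2 : t * b⁻¹ * t⁻¹ ∈ W :=
        (mem_normalizer_iff.mp (hWn htN) b⁻¹).mp (W.inv_mem (hBW' hb))
      have h3 : b * t * b⁻¹ * t⁻¹ ∈ T ⊓ W := by
        refine ⟨T.mul_mem h1 (T.inv_mem ht), ?_⟩
        have : b * t * b⁻¹ * t⁻¹ = b * (t * b⁻¹ * t⁻¹) := by group
        rw [this]
        exact W.mul_mem (hBW' hb) h2
      rw [hTW, Subgroup.mem_bot] at h3
      have : b * t = (b * t * b⁻¹ * t⁻¹) * (t * b) := by group
      rw [this, h3, one_mul]
    rw [hCB] at hTC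
    exact hT1 (le_bot_iff.mp hTC)
  have hqltp : q < p := lt_of_le_of_ne hqp (Ne.symm hpq)
  have hqM : q ∣ Nat.card M := c.hqσ.2.1
  have hqβ := c.not_beta hG
  have h14M := (Cfsg.Agent.S1414.result hG M c.hM).2.2.2.2 q c.hq hqM hqβ
  have hpnd : ¬ p ∣ (pPrimeCore q ↥M).index := fun h =>
    absurd (h14M.2.2 p hp h) (not_le.mpr hqltp)
  set W : Subgroup G := (pPrimeCore q ↥M).map M.subtype with hW
  have hWM : W ≤ M := by rintro _ ⟨y, -, rfl⟩; exact y.2
  have hWn : M ≤ normalizer (W : Set G) := le_normalizer_map_subtype' M _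
  have hWc : Nat.card W = Nat.card (pPrimeCore q ↥M) := by
    rw [hW, Subgroup.card_map_of_injective M.subtype_injective]
  have hWcop : (Nat.card W).Coprime q := by
    rw [hWc]; exact Cfsg.Agent.Helper55.pPrimeCore_coprime q
  have hpW : p ∣ Nat.card W := by
    have h1 : p ∣ Nat.card (pPrimeCore q ↥M) * (pPrimeCore q ↥M).index := by
      rw [Subgroup.card_mul_index]; exact hpM
    rcases (Nat.Prime.dvd_mul hp).mp h1 with h | h
    · rw [hWc]; exact h
    · exact absurd h hpnd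
  obtain ⟨S, hS⟩ := Cfsg.Agent.Helper48.exists_sylow_normalized_by (p := q) p X W c.X_pgroup
    (c.XM.trans hWn) hWcop
  set Sp : Subgroup G := (S : Subgroup W).map W.subtype with hSp
  have hSpW : Sp ≤ W := by rintro _ ⟨y, -, rfl⟩; exact y.2
  have hSpp : IsPGroup p Sp := S.isPGroup'.map _
  have hSp1 : Sp ≠ ⊥ := by
    intro h
    have h1 : (S : Subgroup W) ≠ ⊥ := S.ne_bot_of_dvd_card hpW
    apply h1
    rw [eq_bot_iff]
    intro y hy
    have : (y : G) ∈ Sp := ⟨y, hy, rfl⟩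
    rw [h, Subgroup.mem_bot] at this
    exact Subgroup.mem_bot.mpr (Subtype.ext this)
  have hSpσ : Sp ⊓ sigmaCore M = ⊥ := by
    apply Disjoint.eq_bot
    apply Subgroup.disjoint_of_coprime_natCard
    obtain ⟨k, hk⟩ := IsPGroup.iff_card.mp hSpp
    rw [hk]
    apply Nat.Coprime.pow_left
    rw [Nat.Prime.coprime_iff_not_dvd hp]
    intro hd
    exact hpσM (isPi_sigmaCore M p hp hd)
  have hSpC : Sp ≤ centralizer (X : Set G) := by
    intro s hs
    rw [mem_centralizer_iff]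
    intro y hy
    have hsM : s ∈ M := hWM (hSpW hs)
    have hyσ : y ∈ sigmaCore M := c.X_le_sigmaCore hy
    have h1 : s * y * s⁻¹ ∈ sigmaCore M :=
      (mem_normalizer_iff.mp (le_normalizer_sigmaCore M hsM) y).mp hyσ
    have h2 : y * s⁻¹ * y⁻¹ ∈ Sp := (mem_normalizer_iff.mp (hS y hy) s⁻¹).mp (Sp.inv_mem hs)
    have h3 : s * y * s⁻¹ * y⁻¹ ∈ Sp ⊓ sigmaCore M := by
      refine ⟨?_, (sigmaCore M).mul_mem h1 ((sigmaCore M).inv_mem hyσ)⟩
      have : s * y * s⁻¹ * y⁻¹ = s * (y * s⁻¹ * y⁻¹) := by group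
      rw [this]
      exact Sp.mul_mem hs h2
    rw [hSpσ, Subgroup.mem_bot] at h3
    have : y * s = (s * y * s⁻¹ * y⁻¹)⁻¹ * (s * y) := by group
    rw [this, h3, inv_one, one_mul]
  have hSpMN : Sp ≤ M ⊓ N :=
    le_inf (hSpW.trans hWM) (hSpC.trans ((Subgroup.centralizer_le_normalizer _).trans c.NX))
  have hpSp : p ∣ Nat.card Sp := by
    obtain ⟨k, hk⟩ := IsPGroup.iff_card.mp hSpp
    rw [hk]
    rcases Nat.eq_zero_or_pos k with h0 | h0
    · exfalso
      rw [h0, pow_zero] at hk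
      exact hSp1 (Subgroup.card_eq_one.mp hk)
    · exact dvd_pow_self p h0.ne'
  exact c.not_dvd_card_inf hp hpN (hpSp.trans (Subgroup.card_dvd_of_le hSpMN))

/-- rank at most one in `M` for a prime of `β(N) ∩ σ(N)` dividing `#M` -/
theorem prank_one (hG : IsMinSimpleOddOrder G) {M N : Subgroup G} {x : G} {q : ℕ}
    {X : Subgroup G} (c : Cfg M N x q X) {p : ℕ} (hpN : p ∈ sigma N) (hpβ : p ∈ beta N) :
    p ∉ sigma M ∧ PRankLE p 1 M := by
  have hp : p.Prime := hpN.1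
  haveI : Fact p.Prime := ⟨hp⟩
  have hpσM : p ∉ sigma M := fun h => c.sig.disj p h hpN
  refine ⟨hpσM, ?_⟩
  obtain ⟨hα1, -, hα3, -, -⟩ := Cfsg.Agent.S1405.result hG M c.hM
  have hr2 : PRankLE p 2 M :=
    Cfsg.Agent.Helper55.BGB.prankLE_two_of_not_mem_sigma hp hα1 hα3 hpσM
  by_contra hr1
  exact (Cfsg.Agent.S1408.result hG M c.hM p hpσM hr2 hr1).1 hpβ.2

/-- **Step 2**: a subgroup `P` of order `p ∈ β(N) ∩ σ(N)` lies in the `σ`-core of a conjugate
`N₁ = c₁⁻¹ N c₁`, the unique maximal subgroup over `C_G(P)`. -/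
theorem step2 (hG : IsMinSimpleOddOrder G) {N : Subgroup G} (hN : IsCoatom N) {p : ℕ}
    (hpN : p ∈ sigma N) (hpβ : p ∈ beta N) {P : Subgroup G} (hPc : Nat.card P = p) :
    ∃ c₁ : G, cj c₁ P ≤ sigmaCore N ∧ centralizer (P : Set G) ≤ cj c₁⁻¹ N ∧
      ∀ L : Subgroup G, IsCoatom L → centralizer (P : Set G) ≤ L → L = cj c₁⁻¹ N := by
  have hp : p.Prime := hpN.1
  haveI : Fact p.Prime := ⟨hp⟩
  have hPp : IsPGroup p P := IsPGroup.of_card (n := 1) (by rw [hPc, pow_one])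
  obtain ⟨-, hHallG, -⟩ := Cfsg.Agent.S1350.result hG N hN
  have hidx : ¬ p ∣ (sigmaCore N).relIndex ⊤ := by
    rw [Subgroup.relIndex_top_right]; exact hHallG.2 p hp hpN
  obtain ⟨c₁, -, hc₁⟩ := Cfsg.Agent.Helper45.BGTools.exists_conj_le hidx le_top hPp
  obtain ⟨P'⟩ : Nonempty (Sylow p ↥(sigmaCore N)) := inferInstance
  obtain ⟨⟨h1, hu⟩, -, -⟩ := Cfsg.Agent.S1423.result hG N hN p hpN (cj c₁ P)
    (hc₁.trans (sigmaCore_le N)) (by rw [card_cj, hPc]) P' (Or.inl hpβ)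
  have hcent : centralizer (P : Set G) = cj c₁⁻¹ (centralizer ((cj c₁ P : Subgroup G) : Set G)) := by
    rw [centralizer_cj, cj_inv_cj]
  refine ⟨c₁, hc₁, ?_, ?_⟩
  · rw [hcent]; exact cj_mono _ h1
  · intro L hL hPL
    have h2 : cj c₁ L = N := hu (cj c₁ L) (Cfsg.Agent.Helper25.BGNat.isCoatom_cj hL) (by
      rw [centralizer_cj]; exact cj_mono _ hPL)
    rw [← h2, cj_inv_cj]

end Cfsg.Agent.Helper2.BG1413
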