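import Mathlib
import Cfsg.Agent.Lib.Helper2.BG1413b
import Cfsg.Agent.S1351
import Cfsg.Agent.S1352
import Cfsg.Agent.S1366
import Cfsg.Agent.S1367
import Cfsg.Agent.S1372
import Cfsg.Agent.S1418
import Cfsg.Agent.S1434
import Cfsg.Agent.Lib.Helper45.BG143
import Cfsg.Agent.Lib.Helper69.BG11d
import Cfsg.Agent.Lib.Helper34.BG10d
import Cfsg.Agent.Lib.Helper1.Coprime

/-!
# B-G 14.13 (S1436), part C: steps 3 and 4 (helper2)

`kappa_empty` : `κ(M) = ∅`;  `tau2_empty` : `τ₂(M) = ∅`, in a configuration `Cfg M N x q X` with a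
prime of `σ(N)` dividing `#M`.
-/

set_option autoImplicit false
set_option linter.unusedSectionVars false
set_option linter.style.haveILetI false

namespace Cfsg.Agent.Helper2.BG1413

open Subgroup Cfsg
open Cfsg.Agent.Helper79.BG10 (cj mem_cj conj_mem_cj cj_mul cj_one cj_mono cj_le_iff card_cj
  isPGroup_cj cj_eq_self_of_mem cj_eq_self_of_mem_normalizer mem_normalizer_of_cj_eq cj_inv_cj
  cj_cj_inv normalizer_cj centralizer_cj)
open Cfsg.Agent.Helper55.BGB (sigmaCore_le isPi_sigmaCore le_normalizer_sigmaCore card_mul_relIndex)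
open Cfsg.Agent.Helper60.BG144

variable {G : Type*} [Group G] [Finite G]

theorem centralizer_zpowers_eq (a : G) :
    centralizer ((zpowers a : Subgroup G) : Set G) = centralizer ({a} : Set G) := by
  ext c
  rw [mem_centralizer_iff, mem_centralizer_singleton_iff]
  constructor
  · intro h
    exact (h a (mem_zpowers a)).symm
  · intro h y hy
    obtain ⟨k, rfl⟩ := mem_zpowers_iff.mp hy
    have hc : Commute c a := h
    exact (Commute.zpow_right hc k).eq.symm

/-- a subgroup of prime order is generated by any of its non-identity elements -/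
theorem zpowers_eq_of_card_prime {r : ℕ} (hr : r.Prime) {Y : Subgroup G} (hYc : Nat.card Y = r)
    {y : G} (hy : y ∈ Y) (hy1 : y ≠ 1) : zpowers y = Y ∧ orderOf y = r := by
  have h1 : orderOf y ∣ r := by
    rw [← hYc]
    exact Subgroup.orderOf_dvd_natCard Y hy
  have h2 : orderOf y = r := by
    rcases (Nat.dvd_prime hr).mp h1 with h | h
    · exact absurd (orderOf_eq_one_iff.mp h) hy1
    · exact h
  refine ⟨?_, h2⟩
  apply Subgroup.eq_of_le_of_card_ge ((zpowers_le).mpr hy)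
  rw [Nat.card_zpowers, h2, hYc]

theorem exists_ne_one_of_card_prime {r : ℕ} (hr : r.Prime) {Y : Subgroup G} (hYc : Nat.card Y = r) :
    ∃ y ∈ Y, y ≠ 1 := by
  have hY1 : Y ≠ ⊥ := by
    intro h
    rw [h, Subgroup.card_bot] at hYc
    exact hr.one_lt.ne hYc
  obtain ⟨⟨y, hy⟩, hy1⟩ := (Subgroup.ne_bot_iff_exists_ne_one).mp hY1
  exact ⟨y, hy, fun h => hy1 (Subtype.ext h)⟩

/-- in an `r`-group of rank at most one, two subgroups of order `r` coincide -/
theorem eq_of_card_eq_of_pRankLE_one {r : ℕ} [hr : Fact r.Prime] {R Y Z : Subgroup G}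
    (hRp : IsPGroup r R) (h1 : PRankLE r 1 ↥R) (hY : Y ≤ R) (hZ : Z ≤ R)
    (hYc : Nat.card Y = r) (hZc : Nat.card Z = r) : Y = Z := by
  obtain ⟨y₀, hy₀, hy₀1⟩ := exists_ne_one_of_card_prime hr.out hYc
  have hnt : Nontrivial ↥R := ⟨⟨⟨y₀, hY hy₀⟩, 1, fun h => hy₀1 (congrArg Subtype.val h)⟩⟩
  obtain ⟨z, hzR, hzc, hzo⟩ := Cfsg.Agent.Helper34.BG.exists_central_order_p hRp hnt
  have hzr : z ^ r = 1 := by rw [← hzo]; exact pow_orderOf_eq_one z
  have key : ∀ W : Subgroup G, W ≤ R → Nat.card W = r → W = zpowers z := by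
    intro W hW hWc
    obtain ⟨w, hw, hw1⟩ := exists_ne_one_of_card_prime hr.out hWc
    obtain ⟨hWw, hwo⟩ := zpowers_eq_of_card_prime hr.out hWc hw hw1
    have hwr : w ^ r = 1 := by rw [← hwo]; exact pow_orderOf_eq_one w
    have hE : IsElementaryAbelian r (zpowers z ⊔ zpowers w) := by
      apply Cfsg.Agent.Helper34.BG.isElementaryAbelian_sup
        (Cfsg.Agent.Helper34.BG.isElementaryAbelian_zpowers hzr)
        (Cfsg.Agent.Helper34.BG.isElementaryAbelian_zpowers hwr)
      intro a ha b hb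
      obtain ⟨k, rfl⟩ := mem_zpowers_iff.mp ha
      have hbR : b ∈ R := hW (hWw ▸ hb)
      have hzb : Commute z b := (hzc b hbR).symm
      exact (Commute.zpow_left hzb k).eq
    have hER : zpowers z ⊔ zpowers w ≤ R :=
      sup_le ((zpowers_le).mpr hzR) ((zpowers_le).mpr (hW hw))
    have hc : Nat.card ↥(zpowers z ⊔ zpowers w) ≤ r := by
      by_contra hlt
      push Not at hlt
      exact Cfsg.Agent.Helper34.BG.not_pRankLE_of_elemAb hER hE (by rw [pow_one]; exact hlt) h1
    have heq : zpowers z = zpowers z ⊔ zpowers w := by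
      apply Subgroup.eq_of_le_of_card_ge le_sup_left
      rw [Nat.card_zpowers, hzo]
      exact hc
    have hwz : zpowers w ≤ zpowers z := by
      rw [heq]; exact le_sup_right
    rw [← hWw]
    apply Subgroup.eq_of_le_of_card_ge hwz
    rw [Nat.card_zpowers, Nat.card_zpowers, hwo, hzo]
  rw [key Y hY hYc, key Z hZ hZc]

/-- a prime dividing `#M`, outside `σ(M)` and `κ(M) = ∅`, of rank one in `M`: subgroups of that order
are fixed-point-free on `M_σ` (B-G 14.3 = S1432). -/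
theorem fpf_of_rank_one (hG : IsMinSimpleOddOrder G) {M : Subgroup G} (hM : IsCoatom M)
    (hκ : kappa M = ∅) {p : ℕ} (hp : p.Prime) (hpσ : p ∉ sigma M) (hr1 : PRankLE p 1 M)
    {P : Subgroup G} (hPM : P ≤ M) (hPc : Nat.card P = p) :
    sigmaCore M ⊓ centralizer (P : Set G) = ⊥ := by
  rw [eq_bot_iff]
  intro y hy
  rw [Subgroup.mem_bot]
  by_contra hy1
  obtain ⟨z, hzP, hz1⟩ := exists_ne_one_of_card_prime hp hPc
  obtain ⟨-, hzo⟩ := zpowers_eq_of_card_prime hp hPc hzP hz1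
  have hzy : z * y = y * z := (mem_centralizer_iff.mp hy.2 z hzP)
  have hσ' : ∀ s : ℕ, s.Prime → s ∣ orderOf z → s ∉ sigma M := by
    intro s hs hd
    rw [hzo] at hd
    rw [(Nat.prime_dvd_prime_iff_eq hs hp).mp hd]
    exact hpσ
  rcases Cfsg.Agent.S1432.result hG M hM y hy.1 hy1 z
    ⟨hPM hzP, mem_centralizer_singleton_iff.mpr hzy⟩ hz1 hσ' with ⟨h1, -⟩ | ⟨h1, -, -⟩
  · have : p ∈ kappa M := h1 p hp (by rw [hzo])
    rw [hκ] at this
    exact this
  · have : p ∈ tau2 M := h1 p hp (by rw [hzo])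
    exact this.2.2.2 hr1

theorem le_normalizer_fittingOf' (M : Subgroup G) :
    M ≤ normalizer ((fittingOf M : Subgroup G) : Set G) := by
  haveI : (fittingSubgroup ↥M).Normal := Subgroup.sSup_normal _ (fun _ h => h.1)
  unfold fittingOf
  exact le_normalizer_map_subtype' M _

/-- **Step 3**: `κ(M) = ∅`. -/
theorem kappa_empty (hG : IsMinSimpleOddOrder G) {M N : Subgroup G} {x : G} {q : ℕ}
    {X : Subgroup G} (c : Cfg M N x q X) (hxM : ¬ centralizer ({x} : Set G) ≤ M) {p : ℕ}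
    (hpN : p ∈ sigma N) (hpM : p ∣ Nat.card M) : kappa M = ∅ := by
  have hpβ := step1 hG c hpN hpM
  obtain ⟨hpσM, hr1⟩ := prank_one hG c hpN hpβ
  have hp := hpN.1
  haveI : Fact p.Prime := ⟨hp⟩
  haveI : Fact q.Prime := ⟨c.hq⟩
  by_contra hne
  obtain ⟨s, hs⟩ := Set.nonempty_iff_ne_empty.mpr hne
  obtain ⟨⟨K, hK⟩, hcyc⟩ := Cfsg.Agent.S1351.result hG M c.hM
  have hKc := hcyc K hK
  obtain ⟨⟨U, hKU⟩, -⟩ := Cfsg.Agent.S1352.result hG M c.hM K hKc hK
  have hK1 : K ≠ ⊥ := Cfsg.Agent.Helper45.BG143.hall_ne_bot hK hs.1 hs hs.2.1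
  obtain ⟨Mstar, ⟨hMs, hKst, hKstH⟩, -⟩ := Cfsg.Agent.S1366.result hG M c.hM K U hKU hK1
  by_cases hpκ : p ∈ kappa M
  · -- `P ≤ K` of order `p`
    have hpK : p ∣ Nat.card K := by
      have h2 := card_mul_relIndex hK.1
      have h3 : p ∣ Nat.card K * K.relIndex M := by rw [h2]; exact hpM
      rcases (Nat.Prime.dvd_mul hp).mp h3 with h | h
      · exact h
      · exact absurd h (hK.2.2 p hp hpκ)
    obtain ⟨z, hz⟩ := exists_prime_orderOf_dvd_card' (G := K) p hpK
    have hPc : Nat.card (zpowers (z : G)) = p := by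
      rw [Nat.card_zpowers, Subgroup.orderOf_coe, hz]
    have hPK : zpowers (z : G) ≤ K := (zpowers_le).mpr z.2
    obtain ⟨c₁, hc₁, hcent, hu⟩ := step2 hG c.hN hpN hpβ hPc
    obtain ⟨hY1, -⟩ := (Cfsg.Agent.S1367.result hG M c.hM K U hKU hK1 Mstar hMs hKst hKstH).2
      (zpowers (z : G)) hPK (by rw [hPc]; exact hp)
    have hMN1 : Mstar = cj c₁⁻¹ N := hu Mstar hMs hY1
    obtain ⟨-, hHσ, -⟩ := Cfsg.Agent.S1434.result hG M c.hM K U hKU hK1 Mstar hMs hKst hKstH
    obtain ⟨B, hBN, hBe, hBc⟩ := c.exists_B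
    have hB' : cj c₁⁻¹ B ≤ Mstar := by rw [hMN1]; exact cj_mono _ hBN
    have hqMs : q ∣ Nat.card Mstar := by
      have h1 : Nat.card (cj c₁⁻¹ B) ∣ Nat.card Mstar := Subgroup.card_dvd_of_le hB'
      rw [card_cj, hBc] at h1
      exact (dvd_pow_self q (by norm_num)).trans h1
    have hqKs : q ∣ Nat.card ↥(sigmaCore M ⊓ centralizer (K : Set G)) := by
      have h2 := card_mul_relIndex hHσ.1
      have h3 : q ∣ Nat.card ↥(sigmaCore M ⊓ centralizer (K : Set G)) *
          (sigmaCore M ⊓ centralizer (K : Set G)).relIndex Mstar := by rw [h2]; exact hqMs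
      rcases (Nat.Prime.dvd_mul c.hq).mp h3 with h | h
      · exact h
      · exact absurd h (hHσ.2.2 q c.hq c.hqσ)
    have hqκ : q ∈ kappa Mstar := hKstH.2.1 q c.hq hqKs
    exact Cfsg.Agent.Helper45.BG143.not_pRankLE_one_of_elemAb c.hq hB' (elemAb_cj hBe _)
      (by rw [card_cj, hBc]) (Cfsg.Agent.Helper45.BG143.pRankLE_one_of_kappa hqκ)
  · -- `U ≠ 1`
    have hU1 : U ≠ ⊥ := by
      intro hU
      have hcard := Cfsg.Agent.Helper55.BGB.card_decomp hKU
      rw [hU, Subgroup.card_bot, one_mul] at hcard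
      rw [hcard] at hpM
      rcases (Nat.Prime.dvd_mul hp).mp hpM with h | h
      · exact hpκ (hK.2.1 p hp h)
      · exact hpσM (isPi_sigmaCore M p hp h)
    obtain ⟨-, hTI, hle⟩ := Cfsg.Agent.S1372.result hG M c.hM K U hKU hK1 hU1
    have hF1 : fittingOf M ≠ ⊥ := by
      intro h
      have := hle c.hx
      rw [h, Subgroup.mem_bot] at this
      exact c.hx1 this
    have hnorm : normalizer ((fittingOf M : Subgroup G) : Set G) = M :=
      normalizer_eq_of_coatom hG c.hM (Cfsg.Agent.Helper55.BGB.fittingOf_le M) hF1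
        (le_normalizer_fittingOf' M)
    apply hxM
    intro g hg
    by_contra hgM
    have hgn : g ∉ normalizer ((fittingOf M : Subgroup G) : Set G) := by rw [hnorm]; exact hgM
    have hgx : g * x * g⁻¹ = x := by
      have := mem_centralizer_singleton_iff.mp hg
      rw [this, mul_inv_cancel_right]
    have := hTI g hgn x (hle c.hx) (by rw [hgx]; exact hle c.hx)
    exact c.hx1 this

end Cfsg.Agent.Helper2.BG1413
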