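import Mathlib
import Cfsg.Agent.Lib.Helper2.BG1413c

/-!
# B-G 14.13 (S1436), part D: step 4, `τ₂(M) = ∅` (helper2)
-/

set_option autoImplicit false
set_option linter.unusedSectionVars false
set_option linter.style.haveILetI false
set_option maxHeartbeats 800000

namespace Cfsg.Agent.Helper2.BG1413

open Subgroup Cfsg
open Cfsg.Agent.Helper79.BG10 (cj mem_cj conj_mem_cj cj_mul cj_one cj_mono cj_le_iff card_cj
  isPGroup_cj cj_eq_self_of_mem cj_eq_self_of_mem_normalizer mem_normalizer_of_cj_eq cj_inv_cj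
  cj_cj_inv normalizer_cj centralizer_cj)
open Cfsg.Agent.Helper55.BGB (sigmaCore_le isPi_sigmaCore le_normalizer_sigmaCore card_mul_relIndex)
open Cfsg.Agent.Helper60.BG144

variable {G : Type*} [Group G] [Finite G]

/-- the common data of step 4 -/
structure S4 (M N : Subgroup G) (p r : ℕ) (E A P : Subgroup G) (z c₁ : G) : Prop where
  hp : p.Prime
  hr : r ∈ tau2 M
  hpr : p ≠ r
  hE : IsComplIn E (sigmaCore M) M
  hAE : A ≤ E
  hAe : IsElementaryAbelian r A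
  hAc : Nat.card A = r ^ 2
  hPE : P ≤ E
  hPc : Nat.card P = p
  hzP : z ∈ P
  hz1 : z ≠ 1
  hfpf : sigmaCore M ⊓ centralizer (P : Set G) = ⊥
  hc₁ : cj c₁ P ≤ sigmaCore N
  hcent : centralizer (P : Set G) ≤ cj c₁⁻¹ N
  hu : ∀ L : Subgroup G, IsCoatom L → centralizer (P : Set G) ≤ L → L = cj c₁⁻¹ N

/-- some `a ∈ A#` has fixed points on `M_σ` -/
theorem exists_fixed (hG : IsMinSimpleOddOrder G) {M N : Subgroup G} {x : G} {q : ℕ}
    {X : Subgroup G} (c : Cfg M N x q X) {p r : ℕ} {E A P : Subgroup G} {z c₁ : G}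
    (d : S4 M N p r E A P z c₁) :
    ∃ a ∈ A, a ≠ 1 ∧ sigmaCore M ⊓ centralizer ({a} : Set G) ≠ ⊥ := by
  haveI : Fact r.Prime := ⟨d.hr.1⟩
  have hAM : A ≤ M := d.hAE.trans d.hE.1
  have hσ1 : sigmaCore M ≠ ⊥ := by
    intro h
    have := c.hx
    rw [h, Subgroup.mem_bot] at this
    exact c.hx1 this
  have hcopr : (Nat.card (sigmaCore M)).Coprime r := by
    rw [Nat.coprime_comm, Nat.Prime.coprime_iff_not_dvd d.hr.1]
    intro hd
    exact d.hr.2.1 (isPi_sigmaCore M r d.hr.1 hd)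
  by_contra hcon
  push Not at hcon
  have := Cfsg.Agent.Helper48.le_of_forall_inf_centralizer_le (p := r) A (sigmaCore M) ⊥
    (fun x hx y hy => Cfsg.Agent.Helper34.BG.commute_of_isElementaryAbelian d.hAe hx hy) d.hAe.2
    (le_of_eq d.hAc.symm) (hAM.trans (le_normalizer_sigmaCore M)) hcopr
    (fun a ha ha1 => by rw [hcon a ha ha1])
  exact hσ1 (le_bot_iff.mp this)

/-- step 4, the case `[A, P] = 1` -/
theorem step4_central (hG : IsMinSimpleOddOrder G) {M N : Subgroup G} {x : G} {q : ℕ}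
    {X : Subgroup G} (c : Cfg M N x q X) {p r : ℕ} {E A P : Subgroup G} {z c₁ : G}
    (d : S4 M N p r E A P z c₁) (hAP : A ≤ centralizer (P : Set G)) : False := by
  haveI : Fact r.Prime := ⟨d.hr.1⟩
  haveI : Fact q.Prime := ⟨c.hq⟩
  haveI : IsSimpleGroup G := Cfsg.Agent.Helper34.BG.isSimple hG
  have hrp : r.Prime := d.hr.1
  have hAM : A ≤ M := d.hAE.trans d.hE.1
  have hAp : IsPGroup r A := Cfsg.Agent.Helper34.BG.isElementaryAbelian_isPGroup d.hAe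
  have hN1 : IsCoatom (cj c₁⁻¹ N) := Cfsg.Agent.Helper25.BGNat.isCoatom_cj c.hN
  have hAN1 : A ≤ cj c₁⁻¹ N := hAP.trans d.hcent
  have hMN1 : M ≠ cj c₁⁻¹ N := by
    intro h
    apply c.sig.nconj c₁
    show N = cj c₁ M
    rw [h, cj_cj_inv]
  obtain ⟨a, haA, ha1, hane⟩ := exists_fixed hG c d
  have har : a ^ r = 1 := d.hAe.2 a haA
  have hao : orderOf a = r := orderOf_eq_prime har ha1
  have hXac : Nat.card (zpowers a) = r := by rw [Nat.card_zpowers, hao]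
  obtain ⟨-, -, h18⟩ := Cfsg.Agent.S1418.result hG M c.hM E d.hE r d.hr A ⟨d.hAE, d.hAe, d.hAc⟩
  obtain ⟨hCaM, hCau⟩ := h18 (zpowers a) ((zpowers_le).mpr haA) hXac
    (by rw [centralizer_zpowers_eq]; exact hane)
  rw [centralizer_zpowers_eq] at hCaM hCau
  -- `z ∈ (N₁)_σ`
  have hσN1 : sigmaCore (cj c₁⁻¹ N) = cj c₁⁻¹ (sigmaCore N) :=
    Cfsg.Agent.Helper25.BGNat.sigmaCore_cj c₁⁻¹ N
  have hzσ : z ∈ sigmaCore (cj c₁⁻¹ N) := by
    rw [hσN1, mem_cj, inv_inv]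
    exact d.hc₁ (conj_mem_cj d.hzP)
  by_cases hrN1 : r ∈ sigma (cj c₁⁻¹ N)
  · -- the configuration `(N₁, M, a)`
    obtain ⟨hHallN1, -, -⟩ := Cfsg.Agent.S1350.result hG (cj c₁⁻¹ N) hN1
    have hAσ : A ≤ sigmaCore (cj c₁⁻¹ N) :=
      Cfsg.Agent.Helper55.BGB.le_sigmaCore_of_isPGroup hrp hHallN1 hrN1 hAN1 hAp
    have hXa1 : zpowers a ≠ ⊥ := by
      intro h
      rw [h, Subgroup.card_bot] at hXac
      exact hrp.one_lt.ne hXac
    have hXat : zpowers a ≠ ⊤ := by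
      intro h
      apply c.hM.1
      rw [eq_top_iff, ← h]
      exact (zpowers_le).mpr (hAM haA)
    have hNXa : normalizer ((zpowers a : Subgroup G) : Set G) ≤ M :=
      Cfsg.Agent.Helper55.BGB.normalizer_le_of_unique hXa1 hXat (by
        rw [centralizer_zpowers_eq]; exact hCau)
    have hXaN1 : zpowers a ≤ cj c₁⁻¹ N := (zpowers_le).mpr (hAN1 haA)
    have hS := sig_of_normalizer_le hG hN1 c.hM hMN1 hrN1 hXac hXaN1 hNXa
    have c' : Cfg (cj c₁⁻¹ N) M a r (zpowers a) :=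
      ⟨hN1, c.hM, hAσ haA, ha1, hrp, hrN1, hXac, hXaN1, le_rfl, hNXa, hMN1, hS⟩
    have hqN1 : q ∣ Nat.card ↥(cj c₁⁻¹ N) := by
      rw [card_cj, ← c.Xcard]
      exact Subgroup.card_dvd_of_le c.X_le_N
    exact c.not_beta hG (step1 hG c' c.hqσ hqN1)
  · -- `r ∉ σ(N₁)`: B-G 14.3 for `N₁`
    have haz : a * z = z * a := (mem_centralizer_iff.mp (hAP haA) z d.hzP).symm
    have hσ' : ∀ s : ℕ, s.Prime → s ∣ orderOf a → s ∉ sigma (cj c₁⁻¹ N) := by
      intro s hs hd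
      rw [hao] at hd
      rw [(Nat.prime_dvd_prime_iff_eq hs hrp).mp hd]
      exact hrN1
    rcases Cfsg.Agent.S1432.result hG (cj c₁⁻¹ N) hN1 z hzσ d.hz1 a
      ⟨hAN1 haA, mem_centralizer_singleton_iff.mpr haz⟩ ha1 hσ' with ⟨h1, -⟩ | ⟨-, -, -, h2⟩
    · have hrκ : r ∈ kappa (cj c₁⁻¹ N) := h1 r hrp (by rw [hao])
      exact Cfsg.Agent.Helper45.BG143.not_pRankLE_one_of_elemAb hrp hAN1 d.hAe d.hAc
        (Cfsg.Agent.Helper45.BG143.pRankLE_one_of_kappa hrκ)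
    · exact hMN1 (h2 M c.hM hCaM)

/-- step 4, the case `[A, P] ≠ 1` -/
theorem step4_noncentral (hG : IsMinSimpleOddOrder G) {M N : Subgroup G} {x : G} {q : ℕ}
    {X : Subgroup G} (c : Cfg M N x q X) {p r : ℕ} {E A P : Subgroup G} {z c₁ : G}
    (d : S4 M N p r E A P z c₁) (hAP : ¬ A ≤ centralizer (P : Set G)) : False := by
  haveI : Fact r.Prime := ⟨d.hr.1⟩
  haveI : Fact p.Prime := ⟨d.hp⟩
  haveI : Fact q.Prime := ⟨c.hq⟩
  have hrp : r.Prime := d.hr.1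
  have hAM : A ≤ M := d.hAE.trans d.hE.1
  have hPM : P ≤ M := d.hPE.trans d.hE.1
  have hAp : IsPGroup r A := Cfsg.Agent.Helper34.BG.isElementaryAbelian_isPGroup d.hAe
  have hσ1 : sigmaCore M ≠ ⊥ := by
    intro h
    have := c.hx
    rw [h, Subgroup.mem_bot] at this
    exact c.hx1 this
  have hpσM : p ∉ sigma M := by
    intro h
    -- `P ≤ M_σ` would give `P ≤ M_σ ∩ E = 1`
    obtain ⟨hHallM, -, -⟩ := Cfsg.Agent.S1350.result hG M c.hM
    have hPp : IsPGroup p P := IsPGroup.of_card (n := 1) (by rw [d.hPc, pow_one])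
    have h1 := Cfsg.Agent.Helper55.BGB.le_sigmaCore_of_isPGroup d.hp hHallM h hPM hPp
    have h2 : z ∈ E ⊓ sigmaCore M := ⟨d.hPE d.hzP, h1 d.hzP⟩
    rw [d.hE.2.2.1, Subgroup.mem_bot] at h2
    exact d.hz1 h2
  have hcopr : (Nat.card (sigmaCore M)).Coprime r := by
    rw [Nat.coprime_comm, Nat.Prime.coprime_iff_not_dvd hrp]
    intro hd
    exact d.hr.2.1 (isPi_sigmaCore M r hrp hd)
  have hcopp : (Nat.card (sigmaCore M)).Coprime (Nat.card P) := by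
    rw [d.hPc, Nat.coprime_comm, Nat.Prime.coprime_iff_not_dvd d.hp]
    intro hd
    exact hpσM (isPi_sigmaCore M p d.hp hd)
  obtain ⟨⟨hEA, -⟩, -, h18⟩ :=
    Cfsg.Agent.S1418.result hG M c.hM E d.hE r d.hr A ⟨d.hAE, d.hAe, d.hAc⟩
  obtain ⟨-, -, -, hCA, -, -⟩ := Cfsg.Agent.S1417.result hG M c.hM r d.hr A ⟨hAM, d.hAe, d.hAc⟩
  have hPA : P ≤ normalizer (A : Set G) := d.hPE.trans hEA
  have hMs : Group.IsSolvable ↥M := Cfsg.Agent.Helper34.BG.solvable_of_ne_top hG c.hM.1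
  have hcomm := Cfsg.Agent.Helper69.BG11d.comm_le_centralizer_of_fpf hG.1 M hMs (sigmaCore M) A P
    (sigmaCore_le M) hAM hPM (hAM.trans (le_normalizer_sigmaCore M))
    (hPM.trans (le_normalizer_sigmaCore M)) hPA r hAp d.hAe.1 (by rw [d.hPc]; exact d.hp) hcopr
    hcopp (by rw [d.hPc]; exact d.hpr) d.hfpf
  have hA2A : ⁅A, P⁆ ≤ A := Cfsg.Agent.Helper1.commutator_le_of_le_normalizer hPA
  have hA21 : ⁅A, P⁆ ≠ ⊥ := by
    intro h
    exact hAP (Subgroup.commutator_eq_bot_iff_le_centralizer.mp h)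
  -- `M_σ ≤ C(A₂)`
  have hσA2 : sigmaCore M ≤ centralizer ((⁅A, P⁆ : Subgroup G) : Set G) := by
    intro y hy
    rw [mem_centralizer_iff]
    intro t ht
    exact (mem_centralizer_iff.mp (hcomm ht) y hy).symm
  have hA2ne : ⁅A, P⁆ ≠ A := by
    intro h
    rw [h] at hσA2
    apply hσ1
    rw [eq_bot_iff, ← hCA]
    exact le_inf le_rfl hσA2
  -- `#A₂ = r`
  have hA2c : Nat.card (⁅A, P⁆ : Subgroup G) = r := by
    have h1 : Nat.card (⁅A, P⁆ : Subgroup G) ∣ r ^ 2 := by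
      rw [← d.hAc]; exact Subgroup.card_dvd_of_le hA2A
    obtain ⟨k, hk, hkc⟩ := (Nat.dvd_prime_pow hrp).mp h1
    interval_cases k
    · exfalso
      rw [pow_zero] at hkc
      exact hA21 (Subgroup.card_eq_one.mp hkc)
    · rw [hkc, pow_one]
    · exfalso
      exact hA2ne (Subgroup.eq_of_le_of_card_ge hA2A (by rw [hkc, d.hAc]))
  -- `A₀ = C_A(P) ≠ 1`
  have hA0 : A ⊓ centralizer (P : Set G) ≠ ⊥ := by
    intro h
    have hcopPA : (Nat.card P).Coprime (Nat.card A) := by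
      rw [d.hPc, d.hAc]
      exact Nat.Coprime.pow_right 2 ((Nat.coprime_primes d.hp hrp).mpr d.hpr)
    have hAs : Group.IsSolvable ↥A :=
      Group.isSolvable_of_comm (fun a b => d.hAe.1.is_comm.comm a b)
    have := Cfsg.Agent.Helper1.commutator_sup_centralizer P A hPA hcopPA (Or.inr hAs)
    rw [h, sup_bot_eq] at this
    exact hA2ne this
  obtain ⟨⟨a0, ha0⟩, ha01⟩ := (Subgroup.ne_bot_iff_exists_ne_one).mp hA0
  have ha01' : a0 ≠ 1 := fun h => ha01 (Subtype.ext h)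
  have ha0r : a0 ^ r = 1 := d.hAe.2 a0 ha0.1
  have ha0o : orderOf a0 = r := orderOf_eq_prime ha0r ha01'
  -- (1) `A₂ ≤ M ∩ N`, `r ∉ σ(N)`
  have hA2N : ⁅A, P⁆ ≤ N := by
    refine le_trans ?_ c.cent_le
    exact hcomm.trans (centralizer_le (Set.singleton_subset_iff.mpr c.hx))
  have hA2MN : ⁅A, P⁆ ≤ M ⊓ N := le_inf (hA2A.trans hAM) hA2N
  have hrN : r ∉ sigma N := by
    intro h
    apply c.not_dvd_card_inf hrp h
    rw [← hA2c]
    exact Subgroup.card_dvd_of_le hA2MN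
  -- (2) `C_{N_σ}(A₂) = 1`
  have hCA2 : centralizer ((⁅A, P⁆ : Subgroup G) : Set G) ≤ M :=
    (h18 ⁅A, P⁆ hA2A hA2c (by
      intro h
      apply hσ1
      rw [eq_bot_iff, ← h]
      exact le_inf le_rfl hσA2)).1
  have hfixN : sigmaCore N ⊓ centralizer ((⁅A, P⁆ : Subgroup G) : Set G) = ⊥ := by
    rw [eq_bot_iff, ← c.sig.inter]
    exact inf_le_inf_left _ hCA2
  -- (3) a Sylow `r`-subgroup `R` of `N` over `A₂`
  have hA2p : IsPGroup r (⁅A, P⁆ : Subgroup G) := hAp.to_le hA2A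
  obtain ⟨R, hA2R, hR⟩ := Cfsg.Agent.Helper84.exists_isSylIn_ge hA2N hA2p
  by_cases hR1 : PRankLE r 1 ↥R
  · -- all subgroups of order `r` of `R` equal `A₂`
    have ha0N1 : a0 ∈ cj c₁⁻¹ N := d.hcent ha0.2
    have hY1N : cj c₁ (zpowers a0) ≤ N := by
      rw [cj_le_iff]
      exact (zpowers_le).mpr ha0N1
    have hY1p : IsPGroup r (cj c₁ (zpowers a0)) := by
      apply isPGroup_cj
      exact IsPGroup.of_card (n := 1) (by rw [Nat.card_zpowers, ha0o, pow_one])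
    obtain ⟨k, hk, hkR⟩ := hR.exists_conj_ge hY1N hY1p
    have hY2R : cj k⁻¹ (cj c₁ (zpowers a0)) ≤ R := by
      rw [cj_le_iff, inv_inv]; exact hkR
    have hY2c : Nat.card ↥(cj k⁻¹ (cj c₁ (zpowers a0))) = r := by
      rw [card_cj, card_cj, Nat.card_zpowers, ha0o]
    have heq : cj k⁻¹ (cj c₁ (zpowers a0)) = ⁅A, P⁆ :=
      eq_of_card_eq_of_pRankLE_one hR.2.1 hR1 hY2R hA2R hY2c hA2c
    rw [← cj_mul] at heq
    -- `z' = g z g⁻¹ ∈ N_σ ∩ C(A₂)`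
    have hzc : z ∈ centralizer ((zpowers a0 : Subgroup G) : Set G) := by
      rw [centralizer_zpowers_eq, mem_centralizer_singleton_iff]
      exact (mem_centralizer_iff.mp ha0.2 z d.hzP)
    have h1 : (k⁻¹ * c₁) * z * (k⁻¹ * c₁)⁻¹ ∈
        centralizer ((⁅A, P⁆ : Subgroup G) : Set G) := by
      rw [← heq, centralizer_cj]
      exact conj_mem_cj hzc
    have h2 : (k⁻¹ * c₁) * z * (k⁻¹ * c₁)⁻¹ ∈ sigmaCore N := by
      have h3 : c₁ * z * c₁⁻¹ ∈ sigmaCore N := d.hc₁ (conj_mem_cj d.hzP)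
      have h4 : k⁻¹ * (c₁ * z * c₁⁻¹) * k⁻¹⁻¹ ∈ sigmaCore N :=
        (mem_normalizer_iff.mp (le_normalizer_sigmaCore N (N.inv_mem hk)) _).mp h3
      have : (k⁻¹ * c₁) * z * (k⁻¹ * c₁)⁻¹ = k⁻¹ * (c₁ * z * c₁⁻¹) * k⁻¹⁻¹ := by group
      rw [this]; exact h4
    have h5 : (k⁻¹ * c₁) * z * (k⁻¹ * c₁)⁻¹ ∈
        sigmaCore N ⊓ centralizer ((⁅A, P⁆ : Subgroup G) : Set G) := ⟨h2, h1⟩
    rw [hfixN, Subgroup.mem_bot] at h5
    apply d.hz1
    have : z = (k⁻¹ * c₁)⁻¹ * ((k⁻¹ * c₁) * z * (k⁻¹ * c₁)⁻¹) * (k⁻¹ * c₁) := by group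
    rw [this, h5]; group
  · -- an `E_{r²}` inside `M ∩ N`
    obtain ⟨B₁, hB₁R, hB₁e, hB₁c⟩ := Cfsg.Agent.Helper34.BG.exists_elemAb_of_not_pRankLE hR1
    obtain ⟨B₂, hB₂B₁, hB₂e, hB₂c⟩ := Cfsg.Agent.Helper34.BG.exists_elemAb_card_eq hB₁e hB₁c
    have hB₂N : B₂ ≤ N := (hB₂B₁.trans hB₁R).trans hR.1
    have hidx : ¬ r ∣ (M ⊓ N).relIndex N := by
      rw [c.card_compl.1]
      intro hd
      exact hrN (isPi_sigmaCore N r hrp hd)
    obtain ⟨n, hn, hnB⟩ := Cfsg.Agent.Helper45.BGTools.exists_conj_le hidx hB₂N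
      (Cfsg.Agent.Helper34.BG.isElementaryAbelian_isPGroup hB₂e)
    have hB₃e : IsElementaryAbelian r (cj n B₂) := elemAb_cj hB₂e n
    have hB₃c : Nat.card ↥(cj n B₂) = r ^ 2 := by rw [card_cj, hB₂c]
    obtain ⟨-, -, -, -, h17e, -⟩ := Cfsg.Agent.S1417.result hG M c.hM r d.hr (cj n B₂)
      ⟨hnB.trans inf_le_left, hB₃e, hB₃c⟩
    have h6 := h17e N c.hN c.ne (hnB.trans inf_le_right)
    have h7 : x ∈ sigmaCore M ⊓ N := ⟨c.hx, c.x_mem_N⟩
    rw [h6, Subgroup.mem_bot] at h7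
    exact c.hx1 h7

/-- **Step 4**: `τ₂(M) = ∅`. -/
theorem tau2_empty (hG : IsMinSimpleOddOrder G) {M N : Subgroup G} {x : G} {q : ℕ}
    {X : Subgroup G} (c : Cfg M N x q X) (hκ : kappa M = ∅) {p : ℕ}
    (hpN : p ∈ sigma N) (hpM : p ∣ Nat.card M) : tau2 M = ∅ := by
  have hpβ := step1 hG c hpN hpM
  obtain ⟨hpσM, hr1⟩ := prank_one hG c hpN hpβ
  have hp := hpN.1
  haveI : Fact p.Prime := ⟨hp⟩
  by_contra hne
  obtain ⟨r, hr⟩ := Set.nonempty_iff_ne_empty.mpr hne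
  have hrp : r.Prime := hr.1
  haveI : Fact r.Prime := ⟨hrp⟩
  obtain ⟨hHallM, -, -⟩ := Cfsg.Agent.S1350.result hG M c.hM
  obtain ⟨E, hE⟩ := Cfsg.Agent.Helper55.BGB.exists_compl_sigmaCore hHallM
  obtain ⟨A, hAE, hAe, hAc⟩ := Cfsg.Agent.Helper45.BG143.exists_elemAb_in_compl hr hE
  have hcE := Cfsg.Agent.Helper23.card_of_isComplIn hE
  have hpE : p ∣ Nat.card E := by
    rw [hcE] at hpM
    rcases (Nat.Prime.dvd_mul hp).mp hpM with h | h
    · exact h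
    · exact absurd (isPi_sigmaCore M p hp h) hpσM
  obtain ⟨z, hz⟩ := exists_prime_orderOf_dvd_card' (G := E) p hpE
  have hPc : Nat.card (zpowers (z : G)) = p := by
    rw [Nat.card_zpowers, Subgroup.orderOf_coe, hz]
  have hPE : zpowers (z : G) ≤ E := (zpowers_le).mpr z.2
  have hz1 : (z : G) ≠ 1 := by
    intro h
    have : orderOf (z : G) = 1 := by rw [h, orderOf_one]
    rw [Subgroup.orderOf_coe, hz] at this
    exact hp.one_lt.ne' this
  have hfpf := fpf_of_rank_one hG c.hM hκ hp hpσM hr1 (hPE.trans hE.1) hPc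
  obtain ⟨c₁, hc₁, hcent, hu⟩ := step2 hG c.hN hpN hpβ hPc
  have hpr : p ≠ r := fun h => hr.2.2.2 (h ▸ hr1)
  have d : S4 M N p r E A (zpowers (z : G)) (z : G) c₁ :=
    ⟨hp, hr, hpr, hE, hAE, hAe, hAc, hPE, hPc, mem_zpowers _, hz1, hfpf, hc₁, hcent, hu⟩
  by_cases hAP : A ≤ centralizer ((zpowers (z : G) : Subgroup G) : Set G)
  · exact step4_central hG c d hAP
  · exact step4_noncentral hG c d hAP

end Cfsg.Agent.Helper2.BG1413
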