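import Mathlib
import Cfsg.Prelude.Def_OddOrderLocal
import Cfsg.Agent.Lib.Helper2.BG157Defs
import Cfsg.Agent.Lib.Helper34.BG10a
import Cfsg.Agent.Lib.Helper34.BG10h
import Cfsg.Agent.Lib.Helper24.RankTwoSolv
import Cfsg.Agent.Lib.Helper55.BGFit
import Cfsg.Agent.Lib.Helper55.BGDecomp
import Cfsg.Agent.Lib.Helper55.BGDecomp2
import Cfsg.Agent.Lib.Helper23.FittingHall
import Cfsg.Agent.Lib.Helper32.BG157H
import Cfsg.Agent.Lib.Helper99.BG157A
import Cfsg.Agent.Lib.Helper90.BG157B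
import Cfsg.Agent.Lib.Helper86.BG157E1
import Cfsg.Agent.Lib.Helper49.BG157E2
import Cfsg.Agent.Lib.Helper70.BG157Z

/-!
# B-G Theorem 15.7(e) for maximal subgroups of type P1 (for S1383; helper2)

`typeV_core`: `M = K M_σ` (`U = 1`, `K ≠ 1`), `M_σ` nilpotent and not a TI-subset of `G`  ⟹  alternative (b) or (c)
of Type V.  Rows enter only through `rows : Rows G` (`BG157Defs`).

Proof.  `g ∉ M`, `x ∈ H = M_σ` of prime order `p` with `g x g⁻¹ ∈ H`.  S1404: `C_G(x) ⊄ M`.  S1375: `N` the unique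
maximal subgroup over `C_G(x)`, `R = C_{N_σ}(x) ≠ 1` is normal in `C_G(x)` and complements `C_M(x)`; `M ∩ N`
complements `N_σ` in `N`.  `H = P × Q` (`P = O_p(H)`, `Q = O_{p'}(H)`; piece (H) by helper32).  `P` abelian would give
`H ≤ C_G(x) ≤ N`, against S1431(3).  So `P ∈ 𝒰` (S1422) and `C_G(c) ≤ M` for every `c ≠ 1` centralized by `P`.
`A = Z(P) × Q ≤ M ∩ N` is nilpotent, hence abelian (S1420(1) for `N`), acts coprimely on `R` with
`C_R(a) ≤ R ∩ M = 1`: `A` is cyclic (piece (A), helper99).  `Z₀ = Ω₁(Z(P))` (piece (Z), helper70) has order `p`.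
If `K` is faithful on `Z₀`: `#K ∣ p - 1` (piece (B), helper90).  Otherwise `Z₀ = K* = C_P(k)` for all `k ∈ K#`
(S1430(1), S1373), `p ∉ β(M)` (S1426(3)), `P` is a Sylow `p`-subgroup of `G` (S1350).  Rank of `P` at least 3: `P` is
narrow (helper34) and S1454 gives `#K ∣ p - 1`.  Rank at most 2: S1412 and piece (E1) (helper86) give `#P = p³`, and
piece (E2) (helper49, helper63, helper20, helper12, helper46) gives `#K ∣ p - 1` or `#K ∣ p + 1`.
-/

set_option autoImplicit false
set_option linter.unusedSectionVars false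
set_option linter.unusedVariables false
set_option linter.style.haveILetI false
set_option linter.unnecessarySimpa false
set_option linter.unusedSimpArgs false

namespace Cfsg.Agent.Helper2.BG157

open Subgroup Cfsg
open Cfsg.Agent.Helper34.BG (uniq_eq_of_le uniq_le_of_le centralizer_singleton_ne_top pRankLE_mono
  odd_card_subgroup solvable_of_ne_top isNarrow_sylow_of_not_ideal)
open Cfsg.Agent.Helper55.BGB (sigmaCore_le isPi_sigmaCore le_normalizer_sigmaCore card_mul_relIndex
  isComplIn_of_card)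

variable {G : Type*} [Group G] [Finite G]

/-- a subgroup that is not a TI-subset has a fused element of prime order -/
theorem exists_fusion_of_not_TI {H M : Subgroup G} (hMH : M ≤ normalizer (H : Set G))
    (hTI : ¬ IsTISubset (H : Set G)) :
    ∃ (g x : G) (p : ℕ), p.Prime ∧ g ∉ M ∧ x ∈ H ∧ orderOf x = p ∧ g * x * g⁻¹ ∈ H := by
  unfold IsTISubset at hTI
  push Not at hTI
  obtain ⟨g, hg, x, hx, hgx, hx1⟩ := hTI
  have hgM : g ∉ M := fun h => hg (hMH h)
  have hord : orderOf x ≠ 1 := by rwa [Ne, orderOf_eq_one_iff]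
  obtain ⟨p, hp, m, hm⟩ := Nat.exists_prime_and_dvd hord
  have hpos : 0 < orderOf x := orderOf_pos x
  have hm0 : m ≠ 0 := by
    rintro rfl
    rw [mul_zero] at hm
    omega
  refine ⟨g, x ^ m, p, hp, hgM, H.pow_mem hx m, ?_, ?_⟩
  · rw [orderOf_pow_of_dvd hm0 ⟨p, by rw [hm, mul_comm]⟩, hm]
    exact Nat.mul_div_cancel _ (Nat.pos_of_ne_zero hm0)
  · have : g * x ^ m * g⁻¹ = (g * x * g⁻¹) ^ m := (conj_pow).symm
    rw [this]
    exact H.pow_mem hgx m

/-- the normalizer of `H` normalizes the image of every characteristic subgroup of `↥H` -/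
theorem normalizer_le_normalizer_map_of_char (H : Subgroup G) (C : Subgroup ↥H)
    [hC : C.Characteristic] :
    normalizer (H : Set G) ≤ normalizer ((C.map H.subtype : Subgroup G) : Set G) := by
  have key : ∀ k : G, k ∈ normalizer (H : Set G) →
      ∀ y ∈ C.map H.subtype, k * y * k⁻¹ ∈ C.map H.subtype := by
    intro k hk y hy
    have hk1 : ∀ h : G, h ∈ H → k * h * k⁻¹ ∈ H := fun h hh => (mem_normalizer_iff.mp hk h).mp hh
    have hk2 : ∀ h : G, h ∈ H → k⁻¹ * h * k ∈ H := by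
      intro h hh
      have := (mem_normalizer_iff.mp hk (k⁻¹ * h * k)).mpr (by simpa [mul_assoc] using hh)
      exact this
    let φ : ↥H ≃* ↥H :=
      { toFun := fun h => ⟨k * h * k⁻¹, hk1 h h.2⟩
        invFun := fun h => ⟨k⁻¹ * h * k, hk2 h h.2⟩
        left_inv := fun h => Subtype.ext (by simp [mul_assoc])
        right_inv := fun h => Subtype.ext (by simp [mul_assoc])
        map_mul' := fun a b => Subtype.ext (by simp [mul_assoc]) }
    obtain ⟨c, hc, rfl⟩ := hy
    have h1 : C.map φ.toMonoidHom = C := Subgroup.characteristic_iff_map_eq.mp hC φ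
    have h2 : φ c ∈ C := by
      rw [← h1]
      exact ⟨c, hc, rfl⟩
    exact ⟨φ c, h2, rfl⟩
  intro k hk
  rw [mem_normalizer_iff]
  intro y
  constructor
  · exact key k hk y
  · intro hy
    have := key k⁻¹ (Subgroup.inv_mem _ hk) _ hy
    simpa [mul_assoc] using this

/-- Step 1: a fused element of prime order `p ∈ σ(M)` has `C_G(x) ⊄ M` (S1404). -/
theorem centralizer_not_le (rows : Rows G) {M : Subgroup G} (hM : IsCoatom M) {p : ℕ}
    [hp : Fact p.Prime] (hpσ : p ∈ sigma M) {g x : G} (hgM : g ∉ M) (hxM : x ∈ M)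
    (hxo : orderOf x = p) (hgx : g * x * g⁻¹ ∈ M) :
    ¬ centralizer ({x} : Set G) ≤ M := by
  intro hle
  have hx1 : x ≠ 1 := by
    intro h
    rw [h, orderOf_one] at hxo
    exact hp.out.ne_one hxo.symm
  have hX : IsPGroup p (zpowers x) :=
    IsPGroup.of_card (n := 1) (by rw [Nat.card_zpowers, hxo, pow_one])
  obtain ⟨h04, -⟩ := rows.r1404 M hM p hpσ (zpowers x) hX (zpowers_ne_bot.mpr hx1)
    (zpowers_le.mpr hxM)
  have hmap : (zpowers x).map (MulAut.conj g).toMonoidHom ≤ M := by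
    rw [MonoidHom.map_zpowers, zpowers_le]
    simpa [MulAut.conj_apply] using hgx
  obtain ⟨m, hm, c, hc, rfl⟩ := h04 g hmap
  apply hgM
  refine M.mul_mem hm (hle ?_)
  exact centralizer_le (by simpa using mem_zpowers x) hc

/-- the `p`-part and `p'`-part of a nilpotent subgroup `H` of `G` -/
theorem split_facts (H : Subgroup G) [Group.IsNilpotent ↥H] (p : ℕ) [hp : Fact p.Prime] :
    (pCore p ↥H).map H.subtype ≤ H ∧ (pPrimeCore p ↥H).map H.subtype ≤ H ∧
    IsPGroup p ↥((pCore p ↥H).map H.subtype) ∧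
    (Nat.card ↥((pPrimeCore p ↥H).map H.subtype)).Coprime p ∧
    (∀ a ∈ (pCore p ↥H).map H.subtype, ∀ b ∈ (pPrimeCore p ↥H).map H.subtype, a * b = b * a) ∧
    normalizer (H : Set G) ≤ normalizer (((pCore p ↥H).map H.subtype : Subgroup G) : Set G) ∧
    IsComplIn ((pCore p ↥H).map H.subtype) ((pPrimeCore p ↥H).map H.subtype) H ∧
    (∀ x ∈ H, orderOf x = p → x ∈ (pCore p ↥H).map H.subtype) := by
  obtain ⟨hPp, hQcop, hcardPQ, hPQcomm, hPchar, hQchar⟩ :=
    Cfsg.Agent.Helper32.BG157.nilpotent_cores ↥H p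
  have hPH : (pCore p ↥H).map H.subtype ≤ H := map_subtype_le _
  have hQH : (pPrimeCore p ↥H).map H.subtype ≤ H := map_subtype_le _
  have hcP : Nat.card ↥((pCore p ↥H).map H.subtype) = Nat.card ↥(pCore p ↥H) :=
    card_map_of_injective H.subtype_injective
  have hcQ : Nat.card ↥((pPrimeCore p ↥H).map H.subtype) = Nat.card ↥(pPrimeCore p ↥H) :=
    card_map_of_injective H.subtype_injective
  have hPpG : IsPGroup p ↥((pCore p ↥H).map H.subtype) := hPp.map _
  have hQc : (Nat.card ↥((pPrimeCore p ↥H).map H.subtype)).Coprime p := by rw [hcQ]; exact hQcop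
  have hcomm : ∀ a ∈ (pCore p ↥H).map H.subtype, ∀ b ∈ (pPrimeCore p ↥H).map H.subtype,
      a * b = b * a := by
    rintro _ ⟨a, ha, rfl⟩ _ ⟨b, hb, rfl⟩
    exact congrArg Subtype.val (hPQcomm a ha b hb)
  have hdisj : (pCore p ↥H).map H.subtype ⊓ (pPrimeCore p ↥H).map H.subtype = ⊥ := by
    obtain ⟨n, hn⟩ := IsPGroup.iff_card.mp hPpG
    apply (Subgroup.disjoint_of_coprime_natCard _).eq_bot
    rw [hn]
    exact Nat.Coprime.pow_left n hQc.symm
  have hcompl : IsComplIn ((pCore p ↥H).map H.subtype) ((pPrimeCore p ↥H).map H.subtype) H :=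
    isComplIn_of_card hPH hQH hdisj (by rw [hcP, hcQ, hcardPQ])
  refine ⟨hPH, hQH, hPpG, hQc, hcomm, ?_, hcompl, ?_⟩
  · haveI := hPchar
    exact normalizer_le_normalizer_map_of_char H (pCore p ↥H)
  · intro x hx hxo
    obtain ⟨a, ha, b, hb, rfl⟩ := hcompl.2.2.2 x hx
    have hab : Commute a b := hcomm a ha b hb
    have h1 : (a * b) ^ p = 1 := by rw [← hxo]; exact pow_orderOf_eq_one _
    rw [hab.mul_pow] at h1
    have h2 : b ^ p ∈ (pCore p ↥H).map H.subtype ⊓ (pPrimeCore p ↥H).map H.subtype := by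
      refine mem_inf.mpr ⟨?_, Subgroup.pow_mem _ hb p⟩
      have : b ^ p = (a ^ p)⁻¹ := eq_inv_of_mul_eq_one_right h1
      rw [this]
      exact Subgroup.inv_mem _ (Subgroup.pow_mem _ ha p)
    rw [hdisj, mem_bot] at h2
    have h3 : orderOf b ∣ p := orderOf_dvd_of_pow_eq_one h2
    have h4 : orderOf b ∣ Nat.card ↥((pPrimeCore p ↥H).map H.subtype) :=
      Subgroup.orderOf_dvd_natCard _ hb
    have h5 : orderOf b = 1 := Nat.eq_one_of_dvd_coprimes hQc h4 h3
    rw [orderOf_eq_one_iff] at h5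
    rw [h5, mul_one]
    exact ha

/-- elementwise commutativity from `IsMulCommutative` -/
theorem comm_of_isMulCommutative {A : Subgroup G} (hA : IsMulCommutative A) :
    ∀ a ∈ A, ∀ b ∈ A, a * b = b * a := by
  intro a ha b hb
  exact congrArg Subtype.val (hA.is_comm.comm ⟨a, ha⟩ ⟨b, hb⟩)

theorem isMulCommutative_of_le_centralizer {A : Subgroup G} (hA : A ≤ centralizer (A : Set G)) :
    IsMulCommutative A := by
  refine ⟨⟨fun a b => Subtype.ext ?_⟩⟩
  have := mem_centralizer_iff.mp (hA b.2) a a.2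
  exact this

/-- a subgroup of a cyclic subgroup is cyclic -/
theorem isCyclic_of_le {A B : Subgroup G} (hAB : A ≤ B) (hB : IsCyclic B) : IsCyclic A := by
  haveI := hB
  haveI : IsCyclic ↥(A.subgroupOf B) := Subgroup.isCyclic _
  exact isCyclic_of_surjective (Subgroup.subgroupOfEquivOfLe hAB).toMonoidHom
    (Subgroup.subgroupOfEquivOfLe hAB).surjective

/-- the complement `D` of the Hall `σ(N)`-subgroup `N_σ` in `N` is a `σ(N)'`-group -/
theorem not_dvd_card_compl {N D : Subgroup G} (h50 : IsPiHallOf (sigma N) (sigmaCore N) N)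
    (hc : IsComplIn D (sigmaCore N) N) {q : ℕ} (hq : q.Prime) (hqσ : q ∈ sigma N) :
    ¬ q ∣ Nat.card D := by
  intro hd
  apply h50.2.2 q hq hqσ
  have h1 := Cfsg.Agent.Helper23.card_of_isComplIn hc
  have h2 := card_mul_relIndex h50.1
  have h3 : (sigmaCore N).relIndex N = Nat.card D := by
    have hpos : 0 < Nat.card (sigmaCore N) := Nat.card_pos
    apply Nat.eq_of_mul_eq_mul_left hpos
    rw [h2, h1, mul_comm]
  rw [h3]
  exact hd

/-- **Cyclicity step.** With `x ∈ P` (`P` nonabelian normal `p`-subgroup of `M`, commuting with `Q`),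
`C_G(x) ≤ N` as in S1375: `Z(P) ⊔ Q` is cyclic. -/
theorem isCyclic_center_sup (hG : IsMinSimpleOddOrder G) (rows : Rows G)
    {M N P Q : Subgroup G} (hM : IsCoatom M) (hN : IsCoatom N) {p : ℕ} [hp : Fact p.Prime] {x : G}
    (hPM : P ≤ M) (hQM : Q ≤ M) (hPp : IsPGroup p P) (hPna : ¬ IsMulCommutative P)
    (hcomm : ∀ a ∈ P, ∀ b ∈ Q, a * b = b * a) (hxP : x ∈ P)
    (hnilA : Group.IsNilpotent ↥((P ⊓ centralizer (P : Set G)) ⊔ Q))
    (hCN : centralizer ({x} : Set G) ≤ N)
    (hCR : centralizer ({x} : Set G) ≤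
      normalizer ((sigmaCore N ⊓ centralizer ({x} : Set G) : Subgroup G) : Set G))
    (hcomplC : IsComplIn (M ⊓ centralizer ({x} : Set G)) (sigmaCore N ⊓ centralizer ({x} : Set G))
      (centralizer ({x} : Set G)))
    (hcomplN : IsComplIn (M ⊓ N) (sigmaCore N) N)
    (hCx : ¬ centralizer ({x} : Set G) ≤ M) :
    IsCyclic ↥((P ⊓ centralizer (P : Set G)) ⊔ Q) := by
  have h50N := (rows.r1350 N hN).1
  have hu : InUniqueMaximal P := rows.r1422 p P hPp hPna
  -- `R ≠ ⊥`, `R ⊓ M = ⊥`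
  have hR1 : sigmaCore N ⊓ centralizer ({x} : Set G) ≠ ⊥ := by
    intro h
    apply hCx
    intro c hc
    obtain ⟨a, ha, b, hb, rfl⟩ := hcomplC.2.2.2 c hc
    rw [h, mem_bot] at hb
    subst hb
    simpa using (mem_inf.mp ha).1
  have hRM : ∀ y ∈ sigmaCore N ⊓ centralizer ({x} : Set G), y ∈ M → y = 1 := by
    intro y hy hyM
    have : y ∈ (M ⊓ centralizer ({x} : Set G)) ⊓ (sigmaCore N ⊓ centralizer ({x} : Set G)) :=
      mem_inf.mpr ⟨mem_inf.mpr ⟨hyM, (mem_inf.mp hy).2⟩, hy⟩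
    rwa [hcomplC.2.2.1, mem_bot] at this
  -- `A ≤ C(P)`, `A ≤ C(x)`
  have hQCP : Q ≤ centralizer (P : Set G) := by
    intro b hb
    rw [mem_centralizer_iff]
    intro a ha
    exact hcomm a ha b hb
  have hACP : (P ⊓ centralizer (P : Set G)) ⊔ Q ≤ centralizer (P : Set G) :=
    sup_le inf_le_right hQCP
  have hACx : (P ⊓ centralizer (P : Set G)) ⊔ Q ≤ centralizer ({x} : Set G) :=
    hACP.trans (centralizer_le (by simpa using hxP))
  have hAM : (P ⊓ centralizer (P : Set G)) ⊔ Q ≤ M := sup_le (inf_le_left.trans hPM) hQM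
  have hAD : (P ⊓ centralizer (P : Set G)) ⊔ Q ≤ M ⊓ N := le_inf hAM (hACx.trans hCN)
  -- abelian by S1420(1) for `N`
  have hAab : IsMulCommutative ↥((P ⊓ centralizer (P : Set G)) ⊔ Q) := by
    refine (rows.r1420 N hN (M ⊓ N) hcomplN).1 _ (hAD.trans inf_le_right) hnilA ?_
    intro q hq hqA hqσ
    exact not_dvd_card_compl h50N hcomplN hq hqσ (hqA.trans (card_dvd_of_le hAD))
  apply Cfsg.Agent.Helper99.BG157.isCyclic_of_abelian_fpf _
    (sigmaCore N ⊓ centralizer ({x} : Set G)) (comm_of_isMulCommutative hAab) (hACx.trans hCR) hR1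
  · -- coprime
    apply Nat.Coprime.coprime_dvd_left (card_dvd_of_le hAD)
    apply Nat.Coprime.coprime_dvd_right (card_dvd_of_le (inf_le_left : _ ≤ sigmaCore N))
    apply Nat.coprime_of_dvd
    intro q hq hq1 hq2
    exact not_dvd_card_compl h50N hcomplN hq (h50N.2.1 q hq hq2) hq1
  · -- fixed-point-free
    intro a ha ha1
    have hPa : P ≤ centralizer ({a} : Set G) := by
      intro y hy
      rw [mem_centralizer_singleton_iff]
      exact mem_centralizer_iff.mp (hACP ha) y hy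
    have hCa : centralizer ({a} : Set G) ≤ M :=
      uniq_le_of_le hu hM hPM hPa (centralizer_singleton_ne_top hG ha1)
    rw [eq_bot_iff]
    intro y hy
    rw [mem_bot]
    exact hRM y (mem_inf.mp hy).1 (hCa (mem_inf.mp hy).2)

/-- **Case B**: `K` centralizes `Z = Ω₁(Z(P)) = C_P(k)` for all `k ∈ K#`. -/
theorem caseB (hG : IsMinSimpleOddOrder G) (rows : Rows G)
    {M K P Z : Subgroup G} (hM : IsCoatom M) {p : ℕ} [hp : Fact p.Prime] (hp2 : p ≠ 2)
    (hPM : P ≤ M) (hPp : IsPGroup p P) (hPna : ¬ IsMulCommutative P) (hPidx : ¬ p ∣ P.index)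
    (hKc : IsCyclic K) (hKM : K ≤ M) (hKP : K ≤ normalizer (P : Set G))
    (hcopK : (Nat.card K).Coprime p) (hK1 : K ≠ ⊥)
    (hZ : Nat.card Z = p) (hZP : Z ≤ P ⊓ centralizer (P : Set G))
    (hZK : Z ≤ centralizer (K : Set G))
    (hfix : ∀ k ∈ K, k ≠ 1 → P ⊓ centralizer ({k} : Set G) = Z)
    (hpβ : p ∉ beta M) :
    Nat.card K ∣ p - 1 ∨ (Nat.card P = p ^ 3 ∧ Nat.card K ∣ p + 1) := by
  have hKodd : Odd (Nat.card K) := odd_card_subgroup hG K
  have hKtop : K ≠ ⊤ := fun h => hM.1 (top_le_iff.mp (h ▸ hKM))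
  have hKsolv : Group.IsSolvable ↥K := solvable_of_ne_top hG hKtop
  have hZleP : Z ≤ P := hZP.trans inf_le_left
  have hZcP : Z ≤ centralizer (P : Set G) := hZP.trans inf_le_right
  -- `C_P(K) = Z`
  obtain ⟨k₀, hk₀, hk₀1⟩ : ∃ k ∈ K, k ≠ 1 := by
    by_contra hcon
    push Not at hcon
    exact hK1 ((eq_bot_iff_forall K).mpr hcon)
  have hfixK : P ⊓ centralizer (K : Set G) = Z := by
    apply le_antisymm
    · rw [← hfix k₀ hk₀ hk₀1]
      exact inf_le_inf_left _ (centralizer_le (by simpa using hk₀))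
    · exact le_inf hZleP hZK
  -- faithful
  have hfaith : K ⊓ centralizer (P : Set G) = ⊥ := by
    rw [eq_bot_iff]
    intro k hk
    rw [mem_bot]
    by_contra hk1
    apply hPna
    have hPk : P ≤ centralizer ({k} : Set G) := by
      intro y hy
      rw [mem_centralizer_singleton_iff]
      exact (mem_centralizer_iff.mp (mem_inf.mp hk).2 y hy)
    have hPZ : P ≤ Z := by
      rw [← hfix k (mem_inf.mp hk).1 hk1]
      exact le_inf le_rfl hPk
    exact isMulCommutative_of_le_centralizer (hPZ.trans hZcP)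
  let Psyl : Sylow p G := hPp.toSylow hPidx
  have hPsyl : (Psyl : Subgroup G) = P := rfl
  by_cases hr : PRankLE p 2 ↥P
  · -- rank at most two: S1412, then (E1) and (E2)
    have h12 := rows.r1412 p Psyl hr
    rcases h12 with hab | hstruct
    · exact absurd hab hPna
    · have hfixcard : Nat.card ↥(P ⊓ centralizer (K : Set G)) = p := by rw [hfixK, hZ]
      have hfixc : P ⊓ centralizer (K : Set G) ≤ centralizer (P : Set G) := by
        rw [hfixK]; exact hZcP
      have hPc : Nat.card P = p ^ 3 :=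
        Cfsg.Agent.Helper86.BG157.card_eq_cube_of_struct hp2 P K hPp hstruct hKP hcopK hfixcard hfixc
      have hE2 := Cfsg.Agent.Helper49.BG157.card_dvd_of_fpf_cube hp2 P K Z hPc hPna hKP hKc hKodd
        hcopK hZ hZleP (le_centralizer_iff.mp hZcP) (le_centralizer_iff.mp hZK) hfix
      rcases hE2 with h | h
      · exact Or.inl h
      · exact Or.inr ⟨hPc, h⟩
  · -- rank at least three: `P` is narrow, S1454
    left
    have hα : p ∈ alpha M := ⟨hp.out, fun h => hr (pRankLE_mono hPM h)⟩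
    have hI : ¬ IsIdealPrime p G := fun h => hpβ ⟨hα, h⟩
    have hrG : ¬ PRankLE p 2 G :=
      fun h => hr (Cfsg.Agent.Helper24.RankTwoSolv.pRankLE_subgroup h P)
    have hnar : IsNarrow p ↥P := isNarrow_sylow_of_not_ideal hp2 hrG hI Psyl
    have h54 := (rows.r1454 p hp2 P K hPp hnar hKP hKsolv hKodd hfaith).2.1 hr
    haveI := hKc
    obtain ⟨g, hg⟩ := IsCyclic.exists_generator (α := ↥K)
    have hog : orderOf (g : G) = Nat.card K := by
      rw [Subgroup.orderOf_coe]
      exact orderOf_eq_card_of_forall_mem_zpowers hg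
    have := h54 (g : G) g.2 (by rw [hog]; exact hcopK)
    rwa [hog] at this

/-- **B-G 15.7(e) for type P1**: if `M = K M_σ` with `M_σ` nilpotent is not TI, then alternative (b) or (c)
of Type V holds. -/
theorem typeV_core (hG : IsMinSimpleOddOrder G) (rows : Rows G)
    {M K : Subgroup G} (hM : IsCoatom M) (hKU : IsSigmaDecomposition M K ⊥)
    (hK : K ≠ ⊥) (hnil : Group.IsNilpotent ↥(sigmaCore M))
    (hTI : ¬ IsTISubset (sigmaCore M : Set G)) :
    (∃ p : ℕ, p.Prime ∧ p ∣ Nat.card (sigmaCore M) ∧ Nat.card K ∣ p - 1 ∧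
        IsCyclic (pPrimeCore p (sigmaCore M))) ∨
    (∃ p : ℕ, p.Prime ∧ p ∣ Nat.card (sigmaCore M) ∧
        Nat.card (pCore p (sigmaCore M)) = p ^ 3 ∧
        Nat.card K ∣ p + 1 ∧ IsCyclic (pPrimeCore p (sigmaCore M))) := by
  classical
  haveI := hnil
  obtain ⟨h50a, h50b, -⟩ := rows.r1350 M hM
  have hHM : sigmaCore M ≤ M := sigmaCore_le M
  have hMH : M ≤ normalizer (sigmaCore M : Set G) := le_normalizer_sigmaCore M
  obtain ⟨g, x, p, hp, hgM, hxH, hxo, hgx⟩ := exists_fusion_of_not_TI hMH hTI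
  haveI : Fact p.Prime := ⟨hp⟩
  have hx1 : x ≠ 1 := by
    intro h
    rw [h, orderOf_one] at hxo
    exact hp.ne_one hxo.symm
  have hpH : p ∣ Nat.card (sigmaCore M) := by
    rw [← hxo]; exact Subgroup.orderOf_dvd_natCard _ hxH
  have hpσ : p ∈ sigma M := h50a.2.1 p hp hpH
  have hp2 : p ≠ 2 := Cfsg.Agent.Helper34.BG.prime_ne_two hG (sigmaCore M) hpH
  have hCx := centralizer_not_le rows hM hpσ hgM (hHM hxH) hxo (hHM hgx)
  obtain ⟨N, ⟨hN, hCN⟩, hNuniq, hNσF, hCR, hcomplC, hcomplN, -⟩ :=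
    rows.r1375 M hM x hxH hx1 hCx
  obtain ⟨hPH, hQH, hPp, hQcop, hcomm, hnormP, hcompl, hxP'⟩ := split_facts (sigmaCore M) p
  have hxP := hxP' x hxH hxo
  generalize hPdef : (pCore p ↥(sigmaCore M)).map (sigmaCore M).subtype = P at *
  generalize hQdef : (pPrimeCore p ↥(sigmaCore M)).map (sigmaCore M).subtype = Q at *
  have hKs1 := (rows.r1354 M hM K hKU.cyclic hKU.hall).1
  -- `P` is nonabelian
  have hPna : ¬ IsMulCommutative P := by
    intro hPc
    have hHC : sigmaCore M ≤ centralizer ({x} : Set G) := by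
      intro h hh
      obtain ⟨a, ha, b, hb, rfl⟩ := hcompl.2.2.2 h hh
      rw [mem_centralizer_singleton_iff]
      have h1 : a * x = x * a := comm_of_isMulCommutative hPc a ha x hxP
      have h2 : x * b = b * x := hcomm x hxP b hb
      calc a * b * x = a * (b * x) := mul_assoc _ _ _
        _ = a * (x * b) := by rw [h2]
        _ = (a * x) * b := (mul_assoc _ _ _).symm
        _ = (x * a) * b := by rw [h1]
        _ = x * (a * b) := mul_assoc _ _ _
    have hc1 : Nat.card ↥(sigmaCore M ⊓ centralizer (K : Set G)) ≠ 1 :=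
      fun h => hKs1 (card_eq_one.mp h)
    obtain ⟨r, hr, hrd⟩ := Nat.exists_prime_and_dvd hc1
    obtain ⟨-, -, h31, -⟩ := rows.r1431 M hM K hKU.hall hK
    haveI : Fact r.Prime := ⟨hr⟩
    obtain ⟨hu, hSM, -⟩ := h31 r hr hrd (default : Sylow r ↥(sigmaCore M))
    have : N = M := uniq_eq_of_le hu hM hSM hN ((map_subtype_le _).trans (hHC.trans hCN))
    exact hCx (this ▸ hCN)
  -- `A = Z(P) ⊔ Q` is nilpotent, hence cyclic
  have hAH : (P ⊓ centralizer (P : Set G)) ⊔ Q ≤ sigmaCore M :=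
    sup_le (inf_le_left.trans hPH) hQH
  have hnilA : Group.IsNilpotent ↥((P ⊓ centralizer (P : Set G)) ⊔ Q) := by
    haveI : Group.IsNilpotent
        ↥(((P ⊓ centralizer (P : Set G)) ⊔ Q).subgroupOf (sigmaCore M)) := inferInstance
    exact Group.nilpotent_of_mulEquiv (Subgroup.subgroupOfEquivOfLe hAH)
  have hAcyc := isCyclic_center_sup hG rows hM hN (hPH.trans hHM) (hQH.trans hHM) hPp hPna hcomm
    hxP hnilA hCN hCR hcomplC hcomplN hCx
  have hQcyc : IsCyclic ↥Q := isCyclic_of_le le_sup_right hAcyc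
  have hZPcyc : IsCyclic ↥(P ⊓ centralizer (P : Set G)) := isCyclic_of_le le_sup_left hAcyc
  have hQcyc' : IsCyclic ↥(pPrimeCore p ↥(sigmaCore M)) := by
    haveI : IsCyclic ↥((pPrimeCore p ↥(sigmaCore M)).map (sigmaCore M).subtype) := by
      rw [hQdef]; exact hQcyc
    exact isCyclic_of_surjective ((pPrimeCore p ↥(sigmaCore M)).equivMapOfInjective _
      (sigmaCore M).subtype_injective).symm.toMonoidHom (MulEquiv.surjective _)
  have hKM : K ≤ M := hKU.hall.1
  have hKP : K ≤ normalizer (P : Set G) := (hKM.trans hMH).trans hnormP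
  have hP1 : P ≠ ⊥ := by
    intro h
    rw [h, mem_bot] at hxP
    exact hx1 hxP
  obtain ⟨Z, hZP, hZ, hKZ⟩ :=
    Cfsg.Agent.Helper70.BG157.exists_omega_one P K hPp hP1 hKP hZPcyc
  by_cases hf : ∀ k ∈ K, k ≠ 1 → ¬ Z ≤ centralizer ({k} : Set G)
  · left
    exact ⟨p, hp, hpH,
      Cfsg.Agent.Helper90.BG157.card_dvd_pred_of_faithful K Z hZ hKZ hf, hQcyc'⟩
  · push Not at hf
    obtain ⟨k, hkK, hk1, hZk⟩ := hf
    have h30 := (rows.r1430 M hM K hKU.hall hK).1
    have h73 := rows.r1373 M hM K ⊥ hKU hK rfl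
    have hZH : Z ≤ sigmaCore M := (hZP.trans inf_le_left).trans hPH
    have hZKs : Z ≤ sigmaCore M ⊓ centralizer (K : Set G) := by
      rw [← h30 k hkK hk1]; exact le_inf hZH hZk
    have hZeq : Z = sigmaCore M ⊓ centralizer (K : Set G) := by
      apply eq_of_le_of_card_ge hZKs
      have hd : Nat.card Z ∣ Nat.card ↥(sigmaCore M ⊓ centralizer (K : Set G)) :=
        card_dvd_of_le hZKs
      rw [hZ] at hd
      have := (Nat.prime_dvd_prime_iff_eq hp h73).mp hd
      rw [hZ, this]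
    have hfix : ∀ k' ∈ K, k' ≠ 1 → P ⊓ centralizer ({k'} : Set G) = Z := by
      intro k' hk' hk'1
      apply le_antisymm
      · rw [hZeq, ← h30 k' hk' hk'1]
        exact inf_le_inf_right _ hPH
      · refine le_inf (hZP.trans inf_le_left) ?_
        rw [hZeq]
        exact inf_le_right.trans (centralizer_le (by simpa using hk'))
    have hZK : Z ≤ centralizer (K : Set G) := by rw [hZeq]; exact inf_le_right
    have hcopK : (Nat.card K).Coprime p := by
      rw [Nat.coprime_comm, Nat.Prime.coprime_iff_not_dvd hp]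
      intro hd
      exact (hKU.hall.2.1 p hp hd).2.2.1 hpσ
    have hE : IsComplIn K (sigmaCore M) M := by
      refine isComplIn_of_card hKM hHM (Cfsg.Agent.Helper55.BGB.K_inf_sigmaCore hKU) ?_
      have := Cfsg.Agent.Helper55.BGB.card_decomp hKU
      rw [Subgroup.card_bot, one_mul] at this
      exact this.symm
    have hg' : g⁻¹ ∉ M := fun h => hgM (by simpa using M.inv_mem h)
    obtain ⟨-, h26, -⟩ := (rows.r1426 M hM K hE).2.2 g⁻¹ hg'
    have hxmem : x ∈ sigmaCore M ⊓ M.map (MulAut.conj g⁻¹).toMonoidHom := by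
      refine mem_inf.mpr ⟨hxH, ⟨g * x * g⁻¹, hHM hgx, ?_⟩⟩
      simp [MulAut.conj_apply, mul_assoc]
    have hpβ : p ∉ beta M :=
      h26 p hp (by rw [← hxo]; exact Subgroup.orderOf_dvd_natCard _ hxmem)
    have hPidx : ¬ p ∣ P.index := by
      rw [← relIndex_mul_index hPH]
      intro hd
      rcases (Nat.Prime.dvd_mul hp).mp hd with h | h
      · have h1 := card_mul_relIndex hPH
        have h2 := Cfsg.Agent.Helper23.card_of_isComplIn hcompl
        have h3 : P.relIndex (sigmaCore M) = Nat.card Q := by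
          have hpos : 0 < Nat.card P := Nat.card_pos
          apply Nat.eq_of_mul_eq_mul_left hpos
          rw [h1, h2]
        rw [h3] at h
        exact (Nat.Prime.coprime_iff_not_dvd hp).mp hQcop.symm h
      · exact h50b.2 p hp hpσ h
    have hB := caseB hG rows hM hp2 (hPH.trans hHM) hPp hPna hPidx hKU.cyclic hKM hKP hcopK hK hZ
      hZP hZK hfix hpβ
    rcases hB with h | ⟨h3, h⟩
    · left; exact ⟨p, hp, hpH, h, hQcyc'⟩
    · right
      refine ⟨p, hp, hpH, ?_, h, hQcyc'⟩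
      rw [← h3, ← hPdef]
      exact (card_map_of_injective (sigmaCore M).subtype_injective).symm

end Cfsg.Agent.Helper2.BG157
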