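import Mathlib
import Cfsg.Prelude.Def_OddOrderLocal
import Cfsg.Agent.Lib.Helper2.BG157Defs
import Cfsg.Agent.Lib.Helper2.BG157Core
import Cfsg.Agent.Lib.Helper25.BGTypeIIP
import Cfsg.Agent.Lib.Helper25.BGTypeIIAux
import Cfsg.Agent.Lib.Helper68.BG157G

/-!
# S1383 from the rows (helper2): `M` is of Type V iff `K ≠ 1`, `U = 1` and `M_F = M_σ`

(⇒) type-P data `(W₁, 1, W₂)`: every prime divisor of `#W₁` lies in `κ(M)` (piece (G), helper68), so `K ≠ 1`; `U' = 1`
gives `M' ≤ M_F`, so `M_F = M_σ` (S1355) and `U ≤ M' ≤ M_σ` (S1365) forces `U = 1`.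
(⇐) type-P data `(K, 1, K*)` by helper25's `typeP_data` (as in S1381); the TI-alternative or `typeV_core`.
-/

set_option autoImplicit false
set_option linter.unusedSectionVars false
set_option linter.unusedVariables false
set_option linter.style.haveILetI false

namespace Cfsg.Agent.Helper2.BG157

open Subgroup Cfsg

variable {G : Type*} [Group G] [Finite G]

/-- **S1383** from the rows: `M` is of Type V iff `K ≠ 1`, `U = 1` and `M_F = M_σ`. -/
theorem s1383 (hG : IsMinSimpleOddOrder G) (rows : Rows G) (M : Subgroup G) (hM : IsCoatom M)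
    (K U : Subgroup G) (hKU : IsSigmaDecomposition M K U) :
    IsOfTypeV M ↔ (K ≠ ⊥ ∧ U = ⊥ ∧ fittingHallOf M = sigmaCore M) := by
  obtain ⟨h50a, -, -⟩ := rows.r1350 M hM
  obtain ⟨h55a, h55b, h55c, h55d, -⟩ := rows.r1355 M hM
  constructor
  · rintro ⟨W₁, U', W₂, hP, hU', -⟩
    -- `K ≠ ⊥`
    have hK : K ≠ ⊥ := by
      have hc : Nat.card W₁ ≠ 1 := fun h => hP.W₁_ne (card_eq_one.mp h)
      obtain ⟨q, hq, hqW⟩ := Nat.exists_prime_and_dvd hc
      have hqκ : q ∈ kappa M :=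
        Cfsg.Agent.Helper68.BG157.mem_kappa_of_typeP hP h50a h55c h55b q hq hqW
      intro hKbot
      apply hKU.hall.2.2 q hq hqκ
      rw [hKbot, Subgroup.relIndex_bot_left]
      exact hqκ.2.1
    -- `M_F = M_σ`
    have hDF : ⁅M, M⁆ ≤ fittingHallOf M := by
      intro m hm
      obtain ⟨a, ha, b, hb, rfl⟩ := hP.U_compl.2.2.2 m hm
      rw [hU', mem_bot] at hb
      subst hb
      simpa using ha
    have hFσ : fittingHallOf M = sigmaCore M := le_antisymm h55b (h55c.trans hDF)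
    -- `U = ⊥`
    obtain ⟨h65a, -⟩ := rows.r1365 M hM K U hKU hK
    have hUσ : U ≤ sigmaCore M := by
      have : U ≤ ⁅M, M⁆ := by rw [h65a]; exact le_sup_left
      exact (this.trans hDF).trans h55b
    have hU : U = ⊥ := by
      rw [eq_bot_iff, ← hKU.compl.2.2.1]
      exact le_inf le_rfl (hUσ.trans le_sup_right)
    exact ⟨hK, hU, hFσ⟩
  · rintro ⟨hK, hU, hFσ⟩
    subst hU
    have h54 := (rows.r1354 M hM K hKU.cyclic hKU.hall).2 hK
    obtain ⟨h56a, h56b, h56c⟩ := rows.r1356 M hM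
    obtain ⟨h63a, h63b⟩ := rows.r1363 M hM K ⊥ hKU hK
    obtain ⟨-, h64a, h64b, h64c⟩ := rows.r1364 M hM K ⊥ hKU hK
    obtain ⟨h65a, h65b⟩ := rows.r1365 M hM K ⊥ hKU hK
    obtain ⟨Mstar, ⟨hMs, hKst, hKstH⟩, -⟩ := rows.r1366 M hM K ⊥ hKU hK
    have h68 := (rows.r1368 M hM K ⊥ hKU hK Mstar hMs hKst hKstH).2
    obtain ⟨h70a, h70b⟩ := rows.r1370 M hM K ⊥ hKU hK
    have hκ : (kappa M).Nonempty := by
      have hc : Nat.card K ≠ 1 := fun h => hK (Subgroup.card_eq_one.mp h)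
      obtain ⟨p, hp, hpK⟩ := Nat.exists_prime_and_dvd hc
      exact ⟨p, hKU.hall.2.1 p hp hpK⟩
    have hP : IsTypePWith M K ⊥ (sigmaCore M ⊓ centralizer (K : Set G)) :=
      Cfsg.Agent.Helper25.BGTypeII.typeP_data hKU hK inf_le_left inf_le_right h54 h55c h56a h56b
        (h56c hκ) hFσ h63a h64a h64b h64c h65a h65b h68 h70a h70b
    refine ⟨K, ⊥, sigmaCore M ⊓ centralizer (K : Set G), hP, rfl, ?_⟩
    by_cases hTI : IsTISubset (fittingHallOf M : Set G)
    · exact Or.inl hTI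
    · right
      have hnil : Group.IsNilpotent ↥(fittingHallOf M) :=
        Cfsg.Agent.Helper25.BGTypeII.isNilpotent_fittingHallOf M
      have key : ∀ F : Subgroup G, F = sigmaCore M → Group.IsNilpotent ↥F →
          ¬ IsTISubset (F : Set G) →
          (∃ p : ℕ, p.Prime ∧ p ∣ Nat.card F ∧ Nat.card K ∣ p - 1 ∧ IsCyclic (pPrimeCore p F)) ∨
          (∃ p : ℕ, p.Prime ∧ p ∣ Nat.card F ∧ Nat.card (pCore p F) = p ^ 3 ∧
            Nat.card K ∣ p + 1 ∧ IsCyclic (pPrimeCore p F)) := by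
        intro F hF hnilF hTI'
        subst hF
        exact typeV_core hG rows hM hKU hK hnilF hTI'
      exact key _ hFσ hnil hTI

end Cfsg.Agent.Helper2.BG157
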