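import Mathlib

/-!
# Lattice lemma for exceptional characters (Brauer–Leonard project, helper46 request L4/L5)

`lattice_core`: the classical "exceptional characters" lattice lemma.
`sum_act_eq`: orbit-sum identity for an action given by a bare function.
-/

set_option autoImplicit false

namespace Cfsg.Agent.Helper2.BLLattice

open Finset

section Support

variable {ι : Type*} [Fintype ι] [DecidableEq ι]

/-- An integer vector of square norm `2` has exactly two nonzero entries, both `±1`. -/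
theorem two_support (v : ι → ℤ) (h : ∑ i, v i * v i = 2) :
    ∃ α β, α ≠ β ∧ (v α = 1 ∨ v α = -1) ∧ (v β = 1 ∨ v β = -1) ∧
      ∀ i, i ≠ α → i ≠ β → v i = 0 := by
  classical
  have hnn : ∀ i, 0 ≤ v i * v i := fun i => mul_self_nonneg (v i)
  -- a first nonzero entry
  have h1 : ∃ α, v α ≠ 0 := by
    by_contra hcon
    push Not at hcon
    have : ∑ i, v i * v i = 0 := Finset.sum_eq_zero (fun i _ => by rw [hcon i]; ring)
    omega
  obtain ⟨α, hα⟩ := h1
  have hαle : v α * v α ≤ 2 := by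
    rw [← h]
    exact Finset.single_le_sum (f := fun i => v i * v i) (fun i _ => hnn i) (Finset.mem_univ α)
  have hαb : -1 ≤ v α ∧ v α ≤ 1 := by constructor <;> nlinarith
  have hα1 : v α = 1 ∨ v α = -1 := by omega
  have hαsq : v α * v α = 1 := by rcases hα1 with h' | h' <;> rw [h'] <;> norm_num
  have hrest : ∑ i ∈ Finset.univ.erase α, v i * v i = 1 := by
    have : v α * v α + ∑ i ∈ Finset.univ.erase α, v i * v i = ∑ i, v i * v i :=
      Finset.add_sum_erase Finset.univ (fun i => v i * v i) (Finset.mem_univ α)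
    omega
  have h2 : ∃ β ∈ Finset.univ.erase α, v β ≠ 0 := by
    by_contra hcon
    push Not at hcon
    have : ∑ i ∈ Finset.univ.erase α, v i * v i = 0 :=
      Finset.sum_eq_zero (fun i hi => by rw [hcon i hi]; ring)
    omega
  obtain ⟨β, hβmem, hβ⟩ := h2
  have hβα : β ≠ α := (Finset.mem_erase.mp hβmem).1
  have hβle : v β * v β ≤ 1 := by
    rw [← hrest]
    exact Finset.single_le_sum (f := fun i => v i * v i) (fun i _ => hnn i) hβmem
  have hβb : -1 ≤ v β ∧ v β ≤ 1 := by constructor <;> nlinarith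
  have hβ1 : v β = 1 ∨ v β = -1 := by omega
  have hβsq : v β * v β = 1 := by rcases hβ1 with h' | h' <;> rw [h'] <;> norm_num
  have hrest2 : ∑ i ∈ (Finset.univ.erase α).erase β, v i * v i = 0 := by
    have : v β * v β + ∑ i ∈ (Finset.univ.erase α).erase β, v i * v i =
        ∑ i ∈ Finset.univ.erase α, v i * v i :=
      Finset.add_sum_erase (Finset.univ.erase α) (fun i => v i * v i) hβmem
    omega
  refine ⟨α, β, hβα.symm, hα1, hβ1, ?_⟩
  intro i hiα hiβ
  have hmem : i ∈ (Finset.univ.erase α).erase β :=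
    Finset.mem_erase.mpr ⟨hiβ, Finset.mem_erase.mpr ⟨hiα, Finset.mem_univ i⟩⟩
  have := (Finset.sum_eq_zero_iff_of_nonneg (fun i _ => hnn i)).mp hrest2 i hmem
  exact mul_self_eq_zero.mp this

/-- An integer vector of square norm `2` orthogonal to a positive vector is `e_α - e_β`. -/
theorem diff_shape (v D : ι → ℤ) (hD : ∀ i, 0 < D i) (h2 : ∑ i, v i * v i = 2)
    (h0 : ∑ i, D i * v i = 0) :
    ∃ α β, α ≠ β ∧ ∀ i, v i = (if i = α then 1 else 0) - (if i = β then 1 else 0) := by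
  classical
  obtain ⟨α, β, hαβ, hα, hβ, hz⟩ := two_support v h2
  have hsum : ∑ i, D i * v i = D α * v α + D β * v β := by
    apply Finset.sum_eq_add α β hαβ
    · intro c _ hc
      rw [hz c hc.1 hc.2]; ring
    · intro h; exact absurd (Finset.mem_univ α) h
    · intro h; exact absurd (Finset.mem_univ β) h
  rw [hsum] at h0
  have hDα := hD α
  have hDβ := hD β
  rcases hα with hα | hα <;> rcases hβ with hβ | hβ
  · rw [hα, hβ] at h0; omega
  · refine ⟨α, β, hαβ, ?_⟩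
    intro i
    by_cases hiα : i = α
    · subst hiα; simp [hα, hαβ]
    · by_cases hiβ : i = β
      · subst hiβ; simp [hβ, hiα]
      · simp [hiα, hiβ, hz i hiα hiβ]
  · refine ⟨β, α, hαβ.symm, ?_⟩
    intro i
    by_cases hiα : i = α
    · subst hiα; simp [hα, hαβ]
    · by_cases hiβ : i = β
      · subst hiβ; simp [hβ, hiα]
      · simp [hiα, hiβ, hz i hiα hiβ]
  · rw [hα, hβ] at h0; omega

/-- The inner product of `e_α - e_β` and `e_γ - e_δ`. -/
theorem inner_unit_diff (α β γ δ : ι) :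
    ∑ i, (((if i = α then 1 else 0) - (if i = β then 1 else 0) : ℤ) *
        ((if i = γ then 1 else 0) - (if i = δ then 1 else 0))) =
      (if α = γ then 1 else 0) - (if α = δ then 1 else 0) - (if β = γ then 1 else 0)
        + (if β = δ then 1 else 0) := by
  classical
  have : ∀ i : ι, (((if i = α then 1 else 0) - (if i = β then 1 else 0) : ℤ) *
        ((if i = γ then 1 else 0) - (if i = δ then 1 else 0))) =
      (if i = α then (if i = γ then (1:ℤ) else 0) else 0)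
        - (if i = α then (if i = δ then (1:ℤ) else 0) else 0)
        - (if i = β then (if i = γ then (1:ℤ) else 0) else 0)
        + (if i = β then (if i = δ then (1:ℤ) else 0) else 0) := by
    intro i
    split_ifs <;> ring
  simp_rw [this, Finset.sum_add_distrib, Finset.sum_sub_distrib, Finset.sum_ite_eq',
    Finset.mem_univ, if_true]

omit [Fintype ι] in
/-- `e_α - e_β` (with `α ≠ β`) determines `α` and `β`. -/
theorem unit_diff_inj {α β γ δ : ι} (hαβ : α ≠ β) (_hγδ : γ ≠ δ)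
    (h : ∀ i, ((if i = α then 1 else 0) - (if i = β then 1 else 0) : ℤ) =
      (if i = γ then 1 else 0) - (if i = δ then 1 else 0)) : α = γ ∧ β = δ := by
  classical
  constructor
  · by_contra hne
    have := h α
    simp only [if_true] at this
    rw [if_neg hαβ, if_neg hne] at this
    split_ifs at this <;> omega
  · by_contra hne
    have := h β
    simp only [if_true] at this
    rw [if_neg (Ne.symm hαβ), if_neg hne] at this
    split_ifs at this <;> omega

end Support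

section Core

variable {ι Λ : Type*} [Fintype ι] [DecidableEq ι]

/-- The core assembly: all differences `b ψ₀ - b ψ` have their `+1` at the same place. -/
theorem core_pos (R : Λ → Λ → Prop) [DecidableRel R] (hR : Equivalence R)
    (b : Λ → ι → ℤ) (c : ℤ)
    (hbR : ∀ ψ ψ', R ψ ψ' → b ψ = b ψ')
    (hdiag : ∀ ψ, ∑ i, b ψ i * b ψ i = c)
    (ψ₀ : Λ) (α₀ : ι) (β : Λ → ι)
    (h1 : ∀ ψ, ¬ R ψ₀ ψ → β ψ ≠ α₀ ∧
      ∀ i, b ψ₀ i - b ψ i = (if i = α₀ then 1 else 0) - (if i = β ψ then 1 else 0))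
    (h2 : ∀ ψ ψ', ¬ R ψ₀ ψ → ¬ R ψ₀ ψ' → (β ψ = β ψ' ↔ R ψ ψ')) :
    ∃ (d : ℤ) (a : ι → ℤ) (ζ : Λ → ι), (∀ ψ ψ', ζ ψ = ζ ψ' ↔ R ψ ψ') ∧
      (∀ ψ i, b ψ i = a i + if i = ζ ψ then 1 else 0) ∧ (∀ ψ, a (ζ ψ) = d) := by
  classical
  set a : ι → ℤ := fun i => b ψ₀ i - (if i = α₀ then 1 else 0) with ha
  set ζ : Λ → ι := fun ψ => if R ψ₀ ψ then α₀ else β ψ with hζ
  have hζ0 : ∀ ψ, R ψ₀ ψ → ζ ψ = α₀ := fun ψ h => by simp [hζ, h]
  have hζ1 : ∀ ψ, ¬ R ψ₀ ψ → ζ ψ = β ψ := fun ψ h => by simp [hζ, h]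
  have hb : ∀ ψ i, b ψ i = a i + if i = ζ ψ then 1 else 0 := by
    intro ψ i
    by_cases hψ : R ψ₀ ψ
    · rw [hζ0 ψ hψ, ← hbR ψ₀ ψ hψ]
      simp only [ha]; ring
    · rw [hζ1 ψ hψ]
      have := (h1 ψ hψ).2 i
      simp only [ha]
      linarith
  have hinj : ∀ ψ ψ', ζ ψ = ζ ψ' ↔ R ψ ψ' := by
    intro ψ ψ'
    by_cases hψ : R ψ₀ ψ <;> by_cases hψ' : R ψ₀ ψ'
    · rw [hζ0 ψ hψ, hζ0 ψ' hψ']
      exact ⟨fun _ => hR.trans (hR.symm hψ) hψ', fun _ => rfl⟩
    · rw [hζ0 ψ hψ, hζ1 ψ' hψ']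
      constructor
      · intro h; exact absurd h.symm (h1 ψ' hψ').1
      · intro h; exact absurd (hR.trans hψ h) hψ'
    · rw [hζ1 ψ hψ, hζ0 ψ' hψ']
      constructor
      · intro h; exact absurd h (h1 ψ hψ).1
      · intro h; exact absurd (hR.trans hψ' (hR.symm h)) hψ
    · rw [hζ1 ψ hψ, hζ1 ψ' hψ']
      exact h2 ψ ψ' hψ hψ'
  have hval : ∀ ψ, 2 * a (ζ ψ) = c - 1 - ∑ i, a i * a i := by
    intro ψ
    have hd := hdiag ψ
    have hexp : ∀ i, b ψ i * b ψ i =
        a i * a i + 2 * (if i = ζ ψ then a i else 0) + (if i = ζ ψ then 1 else 0) := by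
      intro i
      rw [hb ψ i]
      split_ifs <;> ring
    simp_rw [hexp, Finset.sum_add_distrib, ← Finset.mul_sum, Finset.sum_ite_eq',
      Finset.mem_univ, if_true] at hd
    linarith
  refine ⟨a (ζ ψ₀), a, ζ, hinj, hb, ?_⟩
  intro ψ
  have e1 := hval ψ
  have e2 := hval ψ₀
  omega

end Core

/-- **L4** (helper46): the "exceptional characters" lattice lemma. -/
theorem lattice_core {ι Λ : Type*} [Fintype ι] [DecidableEq ι] [Fintype Λ] (R : Λ → Λ → Prop) [DecidableRel R] (hR : Equivalence R) (b : Λ → ι → ℤ) (m : ℤ) (D : ι → ℤ) (hD : ∀ i, 0 < D i) (hbR : ∀ ψ ψ', R ψ ψ' → b ψ = b ψ') (hgram : ∀ ψ ψ', ∑ i, b ψ i * b ψ' i = m + if R ψ ψ' then 1 else 0) (hdeg : ∀ ψ, ∑ i, D i * b ψ i = 0) (htwo : ∃ ψ ψ', ¬ R ψ ψ') : ∃ (ε d : ℤ) (a : ι → ℤ) (ζ : Λ → ι), (ε = 1 ∨ ε = -1) ∧ (∀ ψ ψ', ζ ψ = ζ ψ' ↔ R ψ ψ') ∧ (∀ ψ i, b ψ i = a i + if i = ζ ψ then ε else 0) ∧ (∀ ψ, a (ζ ψ) = d) := by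
  classical
  obtain ⟨ψ₀, ψ₁, h01⟩ := htwo
  have hdiag : ∀ ψ, ∑ i, b ψ i * b ψ i = m + 1 := by
    intro ψ; rw [hgram ψ ψ, if_pos (hR.refl ψ)]
  have hoff : ∀ ψ ψ', ¬ R ψ ψ' → ∑ i, b ψ i * b ψ' i = m := by
    intro ψ ψ' h; rw [hgram ψ ψ', if_neg h, add_zero]
  have hsymm : ∀ {ψ ψ'}, ¬ R ψ ψ' → ¬ R ψ' ψ := fun h h' => h (hR.symm h')
  -- shape of differences
  have key : ∀ ψ, ¬ R ψ₀ ψ → ∃ α β, α ≠ β ∧
      ∀ i, b ψ₀ i - b ψ i = (if i = α then 1 else 0) - (if i = β then 1 else 0) := by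
    intro ψ hψ
    apply diff_shape (fun i => b ψ₀ i - b ψ i) D hD
    · have : ∀ i, (b ψ₀ i - b ψ i) * (b ψ₀ i - b ψ i) =
          b ψ₀ i * b ψ₀ i - b ψ₀ i * b ψ i - b ψ i * b ψ₀ i + b ψ i * b ψ i := fun i => by ring
      simp_rw [this, Finset.sum_add_distrib, Finset.sum_sub_distrib]
      rw [hdiag ψ₀, hdiag ψ, hoff ψ₀ ψ hψ, hoff ψ ψ₀ (hsymm hψ)]
      ring
    · have : ∀ i, D i * (b ψ₀ i - b ψ i) = D i * b ψ₀ i - D i * b ψ i := fun i => by ring
      simp_rw [this, Finset.sum_sub_distrib]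
      rw [hdeg ψ₀, hdeg ψ]; ring
  obtain ⟨α₁, -, -, -⟩ := key ψ₁ h01
  have : Nonempty ι := ⟨α₁⟩
  choose! pos neg hpn using key
  -- inner products of two differences
  have hP : ∀ ψ ψ', ¬ R ψ₀ ψ → ¬ R ψ₀ ψ' → ¬ R ψ ψ' →
      (pos ψ = pos ψ' ∧ neg ψ ≠ neg ψ') ∨ (pos ψ ≠ pos ψ' ∧ neg ψ = neg ψ') := by
    intro ψ ψ' hψ hψ' hψψ'
    have hinner : ∑ i, (b ψ₀ i - b ψ i) * (b ψ₀ i - b ψ' i) = 1 := by
      have : ∀ i, (b ψ₀ i - b ψ i) * (b ψ₀ i - b ψ' i) =
          b ψ₀ i * b ψ₀ i - b ψ₀ i * b ψ' i - b ψ i * b ψ₀ i + b ψ i * b ψ' i := fun i => by ring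
      simp_rw [this, Finset.sum_add_distrib, Finset.sum_sub_distrib]
      rw [hdiag ψ₀, hoff ψ₀ ψ' hψ', hoff ψ ψ₀ (hsymm hψ), hoff ψ ψ' hψψ']
      ring
    have h1 := (hpn ψ hψ).2
    have h2 := (hpn ψ' hψ').2
    simp_rw [h1, h2] at hinner
    rw [inner_unit_diff] at hinner
    have n1 := (hpn ψ hψ).1
    have n2 := (hpn ψ' hψ').1
    by_cases e1 : pos ψ = pos ψ' <;> by_cases e2 : neg ψ = neg ψ'
    · exfalso
      have e3 : pos ψ ≠ neg ψ' := fun h => n1 (h.trans e2.symm)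
      have e4 : neg ψ ≠ pos ψ' := fun h => n1 (e1.trans h.symm)
      rw [if_pos e1, if_pos e2, if_neg e3, if_neg e4] at hinner
      omega
    · exact Or.inl ⟨e1, e2⟩
    · exact Or.inr ⟨e1, e2⟩
    · exfalso
      rw [if_neg e1, if_neg e2] at hinner
      split_ifs at hinner <;> omega
  -- related elements have the same positions
  have hE : ∀ ψ ψ', ¬ R ψ₀ ψ → ¬ R ψ₀ ψ' → R ψ ψ' → pos ψ = pos ψ' ∧ neg ψ = neg ψ' := by
    intro ψ ψ' hψ hψ' hψψ'
    apply unit_diff_inj (hpn ψ hψ).1 (hpn ψ' hψ').1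
    intro i
    rw [← (hpn ψ hψ).2 i, ← (hpn ψ' hψ').2 i, hbR ψ ψ' hψψ']
  by_cases hcase : ∀ ψ, ¬ R ψ₀ ψ → pos ψ = pos ψ₁
  · -- Case I: ε = 1
    obtain ⟨d, a, ζ, hζ, hb, hd⟩ := core_pos R hR b (m + 1) hbR hdiag ψ₀ (pos ψ₁) neg
      (by
        intro ψ hψ
        refine ⟨?_, ?_⟩
        · rw [← hcase ψ hψ]; exact (hpn ψ hψ).1.symm
        · intro i; rw [(hpn ψ hψ).2 i, hcase ψ hψ])
      (by
        intro ψ ψ' hψ hψ'
        constructor
        · intro h
          by_contra hn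
          rcases hP ψ ψ' hψ hψ' hn with ⟨_, h'⟩ | ⟨h', _⟩
          · exact h' h
          · exact h' ((hcase ψ hψ).trans (hcase ψ' hψ').symm)
        · intro h; exact (hE ψ ψ' hψ hψ' h).2)
    exact ⟨1, d, a, ζ, Or.inl rfl, hζ, hb, hd⟩
  · -- Case II: ε = -1
    push Not at hcase
    obtain ⟨ψ₂, h02, hne⟩ := hcase
    have h12 : ¬ R ψ₂ ψ₁ := fun h => hne (hE ψ₂ ψ₁ h02 h01 h).1
    have hneg2 : neg ψ₂ = neg ψ₁ := by
      rcases hP ψ₂ ψ₁ h02 h01 h12 with ⟨h', _⟩ | ⟨_, h'⟩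
      · exact absurd h' hne
      · exact h'
    have hnegc : ∀ ψ, ¬ R ψ₀ ψ → neg ψ = neg ψ₁ := by
      intro ψ hψ
      by_contra hn
      have r1 : ¬ R ψ ψ₁ := fun h => hn (hE ψ ψ₁ hψ h01 h).2
      have r2 : ¬ R ψ ψ₂ := fun h => hn ((hE ψ ψ₂ hψ h02 h).2.trans hneg2)
      have p1 : pos ψ = pos ψ₁ := by
        rcases hP ψ ψ₁ hψ h01 r1 with ⟨h', _⟩ | ⟨_, h'⟩
        · exact h'
        · exact absurd h' hn
      have p2 : pos ψ = pos ψ₂ := by
        rcases hP ψ ψ₂ hψ h02 r2 with ⟨h', _⟩ | ⟨_, h'⟩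
        · exact h'
        · exact absurd (h'.trans hneg2) hn
      exact hne (p2.symm.trans p1)
    obtain ⟨d, a, ζ, hζ, hb, hd⟩ := core_pos R hR (fun ψ i => - b ψ i) (m + 1)
      (by intro ψ ψ' h; funext i; rw [hbR ψ ψ' h])
      (by intro ψ; simp only [neg_mul_neg]; exact hdiag ψ)
      ψ₀ (neg ψ₁) pos
      (by
        intro ψ hψ
        refine ⟨?_, ?_⟩
        · rw [← hnegc ψ hψ]; exact (hpn ψ hψ).1
        · intro i
          have := (hpn ψ hψ).2 i
          rw [hnegc ψ hψ] at this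
          linarith)
      (by
        intro ψ ψ' hψ hψ'
        constructor
        · intro h
          by_contra hn
          rcases hP ψ ψ' hψ hψ' hn with ⟨_, h'⟩ | ⟨h', _⟩
          · exact h' ((hnegc ψ hψ).trans (hnegc ψ' hψ').symm)
          · exact h' h
        · intro h; exact (hE ψ ψ' hψ hψ' h).1)
    refine ⟨-1, -d, fun i => - a i, ζ, Or.inr rfl, hζ, ?_, ?_⟩
    · intro ψ i
      have := hb ψ i
      split_ifs at this ⊢ <;> linarith
    · intro ψ; simp only [hd ψ]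

/-- **L5** (helper46): orbit-sum identity for an action given as a bare function. -/
theorem sum_act_eq {N' X : Type*} [Group N'] [Fintype N'] [Fintype X] [DecidableEq X] (act : N' → X → X) (hmul : ∀ n n' x, act (n * n') x = act n (act n' x)) (hone : ∀ x, act 1 x = x) (St : Subgroup N') (x : X) (hSt : ∀ n, act n x = x ↔ n ∈ St) (g : X → ℂ) : ∑ n : N', g (act n x) = (Nat.card St : ℂ) * ∑ x' : X, if ∃ n, act n x = x' then g x' else 0 := by
  classical
  have hfib : ∀ x' : X, ∑ n : N' with act n x = x', g (act n x) =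
      (Nat.card St : ℂ) * (if ∃ n, act n x = x' then g x' else 0) := by
    intro x'
    by_cases hex : ∃ n, act n x = x'
    · rw [if_pos hex]
      obtain ⟨n₀, hn₀⟩ := hex
      have hconst : ∑ n : N' with act n x = x', g (act n x) =
          ∑ n : N' with act n x = x', g x' :=
        Finset.sum_congr rfl (fun n hn => by rw [(Finset.mem_filter.mp hn).2])
      rw [hconst, Finset.sum_const, nsmul_eq_mul]
      congr 1
      -- the fibre is the coset n₀ St
      have hinv : ∀ n, act n⁻¹ (act n x) = x := by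
        intro n; rw [← hmul, inv_mul_cancel, hone]
      have hcard : (Finset.univ.filter (fun n : N' => act n x = x')).card = Nat.card St := by
        rw [Nat.card_eq_fintype_card, ← Finset.card_univ]
        symm
        refine Finset.card_bij (fun (s : St) _ => n₀ * (s : N')) ?_ ?_ ?_
        · intro s _
          rw [Finset.mem_filter]
          refine ⟨Finset.mem_univ _, ?_⟩
          rw [hmul, (hSt s).mpr s.2, hn₀]
        · intro s _ s' _ h
          exact Subtype.ext (mul_left_cancel h)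
        · intro n hn
          have hn' : act n x = x' := (Finset.mem_filter.mp hn).2
          have : n₀⁻¹ * n ∈ St := by
            rw [← hSt, hmul, hn', ← hn₀, hinv]
          exact ⟨⟨n₀⁻¹ * n, this⟩, Finset.mem_univ _, by simp⟩
      rw [hcard]
    · rw [if_neg hex, mul_zero]
      apply Finset.sum_eq_zero
      intro n hn
      exact absurd ⟨n, (Finset.mem_filter.mp hn).2⟩ hex
  rw [Finset.mul_sum]
  rw [← Finset.sum_fiberwise Finset.univ (fun n : N' => act n x) (fun n => g (act n x))]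
  exact Finset.sum_congr rfl (fun x' _ => hfib x')

end Cfsg.Agent.Helper2.BLLattice
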