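import Mathlib
import Cfsg.Agent.Lib.Helper2.PGroup
import Cfsg.Agent.Lib.Helper47.Frat
import Cfsg.Agent.Lib.Helper87.OmegaLemma

set_option autoImplicit false
open scoped commutatorElement

/-!
# Coprime automorphism groups acting trivially on characteristic abelian subgroups (helper2)

Gorenstein 5.3.7-type: `G = [G, A]`, `A` a `p'`-group trivial on every characteristic abelian subgroup
⇒ `G` special with `Z(G) = C_G(A)`.
-/

namespace Cfsg.Agent.Helper2

section

variable {G : Type*} [Group G] (A : Subgroup (MulAut G))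

/-- Step 1: a normal abelian subgroup fixed pointwise by `A` is central when `G = [G, A]`. -/
theorem le_center_of_fixed_of_gen
    (hGA : Subgroup.closure {x : G | ∃ g : G, ∃ a ∈ A, x = g⁻¹ * a g} = ⊤)
    (H : Subgroup G) [H.Normal] (hfix : ∀ a ∈ A, ∀ h ∈ H, a h = h) :
    H ≤ Subgroup.center G := by
  have hle : Subgroup.closure {x : G | ∃ g : G, ∃ a ∈ A, x = g⁻¹ * a g} ≤
      Subgroup.centralizer (H : Set G) := by
    rw [Subgroup.closure_le]
    rintro _ ⟨g, a, ha, rfl⟩
    rw [SetLike.mem_coe, Subgroup.mem_centralizer_iff]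
    intro h hh
    -- `a (g h g⁻¹) = g h g⁻¹`
    have h1 : g * h * g⁻¹ ∈ H := ‹H.Normal›.conj_mem h hh g
    have h2 := hfix a ha _ h1
    rw [map_mul, map_mul, map_inv, hfix a ha h hh] at h2
    -- `a g * h * (a g)⁻¹ = g * h * g⁻¹`
    calc h * (g⁻¹ * a g) = g⁻¹ * (g * h * g⁻¹) * a g := by group
      _ = g⁻¹ * (a g * h * (a g)⁻¹) * a g := by rw [h2]
      _ = g⁻¹ * a g * h := by group
  rw [hGA] at hle
  intro h hh
  rw [Subgroup.mem_center_iff]
  intro g
  exact (Subgroup.mem_centralizer_iff.mp (hle (Subgroup.mem_top g)) h hh).symm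

/-- Step 2: if every characteristic abelian subgroup of the nilpotent group `G` is central then
`G` has class at most two. -/
theorem commutator_le_center_of_char_abelian_central [hnil : Group.IsNilpotent G]
    (hcent : ∀ H : Subgroup G, H.Characteristic → IsMulCommutative H → H ≤ Subgroup.center G) :
    commutator G ≤ Subgroup.center G := by
  set Z₂ := Subgroup.upperCentralSeries G 2 with hZ₂
  have hZ₂mem : ∀ x, x ∈ Z₂ ↔ ∀ y : G, ⁅x, y⁆ ∈ Subgroup.center G := by
    intro x
    rw [hZ₂, show (2 : ℕ) = 1 + 1 from rfl, Subgroup.mem_upperCentralSeries_succ_iff,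
      Subgroup.upperCentralSeries_one]
  -- `[Z₂, G'] = 1`
  have h3 : ⁅⁅(⊤ : Subgroup G), (⊤ : Subgroup G)⁆, Z₂⁆ = ⊥ := by
    apply Subgroup.commutator_commutator_eq_bot_of_rotate
    · -- `⁅⁅⊤, Z₂⁆, ⊤⁆ = ⊥`
      rw [Subgroup.commutator_comm ⊤ Z₂, Subgroup.commutator_top_right_eq_bot_iff_le_center,
        Subgroup.commutator_le]
      intro x hx y _
      exact (hZ₂mem x).mp hx y
    · rw [Subgroup.commutator_top_right_eq_bot_iff_le_center, Subgroup.commutator_le]
      intro x hx y _
      exact (hZ₂mem x).mp hx y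
  have hH : Z₂ ⊓ commutator G ≤ Subgroup.center G := by
    apply hcent (Z₂ ⊓ commutator G) inferInstance
    refine ⟨⟨?_⟩⟩
    rintro ⟨x, hx1, hx2⟩ ⟨y, hy1, hy2⟩
    apply Subtype.ext
    have : ⁅y, x⁆ ∈ ⁅⁅(⊤ : Subgroup G), (⊤ : Subgroup G)⁆, Z₂⁆ := by
      rw [← commutator_def]
      exact Subgroup.commutator_mem_commutator hy2 hx1
    rw [h3, Subgroup.mem_bot, commutatorElement_eq_one_iff_commute] at this
    exact this.eq.symm
  -- descend along the lower central series
  have hdesc : ∀ n : ℕ, 2 ≤ n → Subgroup.lowerCentralSeries (⊤ : Subgroup G) (n + 1) = ⊥ →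
      Subgroup.lowerCentralSeries (⊤ : Subgroup G) n = ⊥ := by
    intro n hn hbot
    obtain ⟨m, rfl⟩ : ∃ m, n = m + 1 := ⟨n - 1, by omega⟩
    have hLn : Subgroup.lowerCentralSeries (⊤ : Subgroup G) (m + 1) ≤ Subgroup.center G := by
      rw [Subgroup.lowerCentralSeries_succ, Subgroup.commutator_top_right_eq_bot_iff_le_center] at hbot
      exact hbot
    have hLm2 : Subgroup.lowerCentralSeries (⊤ : Subgroup G) m ≤ Z₂ := by
      intro x hx
      rw [hZ₂mem]
      intro y
      apply hLn
      rw [Subgroup.lowerCentralSeries_succ]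
      exact Subgroup.commutator_mem_commutator hx (Subgroup.mem_top y)
    have hLmD : Subgroup.lowerCentralSeries (⊤ : Subgroup G) m ≤ commutator G := by
      have h1 : Subgroup.lowerCentralSeries (⊤ : Subgroup G) m ≤
          Subgroup.lowerCentralSeries (⊤ : Subgroup G) 1 :=
        Subgroup.lowerCentralSeries_antitone _ (by omega)
      rw [Subgroup.top_lowerCentralSeries_one] at h1
      exact h1
    have hLmZ : Subgroup.lowerCentralSeries (⊤ : Subgroup G) m ≤ Subgroup.center G :=
      (le_inf hLm2 hLmD).trans hH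
    rw [Subgroup.lowerCentralSeries_succ, Subgroup.commutator_top_right_eq_bot_iff_le_center]
    exact hLmZ
  obtain ⟨N, hN⟩ := Subgroup.nilpotent_iff_lowerCentralSeries.mp hnil
  have hall : ∀ j : ℕ, Subgroup.lowerCentralSeries (⊤ : Subgroup G) (2 + j) = ⊥ →
      Subgroup.lowerCentralSeries (⊤ : Subgroup G) 2 = ⊥ := by
    intro j
    induction j with
    | zero => exact id
    | succ j ih =>
      intro h
      exact ih (hdesc (2 + j) (by omega) h)
  have h2 : Subgroup.lowerCentralSeries (⊤ : Subgroup G) 2 = ⊥ := by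
    apply hall N
    rw [eq_bot_iff, ← hN]
    exact Subgroup.lowerCentralSeries_antitone _ (by omega)
  rw [show (2 : ℕ) = 1 + 1 from rfl, Subgroup.lowerCentralSeries_succ, Subgroup.top_lowerCentralSeries_one,
    Subgroup.commutator_top_right_eq_bot_iff_le_center] at h2
  exact h2

/-- Step 3: fixed points of `A` are central, if commutators with them are fixed by `A`. -/
theorem mem_center_of_fixed
    (hGA : Subgroup.closure {x : G | ∃ g : G, ∃ a ∈ A, x = g⁻¹ * a g} = ⊤)
    (c : G) (hc : ∀ a ∈ A, a c = c) (hcc : ∀ a ∈ A, ∀ g : G, a ⁅g, c⁆ = ⁅g, c⁆) :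
    c ∈ Subgroup.center G := by
  have hle : Subgroup.closure {x : G | ∃ g : G, ∃ a ∈ A, x = g⁻¹ * a g} ≤
      Subgroup.centralizer ({c} : Set G) := by
    rw [Subgroup.closure_le]
    rintro _ ⟨g, a, ha, rfl⟩
    rw [SetLike.mem_coe, Subgroup.mem_centralizer_iff]
    intro y hy
    rw [Set.mem_singleton_iff] at hy
    subst hy
    have h1 := hcc a ha g
    rw [commutatorElement_def, map_mul, map_mul, map_mul, map_inv, map_inv, hc a ha] at h1
    -- `a g * y * (a g)⁻¹ * y⁻¹ = g * y * g⁻¹ * y⁻¹`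
    have h2 : a g * y * (a g)⁻¹ = g * y * g⁻¹ := by
      have := congrArg (· * y) h1
      simpa using this
    calc y * (g⁻¹ * a g) = g⁻¹ * (g * y * g⁻¹) * a g := by group
      _ = g⁻¹ * (a g * y * (a g)⁻¹) * a g := by rw [h2]
      _ = g⁻¹ * a g * y := by group
  rw [hGA] at hle
  rw [Subgroup.mem_center_iff]
  intro g
  exact (Subgroup.mem_centralizer_iff.mp (hle (Subgroup.mem_top g)) c rfl).symm

/-- Step 4: fixed points of the coprime group `A` lie in `G'` when `G = [G, A]`. -/
theorem mem_commutator_of_fixed [Finite G] {p : ℕ} [hp : Fact p.Prime] (hG : IsPGroup p G)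
    (hA : Nat.Coprime (Nat.card A) p)
    (hGA : Subgroup.closure {x : G | ∃ g : G, ∃ a ∈ A, x = g⁻¹ * a g} = ⊤)
    (z : G) (hz : ∀ a ∈ A, a z = z) : z ∈ commutator G := by
  classical
  have : Fintype A := Fintype.ofFinite A
  let ν : G →* Abelianization G :=
    ∏ a : A, (Abelianization.of.comp ((a : MulAut G).toMonoidHom))
  have hν : ∀ g : G, ν g = ∏ a : A, Abelianization.of ((a : MulAut G) g) := by
    intro g
    show (∏ a : A, (Abelianization.of.comp ((a : MulAut G).toMonoidHom))) g = _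
    rw [MonoidHom.finsetProd_apply]
    rfl
  have hker : Subgroup.closure {x : G | ∃ g : G, ∃ a ∈ A, x = g⁻¹ * a g} ≤ ν.ker := by
    rw [Subgroup.closure_le]
    rintro _ ⟨g, a₀, ha₀, rfl⟩
    rw [SetLike.mem_coe, MonoidHom.mem_ker, map_mul, map_inv, inv_mul_eq_one, hν, hν]
    apply Fintype.prod_equiv (Equiv.mulRight (⟨a₀, ha₀⟩ : A)⁻¹)
    intro a
    show Abelianization.of ((a : MulAut G) g) =
      Abelianization.of (((a * (⟨a₀, ha₀⟩ : A)⁻¹ : A) : MulAut G) (a₀ g))
    rw [Subgroup.coe_mul, Subgroup.coe_inv, MulAut.mul_apply, Subgroup.coe_mk, MulAut.inv_apply_self]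
  rw [hGA] at hker
  have h1 : ν z = 1 := hker (Subgroup.mem_top z)
  have h2 : ν z = Abelianization.of z ^ Nat.card A := by
    rw [hν]
    have : ∀ a : A, Abelianization.of ((a : MulAut G) z) = Abelianization.of z := by
      intro a; rw [hz a a.2]
    rw [Finset.prod_congr rfl (fun a _ => this a), Finset.prod_const, Finset.card_univ,
      Nat.card_eq_fintype_card]
  rw [h2] at h1
  obtain ⟨k, hk⟩ := hG z
  have h3 : Abelianization.of z ^ p ^ k = 1 := by rw [← map_pow, hk, map_one]
  have h4 : orderOf (Abelianization.of z) ∣ Nat.card A := orderOf_dvd_of_pow_eq_one h1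
  have h5 : orderOf (Abelianization.of z) ∣ p ^ k := orderOf_dvd_of_pow_eq_one h3
  have h6 : orderOf (Abelianization.of z) = 1 :=
    Nat.eq_one_of_dvd_coprimes (Nat.Coprime.pow_right k hA) h4 h5
  have h7 : Abelianization.of z = 1 := orderOf_eq_one_iff.mp h6
  exact (QuotientGroup.eq_one_iff z).mp h7

/-- Step 5a: in a class-two group in which `p ^ (k+1)`-th powers are central (`k ≥ 1`),
`p ^ k`-th powers commute. -/
theorem commute_pow_pow_of_class_two {p : ℕ} (hD : commutator G ≤ Subgroup.center G) (k : ℕ)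
    (hk : 1 ≤ k) (hpow : ∀ x : G, x ^ p ^ (k + 1) ∈ Subgroup.center G) (x y : G) :
    Commute (x ^ p ^ k) (y ^ p ^ k) := by
  have hcentral : ∀ u v : G, v⁻¹ * u⁻¹ * v * u ∈ Subgroup.center G := by
    intro u v
    apply hD
    have : v⁻¹ * u⁻¹ * v * u = ⁅v⁻¹, u⁻¹⁆ := by rw [commutatorElement_def]; group
    rw [this, commutator_def]
    exact Subgroup.commutator_mem_commutator (Subgroup.mem_top _) (Subgroup.mem_top _)
  set c := y⁻¹ * x⁻¹ * y * x with hc
  have hcZ : c ∈ Subgroup.center G := hcentral x y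
  have hcy : Commute c y := (Subgroup.mem_center_iff.mp hcZ y).symm
  have ha : ∀ n : ℕ, (y ^ n)⁻¹ * x⁻¹ * y ^ n * x = c ^ n :=
    Cfsg.Agent.Helper87.comm_pow_class_two x y c hc hcy
  have hc1 : c ^ p ^ (k + 1) = 1 := by
    rw [← ha]
    have hz := hpow y
    have h1 := Subgroup.mem_center_iff.mp hz x⁻¹
    calc (y ^ p ^ (k + 1))⁻¹ * x⁻¹ * y ^ p ^ (k + 1) * x
        = (y ^ p ^ (k + 1))⁻¹ * (x⁻¹ * y ^ p ^ (k + 1)) * x := by group
      _ = (y ^ p ^ (k + 1))⁻¹ * (y ^ p ^ (k + 1) * x⁻¹) * x := by rw [h1]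
      _ = 1 := by group
  set y' := y ^ p ^ k with hy'
  set c' := x⁻¹ * y'⁻¹ * x * y' with hc'
  have hak : y'⁻¹ * x⁻¹ * y' * x = c ^ p ^ k := ha (p ^ k)
  have hc'eq : c' = (c ^ p ^ k)⁻¹ := by
    rw [← hak, hc']; group
  have hc'Z : c' ∈ Subgroup.center G := hcentral y' x
  have hc'x : Commute c' x := (Subgroup.mem_center_iff.mp hc'Z x).symm
  have hb := Cfsg.Agent.Helper87.comm_pow_class_two y' x c' hc' hc'x (p ^ k)
  have hc'1 : c' ^ p ^ k = 1 := by
    obtain ⟨j, rfl⟩ : ∃ j, k = j + 1 := ⟨k - 1, by omega⟩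
    rw [hc'eq, inv_pow, ← pow_mul]
    have : p ^ (j + 1) * p ^ (j + 1) = p ^ (j + 1 + 1) * p ^ j := by ring
    rw [this, pow_mul, hc1, one_pow, inv_one]
  rw [hc'1] at hb
  show x ^ p ^ k * y' = y' * x ^ p ^ k
  calc x ^ p ^ k * y' = y' * x ^ p ^ k * ((x ^ p ^ k)⁻¹ * y'⁻¹ * x ^ p ^ k * y') := by group
    _ = y' * x ^ p ^ k := by rw [hb, mul_one]

/-- Step 5b: if every characteristic abelian subgroup is central, a finite `p`-group of class two
has `p`-th powers in the centre. -/
theorem pow_mem_center_of_char_abelian_central [Finite G] {p : ℕ} [hp : Fact p.Prime]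
    (hG : IsPGroup p G)
    (hcent : ∀ H : Subgroup G, H.Characteristic → IsMulCommutative H → H ≤ Subgroup.center G)
    (hD : commutator G ≤ Subgroup.center G) (x : G) : x ^ p ∈ Subgroup.center G := by
  have desc : ∀ k : ℕ, 1 ≤ k → (∀ x : G, x ^ p ^ (k + 1) ∈ Subgroup.center G) →
      ∀ x : G, x ^ p ^ k ∈ Subgroup.center G := by
    intro k hk hpow x
    set S : Set G := {u | ∃ x : G, u = x ^ p ^ k} with hS
    have hchar : (Subgroup.closure S).Characteristic := by
      rw [Subgroup.characteristic_iff_map_le]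
      intro ϕ
      rw [MonoidHom.map_closure, Subgroup.closure_le]
      rintro _ ⟨_, ⟨x, rfl⟩, rfl⟩
      apply Subgroup.subset_closure
      exact ⟨ϕ x, by simp⟩
    have hab : IsMulCommutative (Subgroup.closure S) := by
      apply Subgroup.isMulCommutative_closure
      rintro _ ⟨x, rfl⟩ _ ⟨y, rfl⟩
      exact (commute_pow_pow_of_class_two hD k hk hpow x y).eq
    exact hcent _ hchar hab (Subgroup.subset_closure ⟨x, rfl⟩)
  obtain ⟨K, hK⟩ := IsPGroup.iff_card.mp hG
  have hK1 : ∀ x : G, x ^ p ^ (1 + K) ∈ Subgroup.center G := by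
    intro x
    have : x ^ p ^ K = 1 := by rw [← hK]; exact pow_card_eq_one'
    rw [add_comm, pow_succ, pow_mul, this, one_pow]
    exact Subgroup.one_mem _
  have hall : ∀ j : ℕ, (∀ x : G, x ^ p ^ (1 + j) ∈ Subgroup.center G) →
      ∀ x : G, x ^ p ^ 1 ∈ Subgroup.center G := by
    intro j
    induction j with
    | zero => exact id
    | succ j ih =>
      intro h
      exact ih (desc (1 + j) (by omega) h)
  have := hall K hK1 x
  rwa [pow_one] at this

/-- **Gorenstein 5.3.7-type theorem.** -/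
theorem special_of_coprime_char_abelian [Finite G] {p : ℕ} [hp : Fact p.Prime] (hG : IsPGroup p G)
    (hA : Nat.Coprime (Nat.card A) p)
    (hGA : Subgroup.closure {x : G | ∃ g : G, ∃ a ∈ A, x = g⁻¹ * a g} = ⊤)
    (hchar : ∀ H : Subgroup G, H.Characteristic → IsMulCommutative H → ∀ a ∈ A, ∀ h ∈ H, a h = h) :
    (IsPGroup p G ∧ frattini G = Subgroup.center G ∧ commutator G = Subgroup.center G) ∧
      (∀ g : G, (g ∈ Subgroup.center G ↔ ∀ a ∈ A, a g = g)) := by
  have hcent : ∀ H : Subgroup G, H.Characteristic → IsMulCommutative H → H ≤ Subgroup.center G := by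
    intro H hc hcomm
    exact le_center_of_fixed_of_gen A hGA H (hchar H hc hcomm)
  have hnil : Group.IsNilpotent G := hG.isNilpotent
  have hD : commutator G ≤ Subgroup.center G := commutator_le_center_of_char_abelian_central hcent
  have hZfix : ∀ a ∈ A, ∀ z ∈ Subgroup.center G, a z = z :=
    hchar (Subgroup.center G) inferInstance inferInstance
  have hfix_iff : ∀ g : G, (g ∈ Subgroup.center G ↔ ∀ a ∈ A, a g = g) := by
    intro g
    constructor
    · intro hg a ha
      exact hZfix a ha g hg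
    · intro h
      apply mem_center_of_fixed A hGA g h
      intro a ha g'
      apply hZfix a ha
      apply hD
      rw [commutator_def]
      exact Subgroup.commutator_mem_commutator (Subgroup.mem_top _) (Subgroup.mem_top _)
  have hZD : Subgroup.center G ≤ commutator G := fun z hz =>
    mem_commutator_of_fixed A hG hA hGA z (fun a ha => hZfix a ha z hz)
  have hDZ : commutator G = Subgroup.center G := le_antisymm hD hZD
  have hpowp : ∀ x : G, x ^ p ∈ Subgroup.center G :=
    pow_mem_center_of_char_abelian_central hG hcent hD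
  refine ⟨⟨hG, ?_, hDZ⟩, hfix_iff⟩
  apply le_antisymm
  · have h1 := Cfsg.Agent.Helper47.frattini_le_ker_of_elementary (p := p)
      (QuotientGroup.mk' (Subgroup.center G))
      (by
        intro x y
        rw [QuotientGroup.mk'_apply, QuotientGroup.mk'_apply, ← QuotientGroup.mk_mul,
          ← QuotientGroup.mk_mul, QuotientGroup.eq]
        apply hD
        have : (x * y)⁻¹ * (y * x) = ⁅y⁻¹, x⁻¹⁆ := by rw [commutatorElement_def]; group
        rw [this, commutator_def]
        exact Subgroup.commutator_mem_commutator (Subgroup.mem_top _) (Subgroup.mem_top _))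
      (by
        intro x
        rw [QuotientGroup.mk'_apply, ← QuotientGroup.mk_pow, QuotientGroup.eq_one_iff]
        exact hpowp x)
    rwa [QuotientGroup.ker_mk'] at h1
  · rw [← hDZ]
    exact commutator_le_frattini hG

end

end Cfsg.Agent.Helper2
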