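import Mathlib
import Cfsg.Prelude.Def_GeometricClasses
import Cfsg.Agent.Lib.Helper97.ESDefs

/-!
# ES (A5c): the grid lemma (helper2, for helper97's server "ES", S5877)
-/

set_option autoImplicit false

namespace Cfsg.Agent.Helper2.ES

open Cfsg Cfsg.Geo Cfsg.Agent.Helper97.ES
open scoped MatrixGroups

section absLin

variable {F V : Type*} [Field F] [AddCommGroup V] [Module F V]

/-- finrank of a finite sup is at most the sum of the finranks -/
theorem finrank_biSup_le [FiniteDimensional F V] {ι : Type*} (s : Finset ι)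
    (S : ι → Submodule F V) :
    Module.finrank F ↥(⨆ i ∈ s, S i) ≤ ∑ i ∈ s, Module.finrank F (S i) := by
  classical
  induction s using Finset.induction_on with
  | empty => simp
  | insert a s ha ih =>
    rw [Finset.iSup_insert, Finset.sum_insert ha]
    exact (Submodule.finrank_add_le_finrank_add_finrank _ _).trans (Nat.add_le_add_left ih _)

/-- finrank of a finite independent sup is the sum of the finranks -/
theorem finrank_biSup_eq_of_indep [FiniteDimensional F V] {ι : Type*} (S : ι → Submodule F V)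
    (hS : iSupIndep S) (s : Finset ι) :
    Module.finrank F ↥(⨆ i ∈ s, S i) = ∑ i ∈ s, Module.finrank F (S i) := by
  classical
  induction s using Finset.induction_on with
  | empty => simp
  | insert a s ha ih =>
    rw [Finset.iSup_insert, Finset.sum_insert ha, ← ih]
    have hd : Disjoint (S a) (⨆ i ∈ s, S i) := by
      refine (hS a).mono_right ?_
      exact iSup₂_le fun i hi => le_iSup₂_of_le i (by rintro rfl; exact ha hi) le_rfl
    have := Submodule.finrank_sup_add_finrank_inf_eq (S a) (⨆ i ∈ s, S i)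
    rw [hd.eq_bot, finrank_bot, add_zero] at this
    exact this

variable {r : ℕ}

/-- `ζ ^ a` for `a : ZMod r` -/
noncomputable def pw (ζ : F) (a : ZMod r) : F := ζ ^ a.val

theorem pw_natCast [NeZero r] {ζ : F} (hζ : ζ ^ r = 1) (m : ℕ) :
    pw ζ (m : ZMod r) = ζ ^ m := by
  unfold pw
  rw [ZMod.val_natCast, ← pow_eq_pow_mod _ hζ]

theorem pw_add [NeZero r] {ζ : F} (hζ : ζ ^ r = 1) (a b : ZMod r) :
    pw ζ (a + b) = pw ζ a * pw ζ b := by
  unfold pw
  rw [ZMod.val_add, ← pow_eq_pow_mod _ hζ, pow_add]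

theorem pw_injective [NeZero r] {ζ : F} (hζ : IsPrimitiveRoot ζ r) :
    Function.Injective (pw (r := r) ζ) := by
  intro a b hab
  exact ZMod.val_injective r (hζ.pow_inj (ZMod.val_lt a) (ZMod.val_lt b) hab)

/-- spectral decomposition of an invariant subspace under an operator of order dividing `r` -/
theorem mem_iSup_inf_eigenspace [Fact r.Prime] {ζ : F} (hζ : IsPrimitiveRoot ζ r)
    (T : Module.End F V) (hT : T ^ r = 1) (W : Submodule F V) (hW : ∀ v ∈ W, T v ∈ W)
    {v : V} (hv : v ∈ W) :
    v ∈ ⨆ b : ZMod r, W ⊓ Module.End.eigenspace T (pw ζ b) := by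
  classical
  have hrp : r.Prime := Fact.out
  have hr0 : (r : F) ≠ 0 := (hζ.neZero').out
  have hζr : ζ ^ r = 1 := hζ.pow_eq_one
  have hζ0 : ζ ≠ 0 := hζ.ne_zero hrp.ne_zero
  set η : F := ζ⁻¹ with hη
  have hηr : η ^ r = 1 := by rw [hη, inv_pow, hζr, inv_one]
  have hζη : ζ * η = 1 := mul_inv_cancel₀ hζ0
  have hηprim : IsPrimitiveRoot η r := hζ.inv
  have hpowW : ∀ j : ℕ, (T ^ j) v ∈ W := by
    intro j
    induction j with
    | zero => simpa using hv
    | succ j ih =>
      rw [pow_succ', Module.End.mul_apply]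
      exact hW _ ih
  -- the projections
  let q : ℕ → V := fun b => ∑ j ∈ Finset.range r, (η ^ (b * j)) • (T ^ j) v
  have hqW : ∀ b, q b ∈ W := fun b =>
    Submodule.sum_mem _ fun j _ => Submodule.smul_mem _ _ (hpowW j)
  have hqE : ∀ b, T (q b) = ζ ^ b • q b := by
    intro b
    let f : ℕ → V := fun j => (ζ ^ b * η ^ (b * j)) • (T ^ j) v
    have hf1 : ∀ j, T ((η ^ (b * j)) • (T ^ j) v) = f (j + 1) := by
      intro j
      simp only [f]
      rw [map_smul, pow_succ' T j, Module.End.mul_apply]
      congr 1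
      have h1 : ζ ^ b * η ^ b = 1 := by rw [← mul_pow, hζη, one_pow]
      rw [mul_add, mul_one, pow_add, mul_left_comm, h1, mul_one]
    have hf2 : f r = f 0 := by
      simp only [f]
      rw [hT, pow_zero, mul_zero, pow_zero, pow_mul', hηr, one_pow]
    have h1 : ∑ j ∈ Finset.range r, f (j + 1) = ∑ j ∈ Finset.range r, f j := by
      have e1 := Finset.sum_range_succ' f r
      have e2 := Finset.sum_range_succ f r
      rw [e2, hf2] at e1
      exact (add_right_cancel e1).symm
    simp only [q]
    rw [map_sum, Finset.smul_sum]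
    rw [Finset.sum_congr rfl (fun j _ => hf1 j), h1]
    refine Finset.sum_congr rfl fun j _ => ?_
    simp only [f]
    rw [mul_smul]
  have hsum : ∑ b ∈ Finset.range r, q b = (r : F) • v := by
    simp only [q]
    rw [Finset.sum_comm]
    have : ∀ j ∈ Finset.range r, ∑ b ∈ Finset.range r, (η ^ (b * j)) • (T ^ j) v
        = (∑ b ∈ Finset.range r, (η ^ j) ^ b) • (T ^ j) v := by
      intro j _
      rw [Finset.sum_smul]
      refine Finset.sum_congr rfl fun b _ => ?_
      rw [← pow_mul, mul_comm]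
    rw [Finset.sum_congr rfl this]
    rw [Finset.sum_eq_single 0]
    · simp
    · intro j hj hj0
      have hjr : j < r := Finset.mem_range.mp hj
      have hcop : j.Coprime r :=
        Nat.Coprime.symm ((Nat.Prime.coprime_iff_not_dvd hrp).2
          (Nat.not_dvd_of_pos_of_lt (Nat.pos_of_ne_zero hj0) hjr))
      have hprim : IsPrimitiveRoot (η ^ j) r := hηprim.pow_of_coprime j hcop
      rw [hprim.geom_sum_eq_zero hrp.one_lt, zero_smul]
    · intro h0
      exact absurd (Finset.mem_range.mpr hrp.pos) h0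
  have hv' : v = (r : F)⁻¹ • ∑ b ∈ Finset.range r, q b := by
    rw [hsum, smul_smul, inv_mul_cancel₀ hr0, one_smul]
  rw [hv']
  refine Submodule.smul_mem _ _ (Submodule.sum_mem _ fun b _ => ?_)
  refine Submodule.mem_iSup_of_mem (b : ZMod r) ?_
  refine Submodule.mem_inf.mpr ⟨hqW b, ?_⟩
  rw [Module.End.mem_eigenspace_iff, pw_natCast hζr]
  exact hqE b

end absLin

section comb

variable {r : ℕ} [Fact r.Prime]

/-- a sum along a map with fibres of size at most two -/
theorem sum_comp_le_two {α : Type*} [Fintype α] [DecidableEq α] (φ : α → α) (D : α → ℕ)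
    (inv : α → α) (hfib : ∀ b b', φ b = φ b' → b' = b ∨ b' = inv b) :
    ∑ b, D (φ b) ≤ 2 * ∑ a', D a' := by
  rw [← Finset.sum_fiberwise' Finset.univ φ D, Finset.mul_sum]
  refine Finset.sum_le_sum fun a' _ => ?_
  rw [Finset.sum_const, smul_eq_mul]
  refine Nat.mul_le_mul_right _ ?_
  by_cases hne : (Finset.univ.filter (fun b => φ b = a')).Nonempty
  · obtain ⟨b, hb⟩ := hne
    have hb' := (Finset.mem_filter.mp hb).2
    refine (Finset.card_le_card (t := {b, inv b}) ?_).trans Finset.card_le_two
    intro b' hb''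
    have := hfib b b' (by rw [hb', (Finset.mem_filter.mp hb'').2])
    simpa using this
  · rw [Finset.not_nonempty_iff_eq_empty.mp hne]
    simp

/-- the grid count, case `e = 0` -/
theorem comb_zero (hr5 : 5 ≤ r) (d : ZMod r → ZMod r → ℕ) (n : ℕ) (k : ZMod r)
    (H1 : ∀ a b, d a b ≤ d (a + (b + k)) b)
    (H2 : ∀ b, r * ∑ a, d a b ≤ n) (a : ZMod r) : 2 * ∑ b, d a b ≤ n := by
  classical
  have hrp : r.Prime := Fact.out
  have hit : ∀ (j : ℕ) (a b : ZMod r), d a b ≤ d (a + j • (b + k)) b := by
    intro j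
    induction j with
    | zero => intro a b; simp
    | succ j ih =>
      intro a b
      refine (ih a b).trans ?_
      have := H1 (a + j • (b + k)) b
      rwa [add_assoc, ← succ_nsmul] at this
  have hall : ∀ b, b + k ≠ 0 → ∀ a a', d a b ≤ d a' b := by
    intro b hb a a'
    have := hit ((a' - a) / (b + k)).val a b
    rw [nsmul_eq_mul, ZMod.natCast_zmod_val, div_mul_cancel₀ _ hb, add_sub_cancel] at this
    exact this
  have hcol : ∀ b, b + k ≠ 0 → r * (r * d a b) ≤ n := by
    intro b hb
    refine le_trans (Nat.mul_le_mul_left r ?_) (H2 b)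
    have : ∑ _a' : ZMod r, d a b ≤ ∑ a', d a' b :=
      Finset.sum_le_sum fun a' _ => hall b hb a a'
    simpa [Finset.sum_const, ZMod.card] using this
  have hspecial : ∀ b, r * d a b ≤ n := by
    intro b
    refine le_trans (Nat.mul_le_mul_left r ?_) (H2 b)
    exact Finset.single_le_sum (f := fun a' => d a' b) (fun _ _ => Nat.zero_le _)
      (Finset.mem_univ a)
  have hsplit : ∑ b, d a b = d a (-k) + ∑ b ∈ Finset.univ.erase (-k), d a b := by
    rw [Finset.add_sum_erase _ _ (Finset.mem_univ _)]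
  obtain ⟨t, ht⟩ : ∃ t, r = t + 1 := ⟨r - 1, by have := hrp.pos; omega⟩
  have hrest : r * r * ∑ b ∈ Finset.univ.erase (-k), d a b ≤ t * n := by
    rw [Finset.mul_sum]
    have h1 : ∀ b ∈ Finset.univ.erase (-k), r * r * d a b ≤ n := by
      intro b hb
      have hb' : b + k ≠ 0 := by
        intro h
        exact (Finset.ne_of_mem_erase hb) (eq_neg_of_add_eq_zero_left h)
      rw [mul_assoc]
      exact hcol b hb'
    have h2 := Finset.sum_le_card_nsmul _ _ n h1
    rw [Finset.card_erase_of_mem (Finset.mem_univ _), Finset.card_univ, ZMod.card,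
      smul_eq_mul] at h2
    have : r - 1 = t := by omega
    rwa [this] at h2
  have h3 : 2 * r + 2 * t ≤ r * r := by
    have : 5 * r ≤ r * r := Nat.mul_le_mul_right r hr5
    omega
  have hpos : 0 < r * r := Nat.mul_pos hrp.pos hrp.pos
  refine Nat.le_of_mul_le_mul_left ?_ hpos
  rw [hsplit]
  calc r * r * (2 * (d a (-k) + ∑ b ∈ Finset.univ.erase (-k), d a b))
      = 2 * (r * (r * d a (-k))) + 2 * (r * r * ∑ b ∈ Finset.univ.erase (-k), d a b) := by ring
    _ ≤ 2 * (r * n) + 2 * (t * n) := by
        have := hspecial (-k)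
        have h4 : r * (r * d a (-k)) ≤ r * n := Nat.mul_le_mul_left r this
        omega
    _ = (2 * r + 2 * t) * n := by ring
    _ ≤ r * r * n := Nat.mul_le_mul_right n h3

/-- the grid count, case `e ≠ 0` -/
theorem comb_ne (hr5 : 5 ≤ r) (d : ZMod r → ZMod r → ℕ) (n : ℕ) (k e : ZMod r) (he : e ≠ 0)
    (H1 : ∀ a b, d a b ≤ d (a + b + k + e) (b + e))
    (H2 : ∀ b, r * ∑ a, d a b ≤ n) (a : ZMod r) : 2 * ∑ b, d a b ≤ n := by
  classical
  have hrp : r.Prime := Fact.out
  let Ψ : ZMod r × ZMod r → ZMod r × ZMod r := fun p => (p.1 + p.2 + k + e, p.2 + e)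
  have hit : ∀ (j : ℕ) (p : ZMod r × ZMod r), d p.1 p.2 ≤ d (Ψ^[j] p).1 (Ψ^[j] p).2 := by
    intro j
    induction j with
    | zero => intro p; simp
    | succ j ih =>
      intro p
      refine (ih p).trans ?_
      rw [Function.iterate_succ_apply']
      exact H1 _ _
  have hform : ∀ (j : ℕ) (p : ZMod r × ZMod r), (Ψ^[j] p).2 = p.2 + j * e ∧
      2 * (Ψ^[j] p).1 = 2 * p.1 + 2 * j * p.2 + e * j * (j - 1) + 2 * j * (k + e) := by
    intro j
    induction j with
    | zero => intro p; simp
    | succ j ih =>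
      intro p
      obtain ⟨h1, h2⟩ := ih p
      rw [Function.iterate_succ_apply']
      refine ⟨?_, ?_⟩
      · show (Ψ^[j] p).2 + e = _
        rw [h1]; push_cast; ring
      · show 2 * ((Ψ^[j] p).1 + (Ψ^[j] p).2 + k + e) = _
        rw [mul_add, mul_add, mul_add, h2, h1]; push_cast; ring
  -- the map to column 0
  let J : ZMod r → ZMod r := fun b => -b / e
  let φ : ZMod r → ZMod r := fun b => (Ψ^[(J b).val] (a, b)).1
  have hJ : ∀ b, e * J b = -b := fun b => by
    simp only [J]; rw [mul_div_cancel₀ _ he]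
  have hφ2 : ∀ b, (Ψ^[(J b).val] (a, b)).2 = 0 := by
    intro b
    rw [(hform _ _).1, ZMod.natCast_zmod_val]
    show b + J b * e = 0
    rw [mul_comm, hJ]; ring
  have hφd : ∀ b, d a b ≤ d (φ b) 0 := by
    intro b
    have := hit (J b).val (a, b)
    rwa [hφ2 b] at this
  have hφform : ∀ b, e * (2 * φ b) = 2 * e * a - b ^ 2 - (e + 2 * k) * b := by
    intro b
    have h2 := (hform (J b).val (a, b)).2
    rw [ZMod.natCast_zmod_val] at h2
    have hJb := hJ b
    show e * (2 * (Ψ^[(J b).val] (a, b)).1) = _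
    simp only at h2
    linear_combination e * h2 + (e * J b + b + e + 2 * k) * hJb
  have hfib : ∀ b b', φ b = φ b' → b' = b ∨ b' = -b - (e + 2 * k) := by
    intro b b' h
    have h1 := hφform b
    have h2 := hφform b'
    rw [h] at h1
    have h3 : (b' - b) * (b' + b + (e + 2 * k)) = 0 := by
      linear_combination h2 - h1
    rcases mul_eq_zero.mp h3 with h4 | h4
    · left; exact sub_eq_zero.mp h4
    · right; linear_combination h4
  have hsum1 : ∑ b, d a b ≤ ∑ b, d (φ b) 0 := Finset.sum_le_sum fun b _ => hφd b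
  have hsum2 : ∑ b, d (φ b) 0 ≤ 2 * ∑ a', d a' 0 :=
    sum_comp_le_two φ (fun a' => d a' 0) (fun b => -b - (e + 2 * k)) hfib
  have h5 : r * ∑ b, d a b ≤ 2 * n := by
    calc r * ∑ b, d a b ≤ r * (2 * ∑ a', d a' 0) := Nat.mul_le_mul_left r (hsum1.trans hsum2)
      _ = 2 * (r * ∑ a', d a' 0) := by ring
      _ ≤ 2 * n := Nat.mul_le_mul_left 2 (H2 0)
  have h6 : 5 * ∑ b, d a b ≤ r * ∑ b, d a b := Nat.mul_le_mul_right _ hr5
  omega

/-- the grid count -/
theorem comb_main (hr5 : 5 ≤ r) (d : ZMod r → ZMod r → ℕ) (n : ℕ) (k e : ZMod r)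
    (H1 : ∀ a b, d a b ≤ d (a + b + k + e) (b + e))
    (H2 : ∀ b, r * ∑ a, d a b ≤ n) (a : ZMod r) : 2 * ∑ b, d a b ≤ n := by
  by_cases he : e = 0
  · subst he
    refine comb_zero hr5 d n k (fun a b => ?_) H2 a
    have := H1 a b
    rwa [add_zero, add_zero, add_assoc] at this
  · exact comb_ne hr5 d n k e he H1 H2 a

end comb

section bridge

variable {F V : Type*} [Field F] [AddCommGroup V] [Module F V] {r : ℕ}

/-- the grid lemma for abstract endomorphisms -/
theorem grid_abs [FiniteDimensional F V] [Fact r.Prime] (hr5 : 5 ≤ r) {ζ : F}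
    (hζ : IsPrimitiveRoot ζ r) (G P X : Module.End F V) (hP : P ^ r = 1)
    (hGP : G * P = P * G) (hX : Function.Injective X) (e k : ℕ)
    (hPX : P * X = ζ ^ e • (X * P)) (hGX : G * X = ζ ^ k • (P * X * G)) (n : ℕ)
    (hK : ∀ b : ZMod r, r * Module.finrank F (Module.End.eigenspace P (pw ζ b)) ≤ n)
    (a : ZMod r) : 2 * Module.finrank F (Module.End.eigenspace G (pw ζ a)) ≤ n := by
  classical
  have hζr := hζ.pow_eq_one
  let S : ZMod r → ZMod r → Submodule F V := fun a b =>
    Module.End.eigenspace G (pw ζ a) ⊓ Module.End.eigenspace P (pw ζ b)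
  let d : ZMod r → ZMod r → ℕ := fun a b => Module.finrank F (S a b)
  have H1 : ∀ a b, d a b ≤ d (a + b + k + e) (b + e) := by
    intro a b
    have hmap : Submodule.map X (S a b) ≤ S (a + b + k + e) (b + e) := by
      rintro _ ⟨v, hv, rfl⟩
      have hv1 : G v = pw ζ a • v :=
        Module.End.mem_eigenspace_iff.mp (Submodule.mem_inf.mp hv).1
      have hv2 : P v = pw ζ b • v :=
        Module.End.mem_eigenspace_iff.mp (Submodule.mem_inf.mp hv).2
      have hPXv : P (X v) = (pw ζ b * ζ ^ e) • X v := by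
        have := LinearMap.congr_fun hPX v
        simp only [Module.End.mul_apply, LinearMap.smul_apply] at this
        rw [this, hv2, map_smul, smul_smul, mul_comm]
      have hGXv : G (X v) = (pw ζ a * pw ζ b * ζ ^ k * ζ ^ e) • X v := by
        have := LinearMap.congr_fun hGX v
        simp only [Module.End.mul_apply, LinearMap.smul_apply] at this
        rw [this, hv1, map_smul, map_smul, hPXv, smul_smul, smul_smul]
        congr 1
        ring
      refine Submodule.mem_inf.mpr ⟨?_, ?_⟩
      · rw [Module.End.mem_eigenspace_iff, hGXv, pw_add hζr, pw_add hζr, pw_add hζr,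
          pw_natCast hζr, pw_natCast hζr]
      · rw [Module.End.mem_eigenspace_iff, hPXv, pw_add hζr, pw_natCast hζr]
    calc d a b = Module.finrank F (Submodule.map X (S a b)) :=
          LinearEquiv.finrank_eq (Submodule.equivMapOfInjective X hX (S a b))
      _ ≤ _ := Submodule.finrank_mono hmap
  have H2 : ∀ b, r * ∑ a, d a b ≤ n := by
    intro b
    refine le_trans (Nat.mul_le_mul_left r ?_) (hK b)
    have hind : iSupIndep (fun a : ZMod r => S a b) := by
      have h1 : iSupIndep (fun a : ZMod r => Module.End.eigenspace G (pw ζ a)) :=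
        (Module.End.eigenspaces_iSupIndep G).comp (pw_injective hζ)
      exact h1.mono (fun a => inf_le_left)
    have := finrank_biSup_eq_of_indep (fun a : ZMod r => S a b) hind Finset.univ
    show ∑ a, Module.finrank F (S a b) ≤ _
    rw [← this]
    refine Submodule.finrank_mono ?_
    exact iSup₂_le fun a _ => inf_le_right
  have hW : ∀ a, Module.finrank F (Module.End.eigenspace G (pw ζ a)) ≤ ∑ b, d a b := by
    intro a
    have hle : Module.End.eigenspace G (pw ζ a) ≤
        ⨆ b ∈ (Finset.univ : Finset (ZMod r)), S a b := by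
      intro v hv
      have hinv : ∀ v ∈ Module.End.eigenspace G (pw ζ a),
          P v ∈ Module.End.eigenspace G (pw ζ a) := by
        intro v hv
        rw [Module.End.mem_eigenspace_iff] at hv ⊢
        have := LinearMap.congr_fun hGP v
        simp only [Module.End.mul_apply] at this
        rw [this, hv, map_smul]
      have := mem_iSup_inf_eigenspace hζ P hP _ hinv hv
      simpa using this
    exact (Submodule.finrank_mono hle).trans (finrank_biSup_le _ _)
  exact le_trans (Nat.mul_le_mul_left 2 (hW a)) (comb_main hr5 d n k e H1 H2 a)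

end bridge

section grp

variable {F : Type*} [Field F] [Finite F] {n r : ℕ} {R : Subgroup (GL (Fin n) F)}

/-- **(A5c) THE GRID LEMMA** (statement verbatim from `tools/es_sigs_helper97.lean.txt`). -/
theorem grid_bound (hr : r.Prime) (hr5 : 5 ≤ r) (g ρ x : GL (Fin n) F) (ζ : F)
    (hζ : IsPrimitiveRoot ζ r) (hgr : g ^ r = 1) (hρr : ρ ^ r = 1) (hcomm : g * ρ = ρ * g)
    (e k : ℕ)
    (hρx : (ρ : Matrix (Fin n) (Fin n) F) * (x : Matrix (Fin n) (Fin n) F) =
      ζ ^ e • ((x : Matrix (Fin n) (Fin n) F) * (ρ : Matrix (Fin n) (Fin n) F)))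
    (hgx : (g : Matrix (Fin n) (Fin n) F) * (x : Matrix (Fin n) (Fin n) F) =
      ζ ^ k • ((ρ : Matrix (Fin n) (Fin n) F) * (x : Matrix (Fin n) (Fin n) F) *
        (g : Matrix (Fin n) (Fin n) F)))
    (hK : ∀ b : ℕ, r * eDim ρ (ζ ^ b) ≤ n) (c : F) : 2 * eDim g c ≤ n := by
  classical
  haveI : Fact r.Prime := ⟨hr⟩
  set G : Module.End F (Fin n → F) := Matrix.toLin' (g : Matrix (Fin n) (Fin n) F) with hG
  set P : Module.End F (Fin n → F) := Matrix.toLin' (ρ : Matrix (Fin n) (Fin n) F) with hPdef
  set X : Module.End F (Fin n → F) := Matrix.toLin' (x : Matrix (Fin n) (Fin n) F) with hXdef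
  have hGr : G ^ r = 1 := by
    rw [hG, ← Matrix.toLin'_pow, ← Units.val_pow_eq_pow_val, hgr, Units.val_one,
      Matrix.toLin'_one]
    rfl
  have hPr : P ^ r = 1 := by
    rw [hPdef, ← Matrix.toLin'_pow, ← Units.val_pow_eq_pow_val, hρr, Units.val_one,
      Matrix.toLin'_one]
    rfl
  have hGP : G * P = P * G := by
    rw [hG, hPdef, Module.End.mul_eq_comp, Module.End.mul_eq_comp, ← Matrix.toLin'_mul,
      ← Matrix.toLin'_mul, ← Units.val_mul, ← Units.val_mul, hcomm]
  have hXinj : Function.Injective X := by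
    have hleft : (Matrix.toLin' ((x⁻¹ : GL (Fin n) F) : Matrix (Fin n) (Fin n) F)).comp X
        = LinearMap.id := by
      rw [hXdef, ← Matrix.toLin'_mul, ← Units.val_mul, inv_mul_cancel, Units.val_one,
        Matrix.toLin'_one]
    intro u v huv
    have := congrArg (Matrix.toLin' ((x⁻¹ : GL (Fin n) F) : Matrix (Fin n) (Fin n) F)) huv
    rw [← LinearMap.comp_apply, ← LinearMap.comp_apply, hleft] at this
    simpa using this
  have hPX : P * X = ζ ^ e • (X * P) := by
    rw [hPdef, hXdef, Module.End.mul_eq_comp, Module.End.mul_eq_comp, ← Matrix.toLin'_mul,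
      ← Matrix.toLin'_mul, hρx, map_smul]
  have hGX : G * X = ζ ^ k • (P * X * G) := by
    rw [hG, hPdef, hXdef, Module.End.mul_eq_comp, Module.End.mul_eq_comp,
      Module.End.mul_eq_comp, ← Matrix.toLin'_mul, ← Matrix.toLin'_mul, ← Matrix.toLin'_mul,
      hgx, map_smul]
  have hK' : ∀ b : ZMod r, r * Module.finrank F (Module.End.eigenspace P (pw ζ b)) ≤ n :=
    fun b => hK b.val
  show 2 * Module.finrank F (Module.End.eigenspace G c) ≤ n
  by_cases hbot : Module.End.eigenspace G c = ⊥
  · rw [hbot, finrank_bot]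
    exact Nat.zero_le _
  · obtain ⟨v, hv, hv0⟩ := (Submodule.ne_bot_iff _).mp hbot
    rw [Module.End.mem_eigenspace_iff] at hv
    have hpow : ∀ j : ℕ, (G ^ j) v = c ^ j • v := by
      intro j
      induction j with
      | zero => simp
      | succ j ih =>
        rw [pow_succ', Module.End.mul_apply, ih, map_smul, hv, smul_smul, pow_succ]
    have hc : c ^ r = 1 := by
      have h1 := hpow r
      rw [hGr, Module.End.one_apply] at h1
      have h2 : (c ^ r - 1) • v = 0 := by rw [sub_smul, one_smul, ← h1, sub_self]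
      rcases smul_eq_zero.mp h2 with h3 | h3
      · exact sub_eq_zero.mp h3
      · exact absurd h3 hv0
    obtain ⟨i, _, hi⟩ := hζ.eq_pow_of_pow_eq_one hc
    have hci : c = pw ζ (i : ZMod r) := by rw [pw_natCast hζ.pow_eq_one, hi]
    rw [hci]
    exact grid_abs hr5 hζ G P X hPr hGP hXinj e k hPX hGX n hK' (i : ZMod r)

end grp

end Cfsg.Agent.Helper2.ES
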