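import Mathlib
import Cfsg.Prelude.Def_LocalEven
import Cfsg.Prelude.Def_ConjugacyFunctors
import Cfsg.Agent.Lib.Helper33.SecFusionA
import Cfsg.Agent.Lib.Helper46.FusInd7

/-!
# Control of strong fusion by `N(W(R))`, `R` a Sylow `p`-subgroup, for an isomorphism-invariant
`p`-group functor `W`: abstract local-to-global steps

This is the fusion induction of `Helper46.FusInd3`--`FusInd7` (written there for the functors
`D ↦ W(D)` = intersection of the largest good abelian subgroups of a strongly closed subgroup `D`),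
redone for an arbitrary `IsCharPFunctor` evaluated at the Sylow subgroup itself.

`LCF p W Y` says that in the group `Y`, for every Sylow `p`-subgroup `R`, the normalizer of
`W(R)` controls strong fusion in `R`.
-/

set_option autoImplicit false
set_option linter.unusedSectionVars false

namespace Cfsg.Agent.Helper2.FC

open Cfsg Cfsg.Agent.Helper33

universe u

/-- In the group `Y`: for every Sylow `p`-subgroup `R`, the subgroup `N_Y(W(R))` controls strong
fusion in `R`. -/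
def LCF (p : ℕ) (W : ∀ (Q : Type u) [Group Q], Subgroup Q) (Y : Type u) [Group Y] : Prop :=
  ∀ (R : Sylow p Y) (A : Set Y) (h : Y), A ⊆ (R : Subgroup Y) →
    (∀ a ∈ A, h * a * h⁻¹ ∈ (R : Subgroup Y)) →
      ∃ x ∈ Subgroup.normalizer ((inducedFunctor W (R : Subgroup Y) : Subgroup Y) : Set Y),
        ∀ a ∈ A, x * a * x⁻¹ = h * a * h⁻¹

theorem map_conj_eq_self_of_mem_normalizer {X : Type*} [Group X] {P : Subgroup X} {g : X}
    (hg : g ∈ Subgroup.normalizer (P : Set X)) : P.map (MulAut.conj g).toMonoidHom = P := by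
  ext x
  constructor
  · rintro ⟨y, hy, rfl⟩
    exact (Subgroup.mem_normalizer_iff.mp hg y).mp hy
  · intro hx
    refine ⟨g⁻¹ * x * g, ?_, by simp [MulAut.conj_apply, mul_assoc]⟩
    have := (Subgroup.mem_normalizer_iff.mp (Subgroup.inv_mem _ hg) x).mp hx
    simpa using this

variable {p : ℕ} [Fact p.Prime] {W : ∀ (Q : Type u) [Group Q], Subgroup Q}

variable {X : Type u} [Group X] [Finite X]

/-- The normalizer of a `p`-subgroup `P` normalizes `W(P)`. -/
theorem normalizer_le_normalizer_indF (hW : IsCharPFunctor.{u} p W) (P : Subgroup X)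
    (hP : IsPGroup p P) :
    Subgroup.normalizer (P : Set X) ≤
      Subgroup.normalizer ((inducedFunctor W P : Subgroup X) : Set X) := by
  intro g hg
  have h1 := indF_map hW (MulAut.conj g).toMonoidHom P hP
    (fun x _ hx => (MulAut.conj g).injective (by simpa using hx))
  rw [map_conj_eq_self_of_mem_normalizer hg] at h1
  apply Subgroup.mem_normalizer_fintype
  intro x hx
  have h2 : g * x * g⁻¹ ∈ (inducedFunctor W P).map (MulAut.conj g).toMonoidHom :=
    ⟨x, hx, by simp [MulAut.conj_apply]⟩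
  rw [← h1] at h2
  exact h2

/-- `W` of a subgroup of `Y ≤ X`, computed in `Y`, maps to `W` computed in `X`. -/
theorem indF_subgroupOf_map (hW : IsCharPFunctor.{u} p W) (Y D : Subgroup X) (hDp : IsPGroup p D)
    (hDY : D ≤ Y) :
    (inducedFunctor W (D.subgroupOf Y)).map Y.subtype = inducedFunctor W D := by
  have hDp' : IsPGroup p (D.subgroupOf Y) := hDp.comap_subtype
  rw [← indF_map hW Y.subtype (D.subgroupOf Y) hDp'
    (fun x _ hx => Y.subtype_injective (by rw [hx, map_one])),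
    Subgroup.map_subgroupOf_eq_of_le hDY]

/-- Control inside a subgroup `Y ≥ R` gives control in `X` for fusion by elements of `Y`. -/
theorem control_of_subgroup (hW : IsCharPFunctor.{u} p W) (R : Sylow p X)
    (Y : Subgroup X) (hRY : (R : Subgroup X) ≤ Y) (hY : LCF p W ↥Y)
    (A : Set X) (m : X) (hm : m ∈ Y) (hA : A ⊆ (R : Subgroup X))
    (hAm : ∀ a ∈ A, m * a * m⁻¹ ∈ (R : Subgroup X)) :
    ∃ y ∈ Subgroup.normalizer ((inducedFunctor W (R : Subgroup X) : Subgroup X) : Set X),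
      ∀ a ∈ A, y * a * y⁻¹ = m * a * m⁻¹ := by
  set RY : Sylow p ↥Y := R.subtype hRY with hRYdef
  have hRYcoe : (RY : Subgroup ↥Y) = (R : Subgroup X).subgroupOf Y := Sylow.coe_subtype _ _
  have hA' : {a : ↥Y | (a : X) ∈ A} ⊆ ((RY : Subgroup ↥Y) : Set ↥Y) := by
    intro a ha
    rw [hRYcoe]
    exact Subgroup.mem_subgroupOf.mpr (hA ha)
  have hAm' : ∀ a ∈ {a : ↥Y | (a : X) ∈ A},
      (⟨m, hm⟩ : ↥Y) * a * (⟨m, hm⟩ : ↥Y)⁻¹ ∈ (RY : Subgroup ↥Y) := by
    intro a ha
    rw [hRYcoe, Subgroup.mem_subgroupOf]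
    have h1 : (((⟨m, hm⟩ : ↥Y) * a * (⟨m, hm⟩ : ↥Y)⁻¹ : ↥Y) : X) = m * (a : X) * m⁻¹ := by simp
    rw [h1]
    exact hAm _ ha
  obtain ⟨x, hx, hxa⟩ := hY RY _ (⟨m, hm⟩ : ↥Y) hA' hAm'
  refine ⟨(x : X), ?_, ?_⟩
  · rw [← indF_subgroupOf_map hW Y (R : Subgroup X) R.isPGroup' hRY, ← hRYcoe]
    exact Subgroup.le_normalizer_map Y.subtype ⟨x, hx, rfl⟩
  · intro a ha
    have haY : a ∈ Y := hRY (hA ha)
    have h1 := hxa ⟨a, haY⟩ ha
    have h2 := congrArg (fun y : ↥Y => (y : X)) h1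
    simpa using h2

/-- Local control in the normalizer of a fully normalized subgroup, from `LCF` of that
normalizer. -/
theorem controlsStrongFusionIn_normalizer_of_local (hW : IsCharPFunctor.{u} p W) (S : Sylow p X)
    (T : Subgroup X)
    (hloc : LCF p W ↥(Subgroup.normalizer (T : Set X)))
    (hsyl : ¬ p ∣ ((S : Subgroup X) ⊓ Subgroup.normalizer (T : Set X)).relIndex
      (Subgroup.normalizer (T : Set X))) :
    ControlsStrongFusionIn p (inducedFunctor (G := X) W) (Subgroup.normalizer (T : Set X)) := by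
  set M : Subgroup X := Subgroup.normalizer (T : Set X) with hM
  set RG : Subgroup X := (S : Subgroup X) ⊓ M with hRG
  have hRGp : IsPGroup p RG := S.isPGroup'.to_le inf_le_left
  refine ⟨RG, inf_le_right, hRGp, hsyl, ?_⟩
  intro A h hhM hA hAh
  have hRXp : IsPGroup p (RG.subgroupOf M) := hRGp.comap_subtype
  have hidx : ¬ p ∣ (RG.subgroupOf M).index := hsyl
  set R : Sylow p ↥M := hRXp.toSylow hidx with hR
  have hRcoe : (R : Subgroup ↥M) = RG.subgroupOf M := IsPGroup.toSylow_coe hRXp hidx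
  have hA' : {a : ↥M | (a : X) ∈ A} ⊆ ((R : Subgroup ↥M) : Set ↥M) := by
    intro a ha
    rw [hRcoe]
    exact Subgroup.mem_subgroupOf.mpr (hA ha)
  have hAh' : ∀ a ∈ {a : ↥M | (a : X) ∈ A},
      (⟨h, hhM⟩ : ↥M) * a * (⟨h, hhM⟩ : ↥M)⁻¹ ∈ (R : Subgroup ↥M) := by
    intro a ha
    rw [hRcoe, Subgroup.mem_subgroupOf]
    have h1 : (((⟨h, hhM⟩ : ↥M) * a * (⟨h, hhM⟩ : ↥M)⁻¹ : ↥M) : X) = h * (a : X) * h⁻¹ := by simp
    rw [h1]
    exact hAh ⟨(a : X), ha, rfl⟩
  obtain ⟨x, hx, hxa⟩ := hloc R _ (⟨h, hhM⟩ : ↥M) hA' hAh'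
  refine ⟨(x : X), ⟨x.2, ?_⟩, ?_⟩
  · rw [← indF_subgroupOf_map hW M RG hRGp inf_le_right, ← hRcoe]
    exact Subgroup.le_normalizer_map M.subtype ⟨x, hx, rfl⟩
  · intro a ha
    have haM : a ∈ M := (hA ha).2
    have h1 := hxa ⟨a, haM⟩ ha
    have h2 := congrArg (fun y : ↥M => (y : X)) h1
    simpa using h2

/-- If all normalizers of nontrivial fully normalized subgroups of `P` have `LCF`, then
`N_X(W(P))` controls strong fusion in `P`. -/
theorem control_of_locals (hW : IsCharPFunctor.{u} p W) (P : Sylow p X)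
    (hloc : ∀ T : Subgroup X, T ≤ (P : Subgroup X) → T ≠ ⊥ →
      ¬ p ∣ ((P : Subgroup X) ⊓ Subgroup.normalizer (T : Set X)).relIndex
        (Subgroup.normalizer (T : Set X)) →
      LCF p W ↥(Subgroup.normalizer (T : Set X)))
    (A : Set X) (h : X) (hA : A ⊆ (P : Subgroup X))
    (hAh : ∀ a ∈ A, h * a * h⁻¹ ∈ (P : Subgroup X)) :
    ∃ x ∈ Subgroup.normalizer ((inducedFunctor W (P : Subgroup X) : Subgroup X) : Set X),
      ∀ a ∈ A, x * a * x⁻¹ = h * a * h⁻¹ := by
  have hW' := isConjugacyFunctor_indF hW X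
  have hloc' : ∀ T : Subgroup X, T ≠ ⊥ →
      IsWellPlaced p (inducedFunctor (G := X) W) (P : Subgroup X) T →
      ControlsStrongFusionIn p (inducedFunctor (G := X) W) (Subgroup.normalizer (T : Set X)) := by
    intro T hTne hwp
    have h0 := hwp.2 0
    rw [Cfsg.Agent.Helper33.functorTower_zero] at h0
    exact controlsStrongFusionIn_normalizer_of_local hW P T (hloc T hwp.1 hTne h0) h0
  have htop := Cfsg.Agent.S1961.result P _ hW' hloc'
  have hall := (Cfsg.Agent.S1967.result P _ hW').mp htop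
  have hT : Subgroup.closure A ≤ (P : Subgroup X) := (Subgroup.closure_le _).mpr hA
  have hTg : (Subgroup.closure A).map (MulAut.conj h).toMonoidHom ≤ (P : Subgroup X) := by
    rw [MonoidHom.map_closure, Subgroup.closure_le]
    rintro _ ⟨a, ha, rfl⟩
    exact hAh a ha
  obtain ⟨n, hn, c, hc', rfl⟩ := hall _ h hT hTg
  refine ⟨n, hn, fun a ha => ?_⟩
  have h1 := (Subgroup.mem_centralizer_iff.mp hc') a (Subgroup.subset_closure ha)
  have e1 : n * c * a * (n * c)⁻¹ = n * (c * a * c⁻¹) * n⁻¹ := by group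
  rw [e1, ← h1]
  group

/-- Lifting `LCF` through a normal `p'`-subgroup. -/
theorem control_of_pPrimeQuotient (hW : IsCharPFunctor.{u} p W) (K : Subgroup X) [hKn : K.Normal]
    (hK : (Nat.card K).Coprime p)
    (hq : LCF p W (X ⧸ K)) (R : Sylow p X) (A : Set X) (h : X)
    (hA : A ⊆ (R : Subgroup X)) (hAh : ∀ a ∈ A, h * a * h⁻¹ ∈ (R : Subgroup X)) :
    ∃ x ∈ Subgroup.normalizer ((inducedFunctor W (R : Subgroup X) : Subgroup X) : Set X),
      ∀ a ∈ A, x * a * x⁻¹ = h * a * h⁻¹ := by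
  set π := QuotientGroup.mk' K with hπ
  have hsurj := QuotientGroup.mk'_surjective K
  have hRcoe : ((R.mapSurjective hsurj : Sylow p (X ⧸ K)) : Subgroup (X ⧸ K)) =
      (R : Subgroup X).map π := Sylow.coe_mapSurjective hsurj R
  have hA' : π '' A ⊆
      (((R.mapSurjective hsurj : Sylow p (X ⧸ K)) : Subgroup (X ⧸ K)) : Set (X ⧸ K)) := by
    rintro _ ⟨a, ha, rfl⟩
    rw [hRcoe]
    exact Subgroup.mem_map_of_mem _ (hA ha)
  have hAh' : ∀ a' ∈ π '' A, π h * a' * (π h)⁻¹ ∈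
      ((R.mapSurjective hsurj : Sylow p (X ⧸ K)) : Subgroup (X ⧸ K)) := by
    rintro _ ⟨a, ha, rfl⟩
    rw [hRcoe]
    refine ⟨h * a * h⁻¹, hAh a ha, ?_⟩
    simp only [map_mul, map_inv]
  obtain ⟨x', hx', hx'a⟩ := hq (R.mapSurjective hsurj) (π '' A) (π h) hA' hAh'
  -- `W` of the image
  have hRp : IsPGroup p (R : Subgroup X) := R.isPGroup'
  have hinf : K ⊓ (R : Subgroup X) = ⊥ :=
    Cfsg.Agent.Helper54.inf_eq_bot_of_isPGroup_of_coprime _ _ hK hRp
  have hinj : ∀ x ∈ (R : Subgroup X), π x = 1 → x = 1 := by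
    intro x hx hx1
    have hxK : x ∈ K := by
      rw [hπ, QuotientGroup.mk'_apply, QuotientGroup.eq_one_iff] at hx1
      exact hx1
    have : x ∈ K ⊓ (R : Subgroup X) := ⟨hxK, hx⟩
    rw [hinf, Subgroup.mem_bot] at this
    exact this
  have hWmap := indF_map hW π (R : Subgroup X) hRp hinj
  rw [hRcoe, hWmap] at hx'
  obtain ⟨x₀, rfl⟩ := hsurj x'
  set Z := inducedFunctor W (R : Subgroup X) with hZ
  have hZR : Z ≤ (R : Subgroup X) := indF_le W _
  have hZp : IsPGroup p Z := hRp.to_le hZR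
  have hx₀ : ∀ t ∈ Z, x₀ * t * x₀⁻¹ ∈ Z ⊔ K := by
    intro t ht
    have h2 : π x₀ * π t * (π x₀)⁻¹ ∈ Z.map π :=
      (Subgroup.mem_normalizer_iff.mp hx' _).mp (Subgroup.mem_map_of_mem _ ht)
    obtain ⟨t', ht', h3⟩ := h2
    have h4 : t'⁻¹ * (x₀ * t * x₀⁻¹) ∈ K := by
      rw [← QuotientGroup.eq_one_iff]
      show π (t'⁻¹ * (x₀ * t * x₀⁻¹)) = 1
      rw [map_mul, map_inv, h3, map_mul, map_mul, map_inv]
      group
    have h5 : x₀ * t * x₀⁻¹ = t' * (t'⁻¹ * (x₀ * t * x₀⁻¹)) := by group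
    rw [h5]
    exact Subgroup.mul_mem _ (Subgroup.mem_sup_left ht') (Subgroup.mem_sup_right h4)
  obtain ⟨k, hk, hn⟩ := Cfsg.Agent.Helper54.exists_mul_mem_normalizer K hK _ hZp x₀ hx₀
  set n := x₀ * k with hndef
  set N := Subgroup.normalizer ((Z : Subgroup X) : Set X) with hN
  have hRN : (R : Subgroup X) ≤ N :=
    Subgroup.le_normalizer.trans (normalizer_le_normalizer_indF hW _ hRp)
  have hπk : π k = 1 := by
    rw [hπ, QuotientGroup.mk'_apply, QuotientGroup.eq_one_iff]; exact hk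
  have hπn : π n = π x₀ := by rw [hndef, map_mul, hπk, mul_one]
  set U := Subgroup.closure A with hU
  have hUR : U ≤ (R : Subgroup X) := (Subgroup.closure_le _).mpr hA
  have hUh : ∀ u ∈ U, h * u * h⁻¹ ∈ (R : Subgroup X) := Cfsg.Agent.Helper46.conj_closure_mem hAh
  -- agreement modulo `K` on the closure
  have hmod : ∀ u ∈ U, π (n * u * n⁻¹) = π (h * u * h⁻¹) := by
    intro u hu
    induction hu using Subgroup.closure_induction with
    | mem a ha =>
      have := hx'a (π a) ⟨a, ha, rfl⟩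
      simp only [map_mul, map_inv, hπn]
      exact this
    | one => simp
    | mul a b _ _ iha ihb =>
      have e1 : n * (a * b) * n⁻¹ = (n * a * n⁻¹) * (n * b * n⁻¹) := by group
      have e2 : h * (a * b) * h⁻¹ = (h * a * h⁻¹) * (h * b * h⁻¹) := by group
      rw [e1, e2, map_mul π (n * a * n⁻¹) (n * b * n⁻¹), map_mul π (h * a * h⁻¹) (h * b * h⁻¹),
        iha, ihb]
    | inv a _ iha =>
      have e1 : n * a⁻¹ * n⁻¹ = (n * a * n⁻¹)⁻¹ := by group
      have e2 : h * a⁻¹ * h⁻¹ = (h * a * h⁻¹)⁻¹ := by group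
      rw [e1, e2, map_inv, map_inv, iha]
  set V := U.map (MulAut.conj n).toMonoidHom with hV
  have hVp : IsPGroup p V := (R.isPGroup'.to_le hUR).map _
  have hVN : V ≤ N := by
    rintro _ ⟨u, hu, rfl⟩
    have e : (MulAut.conj n).toMonoidHom u = n * u * n⁻¹ := by simp [MulAut.conj_apply]
    rw [e]
    exact Subgroup.mul_mem _ (Subgroup.mul_mem _ hn (hRN (hUR hu))) (Subgroup.inv_mem _ hn)
  set g := h * n⁻¹ with hgdef
  have hgV : ∀ v ∈ V, g * v * g⁻¹ ∈ N := by
    rintro _ ⟨u, hu, rfl⟩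
    have e : g * (MulAut.conj n).toMonoidHom u * g⁻¹ = h * u * h⁻¹ := by
      simp [MulAut.conj_apply, hgdef]; group
    rw [e]
    exact hRN (hUh u hu)
  have hgK : ∀ v ∈ V, g * v * g⁻¹ * v⁻¹ ∈ K := by
    rintro _ ⟨u, hu, rfl⟩
    have e : g * (MulAut.conj n).toMonoidHom u * g⁻¹ * ((MulAut.conj n).toMonoidHom u)⁻¹ =
        (h * u * h⁻¹) * (n * u * n⁻¹)⁻¹ := by
      simp [MulAut.conj_apply, hgdef]; group
    rw [e, ← QuotientGroup.eq_one_iff, ← QuotientGroup.mk'_apply, ← hπ, map_mul, map_inv,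
      hmod u hu, mul_inv_cancel]
  obtain ⟨c, hc, hcv⟩ := Cfsg.Agent.Helper46.exists_conj_agree_mod K hK N V hVp hVN g hgV hgK
  refine ⟨c * n, Subgroup.mul_mem _ hc.1 hn, ?_⟩
  intro a ha
  have hav : n * a * n⁻¹ ∈ V := ⟨a, Subgroup.subset_closure ha, by simp [MulAut.conj_apply]⟩
  have h1 := hcv _ hav
  have e1 : c * n * a * (c * n)⁻¹ = c * (n * a * n⁻¹) * c⁻¹ := by group
  rw [e1, h1, hgdef]
  group

end Cfsg.Agent.Helper2.FC
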