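import Mathlib
import Cfsg.Agent.Lib.Helper2.FunctorControl1

/-!
# The fusion induction for an isomorphism-invariant `p`-group functor `W` evaluated at Sylow
subgroups

`general_control`: if every `Qd(p)`-free finite group (of the universe) is `p`-stable in the
normalizer form, and `W(S)` is normal in every group `Y` of characteristic `p` that is `p`-stable
on its normal `p`-subgroups (`S` a Sylow `p`-subgroup of `Y`), then in every `Qd(p)`-free finite
group `X` and for every Sylow `p`-subgroup `R`, the normalizer of `W(R)` controls strong fusion in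
`R`.
-/

set_option autoImplicit false
set_option linter.unusedSectionVars false
set_option linter.style.haveILetI false

namespace Cfsg.Agent.Helper2.FC

open Cfsg Cfsg.Agent.Helper33 Cfsg.Agent.Helper11.ZJ
open scoped commutatorElement

universe u

/-- `W(S)` is normal in every finite group `Y` with `C_Y(O_p(Y)) ≤ O_p(Y)` on whose normal
`p`-subgroups `Y` acts `p`-stably. -/
def NormalInCharP (p : ℕ) (W : ∀ (Q : Type u) [Group Q], Subgroup Q) : Prop :=
  ∀ (Y : Type u) [Group Y] [Finite Y],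
    Subgroup.centralizer (pCore p Y : Set Y) ≤ pCore p Y → ∀ T : Sylow p Y,
      (∀ (V : Subgroup Y) [V.Normal], IsPGroup p V → ∀ A : Subgroup Y, A ≤ (T : Subgroup Y) →
        ⁅⁅V, A⁆, A⁆ = ⊥ → A ≤ stabL p V) →
      (inducedFunctor W (T : Subgroup Y)).Normal

variable {p : ℕ} [Fact p.Prime] {W : ∀ (Q : Type u) [Group Q], Subgroup Q}

variable {X : Type u} [Group X] [Finite X]

theorem control_of_RC_eq_top (hW : IsCharPFunctor.{u} p W) (Q : Subgroup X) [hQn : Q.Normal]
    (hQ : Q = pCore p X)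
    (R : Sylow p X)
    (hRC : (R : Subgroup X) ⊔ Subgroup.centralizer (Q : Set X) = ⊤)
    (hquot : LCF p W (X ⧸ Q))
    (hsub : ∀ Y : Subgroup X, (R : Subgroup X) ≤ Y → Y ≠ ⊤ → LCF p W ↥Y)
    (A : Set X) (h : X) (hA : A ⊆ (R : Subgroup X))
    (hAh : ∀ a ∈ A, h * a * h⁻¹ ∈ (R : Subgroup X)) :
    ∃ x ∈ Subgroup.normalizer ((inducedFunctor W (R : Subgroup X) : Subgroup X) : Set X),
      ∀ a ∈ A, x * a * x⁻¹ = h * a * h⁻¹ := by
  have hQR : Q ≤ (R : Subgroup X) := by rw [hQ]; exact pCore_le_sylow' R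
  have hQp : IsPGroup p Q := R.isPGroup'.to_le hQR
  have hRp : IsPGroup p (R : Subgroup X) := R.isPGroup'
  by_cases hDQ : (R : Subgroup X) ≤ Q
  · -- `R` is normal in `X`
    refine ⟨h, ?_, fun a _ => rfl⟩
    apply normalizer_le_normalizer_indF hW _ hRp
    have hRQ : (R : Subgroup X) = Q := le_antisymm hDQ hQR
    rw [hRQ, Subgroup.normalizer_eq_top_iff.mpr hQn]
    trivial
  · set π := QuotientGroup.mk' Q with hπ
    have hsurj := QuotientGroup.mk'_surjective Q
    have hRcoe : ((R.mapSurjective hsurj : Sylow p (X ⧸ Q)) : Subgroup (X ⧸ Q)) =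
        (R : Subgroup X).map π := Sylow.coe_mapSurjective hsurj R
    have hDqne : (R : Subgroup X).map π ≠ ⊥ := by
      intro h0
      apply hDQ
      intro d hd
      have : π d ∈ (R : Subgroup X).map π := Subgroup.mem_map_of_mem _ hd
      rw [h0, Subgroup.mem_bot, hπ, QuotientGroup.mk'_apply, QuotientGroup.eq_one_iff] at this
      exact this
    have hDqp : IsPGroup p ((R : Subgroup X).map π) := hRp.map _
    set V := inducedFunctor W ((R : Subgroup X).map π) with hV
    have hVne : V ≠ ⊥ := indF_ne_bot hW _ hDqp hDqne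
    have hVD : V ≤ (R : Subgroup X).map π := indF_le W _
    set T := V.comap π with hT
    have hRbarN : (R : Subgroup X).map π ≤ Subgroup.normalizer (V : Set (X ⧸ Q)) :=
      Subgroup.le_normalizer.trans (normalizer_le_normalizer_indF hW _ hDqp)
    have hRT : (R : Subgroup X) ≤ Subgroup.normalizer (T : Set X) := by
      intro r hr
      rw [hT, Cfsg.Agent.Helper46.mem_normalizer_comap_mk]
      apply hRbarN
      exact Subgroup.mem_map_of_mem _ hr
    have hTR : T ≤ (R : Subgroup X) := by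
      intro t ht
      have h1 : π t ∈ (R : Subgroup X).map π := hVD ht
      obtain ⟨d, hd, hde⟩ := h1
      have h2 : d⁻¹ * t ∈ Q := by
        rw [← QuotientGroup.eq_one_iff, ← QuotientGroup.mk'_apply, map_mul, map_inv]
        rw [← hπ, hde]
        group
      have e : t = d * (d⁻¹ * t) := by group
      rw [e]
      exact Subgroup.mul_mem _ hd (hQR h2)
    have hTne : Subgroup.normalizer (T : Set X) ≠ ⊤ := by
      intro htop
      have hTn : T.Normal := Subgroup.normalizer_eq_top_iff.mp htop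
      have hTQ : T ≤ Q := by
        rw [hQ]
        exact le_pCore' hTn (R.isPGroup'.to_le hTR)
      apply hVne
      rw [eq_bot_iff]
      intro v hv
      obtain ⟨t, rfl⟩ := hsurj v
      have htT : t ∈ T := hv
      have := hTQ htT
      rw [Subgroup.mem_bot, QuotientGroup.mk'_apply, QuotientGroup.eq_one_iff]
      exact this
    set Y := Subgroup.normalizer (T : Set X) with hY
    have hYloc : LCF p W ↥Y := hsub Y hRT hTne
    have hXC : ∀ x : X, ∃ r ∈ (R : Subgroup X), ∃ c ∈ Subgroup.centralizer (Q : Set X),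
        x = r * c := by
      intro x
      have hx : x ∈ (((R : Subgroup X) ⊔ Subgroup.centralizer (Q : Set X) : Subgroup X) : Set X) := by
        rw [hRC]; trivial
      rw [Subgroup.mul_normal] at hx
      obtain ⟨r, hr, c, hc, rfl⟩ := hx
      exact ⟨r, hr, c, hc, rfl⟩
    -- the conjugation family
    have hW' := isConjugacyFunctor_indF hW X
    have hfam := Cfsg.Agent.S1966.result R _ (Cfsg.Agent.S1964.result R _ hW')
    -- the step
    have hstep : ∀ B ∈ {T' : Subgroup X | T' ∈ {T' : Subgroup X |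
        IsWellPlaced p (inducedFunctor (G := X) W) (R : Subgroup X) T'} ∧ pCore p X ≤ T'},
        ∀ x ∈ Subgroup.normalizer (B : Set X),
        ∃ w ∈ Subgroup.normalizer ((inducedFunctor W (R : Subgroup X) : Subgroup X) : Set X),
          ∀ b ∈ B, w * b * w⁻¹ = x⁻¹ * b * x := by
      rintro B ⟨hwp, hQB⟩ x hx
      rw [← hQ] at hQB
      have hBR : B ≤ (R : Subgroup X) := hwp.1
      have hfn := hwp.2 0
      rw [Cfsg.Agent.Helper33.functorTower_zero] at hfn
      have hx' : x⁻¹ ∈ Subgroup.normalizer (B : Set X) := Subgroup.inv_mem _ hx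
      have hconjB : ∀ b ∈ B, x⁻¹ * b * x⁻¹⁻¹ ∈ B := fun b hb =>
        (Subgroup.mem_normalizer_iff.mp hx' b).mp hb
      -- control in the quotient
      have hA' : π '' (B : Set X) ⊆
          (((R.mapSurjective hsurj : Sylow p (X ⧸ Q)) : Subgroup (X ⧸ Q)) : Set (X ⧸ Q)) := by
        rintro _ ⟨b, hb, rfl⟩
        rw [hRcoe]
        exact Subgroup.mem_map_of_mem _ (hBR hb)
      have hAh' : ∀ a' ∈ π '' (B : Set X), π x⁻¹ * a' * (π x⁻¹)⁻¹ ∈
          ((R.mapSurjective hsurj : Sylow p (X ⧸ Q)) : Subgroup (X ⧸ Q)) := by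
        rintro _ ⟨b, hb, rfl⟩
        rw [hRcoe]
        refine ⟨x⁻¹ * b * x⁻¹⁻¹, hBR (hconjB b hb), ?_⟩
        simp only [map_mul, map_inv]
      obtain ⟨n', hn', hn'a⟩ := hquot (R.mapSurjective hsurj) (π '' (B : Set X)) (π x⁻¹) hA' hAh'
      rw [hRcoe] at hn'
      obtain ⟨n₀, rfl⟩ := hsurj n'
      have hn₀Y : n₀ ∈ Y := by
        rw [hY, hT, Cfsg.Agent.Helper46.mem_normalizer_comap_mk]
        exact hn'
      set y := n₀⁻¹ * x⁻¹ with hy
      have hyQ : ∀ b ∈ B, y * b * y⁻¹ * b⁻¹ ∈ Q := by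
        intro b hb
        have h1 := hn'a (π b) ⟨b, hb, rfl⟩
        rw [← QuotientGroup.eq_one_iff, ← QuotientGroup.mk'_apply, ← hπ]
        have e : y * b * y⁻¹ * b⁻¹ = n₀⁻¹ * (x⁻¹ * b * x⁻¹⁻¹) * n₀ * b⁻¹ := by rw [hy]; group
        rw [e]
        simp only [map_mul, map_inv]
        have h2 : π x⁻¹ * π b * (π x⁻¹)⁻¹ = π n₀ * π b * (π n₀)⁻¹ := h1.symm
        simp only [map_inv] at h2
        rw [h2]
        group
      have hyB : y ∈ Subgroup.normalizer (B : Set X) := by
        apply Subgroup.mem_normalizer_fintype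
        intro b hb
        have e : y * b * y⁻¹ = (y * b * y⁻¹ * b⁻¹) * b := by group
        rw [e]
        exact B.mul_mem (hQB (hyQ b hb)) hb
      obtain ⟨c, hc, s, hs, hycs⟩ :=
        Cfsg.Agent.Helper46.exists_mul_of_quotient_trivial R Q hXC B hQB hBR hfn y hyB hyQ
      -- `x⁻¹ = n₀ c s`
      have hx'eq : x⁻¹ = n₀ * (c * s) := by rw [← hycs, hy]; group
      set m := n₀ * s with hm
      have hmY : m ∈ Y := Subgroup.mul_mem _ hn₀Y (hRT hs.1)
      have hmb : ∀ b ∈ B, m * b * m⁻¹ = x⁻¹ * b * x := by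
        intro b hb
        have hsb : s * b * s⁻¹ ∈ B := (Subgroup.mem_normalizer_iff.mp hs.2 b).mp hb
        have hcb := Subgroup.mem_centralizer_iff.mp hc _ hsb
        have e1 : x⁻¹ * b * x = x⁻¹ * b * x⁻¹⁻¹ := by rw [inv_inv]
        rw [e1, hx'eq, hm]
        have e2 : n₀ * (c * s) * b * (n₀ * (c * s))⁻¹ = n₀ * (c * (s * b * s⁻¹) * c⁻¹) * n₀⁻¹ := by
          group
        rw [e2, ← hcb]
        group
      obtain ⟨w, hw, hwb⟩ := control_of_subgroup hW R Y hRT hYloc (B : Set X) m hmY hBR (by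
        intro b hb
        rw [hmb b hb]
        have := hconjB b hb
        rw [inv_inv] at this
        exact hBR this)
      exact ⟨w, hw, fun b hb => by rw [hwb b hb, hmb b hb]⟩
    obtain ⟨w, hw, hwa⟩ := Cfsg.Agent.Helper46.control_of_conjugationFamily hfam hstep A h⁻¹ hA (by
      intro a ha
      rw [inv_inv]
      exact hAh a ha)
    refine ⟨w, hw, fun a ha => ?_⟩
    rw [hwa a ha, inv_inv]

/-- In a `p`-constrained, `p`-stable group, `X = N_X(W(R)) O_{p'}(X)`. -/
theorem exists_mul_mem_normalizer_indF (hW : IsCharPFunctor.{u} p W) (hWn : NormalInCharP p W)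
    (hc : IsPConstrained p X)
    (hst : IsNormalizerPStable p X) (R : Sylow p X) (c : X) :
    ∃ k ∈ pPrimeCore p X,
      c * k ∈ Subgroup.normalizer ((inducedFunctor W (R : Subgroup X) : Subgroup X) : Set X) := by
  haveI hKn : (pPrimeCore p X).Normal := Cfsg.Agent.Helper54.pPrimeCore_normal' p
  have hK : (Nat.card (pPrimeCore p X)).Coprime p := Cfsg.Agent.Helper54.pPrimeCore_coprime p
  have hc' : Cfsg.Agent.Helper54.IsCharP p (X ⧸ pPrimeCore p X) :=
    Cfsg.Agent.Helper54.isPConstrained_iff_isCharP_quotient.mp hc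
  set π := QuotientGroup.mk' (pPrimeCore p X) with hπ
  have hsurj := QuotientGroup.mk'_surjective (pPrimeCore p X)
  have hRcoe : ((R.mapSurjective hsurj : Sylow p (X ⧸ pPrimeCore p X)) :
      Subgroup (X ⧸ pPrimeCore p X)) = (R : Subgroup X).map π := Sylow.coe_mapSurjective hsurj R
  have hst' : ∀ (V : Subgroup (X ⧸ pPrimeCore p X)) [V.Normal], IsPGroup p V →
      ∀ A : Subgroup (X ⧸ pPrimeCore p X),
      A ≤ ((R.mapSurjective hsurj : Sylow p _) : Subgroup _) →
      ⁅⁅V, A⁆, A⁆ = ⊥ → A ≤ stabL p V :=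
    fun V _ hV A hA hq =>
      hst_quotient hst (pPrimeCore p X) hK V hV A ((R.mapSurjective hsurj).isPGroup'.to_le hA) hq
  have hnorm := hWn (X ⧸ pPrimeCore p X) hc' (R.mapSurjective hsurj) hst'
  have hRp : IsPGroup p (R : Subgroup X) := R.isPGroup'
  have hinf : pPrimeCore p X ⊓ (R : Subgroup X) = ⊥ :=
    Cfsg.Agent.Helper54.inf_eq_bot_of_isPGroup_of_coprime _ _ hK hRp
  have hinj : ∀ x ∈ (R : Subgroup X), π x = 1 → x = 1 := by
    intro x hx hx1
    have hxK : x ∈ pPrimeCore p X := by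
      rw [hπ, QuotientGroup.mk'_apply, QuotientGroup.eq_one_iff] at hx1
      exact hx1
    have : x ∈ pPrimeCore p X ⊓ (R : Subgroup X) := ⟨hxK, hx⟩
    rw [hinf, Subgroup.mem_bot] at this
    exact this
  have hWmap := indF_map hW π (R : Subgroup X) hRp hinj
  rw [hRcoe, hWmap] at hnorm
  have hZp : IsPGroup p (inducedFunctor W (R : Subgroup X)) := hRp.to_le (indF_le W _)
  apply Cfsg.Agent.Helper54.exists_mul_mem_normalizer (pPrimeCore p X) hK _ hZp c
  intro t ht
  have h2 : π c * π t * (π c)⁻¹ ∈ (inducedFunctor W (R : Subgroup X)).map π :=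
    hnorm.conj_mem _ (Subgroup.mem_map_of_mem _ ht) _
  obtain ⟨t', ht', h3⟩ := h2
  have h4 : t'⁻¹ * (c * t * c⁻¹) ∈ pPrimeCore p X := by
    rw [← QuotientGroup.eq_one_iff, ← QuotientGroup.mk'_apply, ← hπ]
    simp only [map_mul, map_inv]
    rw [h3]
    group
  have h5 : c * t * c⁻¹ = t' * (t'⁻¹ * (c * t * c⁻¹)) := by group
  rw [h5]
  exact Subgroup.mul_mem _ (Subgroup.mem_sup_left ht') (Subgroup.mem_sup_right h4)

/-- Local control of strong fusion in a `p`-constrained, `p`-stable group. -/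
theorem local_control_indF (hW : IsCharPFunctor.{u} p W) (hWn : NormalInCharP p W)
    (hc : IsPConstrained p X)
    (hst : IsNormalizerPStable p X) (R : Sylow p X) (A : Set X) (h : X)
    (hA : A ⊆ (R : Subgroup X)) (hAh : ∀ a ∈ A, h * a * h⁻¹ ∈ (R : Subgroup X)) :
    ∃ x ∈ Subgroup.normalizer ((inducedFunctor W (R : Subgroup X) : Subgroup X) : Set X),
      ∀ a ∈ A, x * a * x⁻¹ = h * a * h⁻¹ := by
  haveI hKn : (pPrimeCore p X).Normal := Cfsg.Agent.Helper54.pPrimeCore_normal' p
  have hK : (Nat.card (pPrimeCore p X)).Coprime p := Cfsg.Agent.Helper54.pPrimeCore_coprime p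
  have hUR : Subgroup.closure A ≤ (R : Subgroup X) := (Subgroup.closure_le _).mpr hA
  have hUh : ∀ u ∈ Subgroup.closure A, h * u * h⁻¹ ∈ (R : Subgroup X) :=
    Cfsg.Agent.Helper46.conj_closure_mem hAh
  have hRN : (R : Subgroup X) ≤
      Subgroup.normalizer ((inducedFunctor W (R : Subgroup X) : Subgroup X) : Set X) :=
    Subgroup.le_normalizer.trans (normalizer_le_normalizer_indF hW _ R.isPGroup')
  obtain ⟨k, hk, hn⟩ := exists_mul_mem_normalizer_indF hW hWn hc hst R h
  have hκ : k⁻¹ ∈ pPrimeCore p X := Subgroup.inv_mem _ hk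
  have hUκ : ∀ u ∈ Subgroup.closure A, k⁻¹ * u * k⁻¹⁻¹ ∈
      Subgroup.normalizer ((inducedFunctor W (R : Subgroup X) : Subgroup X) : Set X) := by
    intro u hu
    have e1 : k⁻¹ * u * k⁻¹⁻¹ = (h * k)⁻¹ * (h * u * h⁻¹) * (h * k) := by group
    rw [e1]
    exact Subgroup.mul_mem _ (Subgroup.mul_mem _ (Subgroup.inv_mem _ hn) (hRN (hUh u hu))) hn
  obtain ⟨c, hc', hcu⟩ := exists_conj_agree (pPrimeCore p X) hK _ (Subgroup.closure A)
    (R.isPGroup'.to_le hUR) (hUR.trans hRN) k⁻¹ hκ hUκ
  refine ⟨h * k * c, Subgroup.mul_mem _ hn hc'.1, ?_⟩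
  intro a ha
  have h1 := hcu a (Subgroup.subset_closure ha)
  have e2 : h * k * c * a * (h * k * c)⁻¹ = (h * k) * (c * a * c⁻¹) * (h * k)⁻¹ := by group
  rw [e2, h1]
  group

theorem general_control (hW : IsCharPFunctor.{u} p W) (hWn : NormalInCharP p W)
    (hG : ∀ (Y : Type u) [Group Y] [Finite Y], ¬ Involves ↥(Cfsg.qd p) Y →
      IsNormalizerPStable p Y) :
    ∀ (n : ℕ) (X : Type u) [Group X] [Finite X], Nat.card X = n → ¬ Involves ↥(Cfsg.qd p) X →
      LCF p W X := by
  intro n
  induction n using Nat.strong_induction_on with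
  | _ n ih =>
    intro X _ _ hcard hfree
    have IH : ∀ (Y : Type u) [Group Y] [Finite Y], Nat.card Y < Nat.card X →
        ¬ Involves ↥(Cfsg.qd p) Y → LCF p W Y :=
      fun Y _ _ hlt hY => ih (Nat.card Y) (hcard ▸ hlt) Y rfl hY
    have IHsub : ∀ Y : Subgroup X, Y ≠ ⊤ → LCF p W ↥Y := fun Y hY =>
      IH ↥Y (Cfsg.Agent.Helper46.card_subgroup_lt_of_ne_top hY)
        (fun hinv => hfree (Cfsg.Agent.Helper46.involves_of_involves_subgroup Y hinv))
    have IHquot : ∀ (N : Subgroup X) [N.Normal], N ≠ ⊥ → LCF p W (X ⧸ N) := fun N _ hN =>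
      IH (X ⧸ N) (Cfsg.Agent.Helper46.card_quotient_lt_of_ne_bot hN) (fun hinv =>
        hfree (Cfsg.Agent.Helper46.involves_of_involves_quotient (QuotientGroup.mk' N)
          (QuotientGroup.mk'_surjective N) hinv))
    intro R A h hA hAh
    by_cases hc : IsPConstrained p X
    · exact local_control_indF hW hWn hc (hG X hfree) R A h hA hAh
    by_cases hK : pPrimeCore p X = ⊥
    swap
    · have : (pPrimeCore p X).Normal := Cfsg.Agent.Helper54.pPrimeCore_normal' p
      exact control_of_pPrimeQuotient hW (pPrimeCore p X)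
        (Cfsg.Agent.Helper54.pPrimeCore_coprime p) (IHquot _ hK) R A h hA hAh
    by_cases hQ : pCore p X = ⊥
    · apply control_of_locals hW R _ A h hA hAh
      intro T hTR hTne _
      apply IHsub
      intro htop
      apply hTne
      have hTn : T.Normal := Subgroup.normalizer_eq_top_iff.mp htop
      rw [eq_bot_iff, ← hQ]
      exact le_pCore' hTn (R.isPGroup'.to_le hTR)
    set Q := pCore p X with hQdef
    have hQn : Q.Normal := pCore_normal' p X
    set C := Subgroup.centralizer (Q : Set X) with hCdef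
    have hQR : Q ≤ (R : Subgroup X) := pCore_le_sylow' R
    by_cases hRC : (R : Subgroup X) ⊔ C = ⊤
    · exact control_of_RC_eq_top hW Q rfl R hRC (IHquot Q hQ) (fun Y _ hY => IHsub Y hY) A h hA hAh
    · obtain ⟨m, hm, n', hn', rfl, hmA⟩ := Cfsg.Agent.Helper46.fusion_frattini R (Q ⊔ C) A hA h hAh
      have hN₁ne : Subgroup.normalizer ((((R : Subgroup X) ⊓ (Q ⊔ C) : Subgroup X)) : Set X) ≠ ⊤ := by
        intro htop
        apply hc
        exact Cfsg.Agent.Helper54.IsCharP.isPConstrained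
          (Cfsg.Agent.Helper46.centralizer_le_pCore_of_normalizer_eq_top R hK htop)
      have hmY : m ∈ (R : Subgroup X) ⊔ C := (sup_le (hQR.trans le_sup_left) le_sup_right) hm
      obtain ⟨y, hy, hya⟩ := control_of_subgroup hW R ((R : Subgroup X) ⊔ C) le_sup_left
        (IHsub _ hRC) A m hmY hA hmA
      have hRN₁ : (R : Subgroup X) ≤
          Subgroup.normalizer ((((R : Subgroup X) ⊓ (Q ⊔ C) : Subgroup X)) : Set X) := by
        intro r hr
        apply Subgroup.mem_normalizer_fintype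
        rintro x ⟨hx1, hx2⟩
        exact ⟨Subgroup.mul_mem _ (Subgroup.mul_mem _ hr hx1) (Subgroup.inv_mem _ hr),
          (inferInstance : (Q ⊔ C).Normal).conj_mem x hx2 r⟩
      obtain ⟨z, hz, hza⟩ := control_of_subgroup hW R _ hRN₁ (IHsub _ hN₁ne)
        ((fun a => m * a * m⁻¹) '' A) n' hn'
        (by
          rintro _ ⟨a, ha, rfl⟩
          exact hmA a ha)
        (by
          rintro _ ⟨a, ha, rfl⟩
          have := hAh a ha
          have e : n' * (m * a * m⁻¹) * n'⁻¹ = n' * m * a * (n' * m)⁻¹ := by group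
          rw [e]
          exact this)
      refine ⟨z * y, Subgroup.mul_mem _ hz hy, fun a ha => ?_⟩
      have h1 := hya a ha
      have h2 := hza (m * a * m⁻¹) ⟨a, ha, rfl⟩
      have e : z * y * a * (z * y)⁻¹ = z * (y * a * y⁻¹) * z⁻¹ := by group
      rw [e, h1, h2]
      group

end Cfsg.Agent.Helper2.FC
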