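import Mathlib
import Cfsg.Agent.Lib.Helper2.Frobenius

set_option autoImplicit false
open scoped commutatorElement

/-!
# Elementwise control of fusion in a nilpotent subgroup containing a Sylow subgroup (helper2)
-/

namespace Cfsg.Agent.Helper2

/-- `g x g⁻¹ = z x` with `g z g⁻¹ = z` gives `g^k x g^-k = z^k x`. -/
theorem conj_pow_of_conj_eq_mul {G : Type*} [Group G] (g x z : G) (hx : g * x * g⁻¹ = z * x)
    (hz : g * z * g⁻¹ = z) (k : ℕ) : g ^ k * x * (g ^ k)⁻¹ = z ^ k * x := by
  induction k with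
  | zero => simp
  | succ k ih =>
    have hzk : g * z ^ k * g⁻¹ = z ^ k := by
      rw [← conj_pow, hz]
    calc g ^ (k + 1) * x * (g ^ (k + 1))⁻¹ = g * (g ^ k * x * (g ^ k)⁻¹) * g⁻¹ := by
          rw [pow_succ']; group
      _ = g * (z ^ k * x) * g⁻¹ := by rw [ih]
      _ = (g * z ^ k * g⁻¹) * (g * x * g⁻¹) := by group
      _ = z ^ k * (z * x) := by rw [hzk, hx]
      _ = z ^ (k + 1) * x := by rw [pow_succ, mul_assoc]

/-- If a nilpotent subgroup `H` containing the Sylow `p`-subgroup `P` controls fusion of its own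
elements, then Frobenius' condition holds for `p`. -/
theorem frobCond_of_nilpotent_control {G : Type*} [Group G] [Finite G] {p : ℕ} [hp : Fact p.Prime]
    (P : Sylow p G) (H : Subgroup G) (hPH : (P : Subgroup G) ≤ H) (hH : Group.IsNilpotent H)
    (hctl : ∀ x ∈ H, ∀ y ∈ H, (∃ g : G, g * x * g⁻¹ = y) → ∃ h ∈ H, h * x * h⁻¹ = y) :
    FrobCond p G := by
  apply frobCond_of_sylow P
  intro Q hQP g hg hgo
  have hQH : Q ≤ H := hQP.trans hPH
  have key : ∀ (i : ℕ) (x : H), x ∈ Subgroup.upperCentralSeries H i → (x : G) ∈ Q →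
      g * (x : G) * g⁻¹ = (x : G) := by
    intro i
    induction i with
    | zero =>
      intro x hx _
      rw [Subgroup.upperCentralSeries_zero, Subgroup.mem_bot] at hx
      rw [hx]; simp
    | succ i ih =>
      intro x hx hxQ
      have hyQ : g * (x : G) * g⁻¹ ∈ Q := (Subgroup.mem_normalizer_iff.mp hg _).mp hxQ
      obtain ⟨h, hhH, hh⟩ := hctl (x : G) x.2 (g * (x : G) * g⁻¹) (hQH hyQ) ⟨g, rfl⟩
      -- `z = g x g⁻¹ x⁻¹ = h x h⁻¹ x⁻¹`
      set z : G := g * (x : G) * g⁻¹ * (x : G)⁻¹ with hz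
      have hzQ : z ∈ Q := Q.mul_mem hyQ (Q.inv_mem hxQ)
      have hzH : z ∈ H := hQH hzQ
      have hzZ : (⟨z, hzH⟩ : H) ∈ Subgroup.upperCentralSeries H i := by
        have h1 := (Subgroup.mem_upperCentralSeries_succ_iff.mp hx) ⟨h, hhH⟩
        have h2 := Subgroup.inv_mem _ h1
        have h3 : (⁅x, (⟨h, hhH⟩ : H)⁆)⁻¹ = (⟨z, hzH⟩ : H) := by
          apply Subtype.ext
          show ((x : G) * h * (x : G)⁻¹ * h⁻¹)⁻¹ = z
          rw [hz, ← hh]; group
        rwa [h3] at h2
      have hgz : g * z * g⁻¹ = z := ih ⟨z, hzH⟩ hzZ hzQ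
      have hgx : g * (x : G) * g⁻¹ = z * (x : G) := by rw [hz]; group
      have hpow := conj_pow_of_conj_eq_mul g (x : G) z hgx hgz (orderOf g)
      rw [pow_orderOf_eq_one] at hpow
      have hz1 : z ^ orderOf g = 1 := by
        have : (x : G) = z ^ orderOf g * (x : G) := by simpa using hpow
        exact (mul_eq_right.mp this.symm)
      -- `z` is a `p`-element
      obtain ⟨a, ha⟩ := P.2 ⟨z, hQP hzQ⟩
      have ha' : z ^ p ^ a = 1 := by
        have := congrArg Subtype.val ha
        simpa using this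
      have h4 : orderOf z ∣ orderOf g := orderOf_dvd_of_pow_eq_one hz1
      have h5 : orderOf z ∣ p ^ a := orderOf_dvd_of_pow_eq_one ha'
      have h6 : orderOf z = 1 := Nat.eq_one_of_dvd_coprimes (Nat.Coprime.pow_right a hgo) h4 h5
      have h7 : z = 1 := orderOf_eq_one_iff.mp h6
      rw [hgx, h7, one_mul]
  obtain ⟨n, hn⟩ := hH.nilpotent
  rw [Subgroup.mem_centralizer_iff]
  intro x hx
  have := key n ⟨x, hQH hx⟩ (hn ▸ Subgroup.mem_top _) hx
  have h8 : g * x * g⁻¹ = x := this
  calc x * g = (g * x * g⁻¹) * g := by rw [h8]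
    _ = g * x := by group

/-- A Hall subgroup contains a Sylow `p`-subgroup of `G` for every prime `p` (dividing its order or not
dividing its index). -/
theorem exists_sylow_le_of_hall {G : Type*} [Group G] [Finite G] {p : ℕ} [hp : Fact p.Prime]
    (H : Subgroup G) (hpi : ¬ p ∣ H.index) : ∃ P : Sylow p G, (P : Subgroup G) ≤ H := by
  obtain ⟨P₀⟩ : Nonempty (Sylow p H) := inferInstance
  have hcard : Nat.card ((P₀ : Subgroup H).map H.subtype) = p ^ (Nat.card G).factorization p := by
    rw [Subgroup.card_map_of_injective H.subtype_injective, P₀.card_eq_multiplicity]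
    congr 1
    rw [← H.card_mul_index, Nat.factorization_mul Nat.card_pos.ne' (Subgroup.index_ne_zero_of_finite),
      Finsupp.add_apply, Nat.factorization_eq_zero_of_not_dvd hpi, add_zero]
  exact ⟨Sylow.ofCard _ hcard, Subgroup.map_subtype_le _⟩

end Cfsg.Agent.Helper2
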