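import Mathlib

set_option autoImplicit false

/-!
# Counting homomorphisms from a `p`-group to a group of order `p` (helper2)
-/

namespace Cfsg.Agent.Helper2

universe u

/-- A finite `p`-group `V` has at most `|V|` homomorphisms to a group of order at most `p`. -/
theorem card_monoidHom_le_aux {p : ℕ} [hp : Fact p.Prime] {Z : Type*} [Group Z] [Finite Z]
    (hZ : Nat.card Z ≤ p) :
    ∀ (n : ℕ) (V : Type u) [Group V] [Finite V], IsPGroup p V → Nat.card V = n →
      Nat.card (V →* Z) ≤ n := by
  intro n
  induction n using Nat.strong_induction_on with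
  | _ n ih =>
    intro V _ _ hV hn
    by_cases htriv : Subsingleton V
    · have hsub : Subsingleton (V →* Z) :=
        ⟨fun f g => by ext x; rw [Subsingleton.elim x 1, map_one, map_one]⟩
      have h1 : Nat.card (V →* Z) ≤ 1 := Finite.card_le_one_iff_subsingleton.mpr hsub
      have h2 : 0 < n := hn ▸ Nat.card_pos
      omega
    · have hnt : Nontrivial V := not_subsingleton_iff_nontrivial.mp htriv
      obtain ⟨M, hM⟩ : ∃ M : Subgroup V, IsCoatom M := by
        rcases eq_top_or_exists_le_coatom (⊥ : Subgroup V) with h | ⟨M, hM, _⟩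
        · exact absurd h bot_ne_top
        · exact ⟨M, hM⟩
      obtain ⟨v, hv⟩ : ∃ v, v ∉ M := by
        by_contra hcon
        exact hM.1 (eq_top_iff.mpr fun x _ => by_contra fun hx => hcon ⟨x, hx⟩)
      let f : (V →* Z) → (M →* Z) × Z := fun φ => (φ.comp M.subtype, φ v)
      have hf : Function.Injective f := by
        intro φ ψ hφψ
        have h1 : φ.comp M.subtype = ψ.comp M.subtype := congrArg Prod.fst hφψ
        have h2 : φ v = ψ v := congrArg Prod.snd hφψ
        have hle : M ≤ MonoidHom.eqLocus φ ψ := fun x hx => by
          have := DFunLike.congr_fun h1 ⟨x, hx⟩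
          exact this
        have hv' : v ∈ MonoidHom.eqLocus φ ψ := h2
        have htop : MonoidHom.eqLocus φ ψ = ⊤ := by
          rcases hM.le_iff.mp hle with h | h
          · exact h
          · exact absurd (h ▸ hv') hv
        ext x
        have : x ∈ MonoidHom.eqLocus φ ψ := htop ▸ Subgroup.mem_top x
        exact this
      have hidx : Nat.card M * M.index = n := by rw [Subgroup.card_mul_index, hn]
      have hple : p ≤ M.index := by
        obtain ⟨k, hk⟩ := hV.index M
        rcases k with _ | k
        · exfalso
          rw [pow_zero, Subgroup.index_eq_one] at hk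
          exact hM.1 hk
        · rw [hk]
          exact Nat.le_of_dvd (pow_pos hp.out.pos _) (dvd_pow_self p (Nat.succ_ne_zero k))
      have hMpos : 0 < Nat.card M := Nat.card_pos
      have hcardM : Nat.card M * p ≤ n := hidx ▸ Nat.mul_le_mul_left _ hple
      have hlt : Nat.card M < n := by
        have : Nat.card M * 2 ≤ Nat.card M * p := Nat.mul_le_mul_left _ hp.out.two_le
        omega
      have : Finite (M →* Z) := DFunLike.finite _
      calc Nat.card (V →* Z) ≤ Nat.card ((M →* Z) × Z) := Nat.card_le_card_of_injective f hf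
        _ = Nat.card (M →* Z) * Nat.card Z := Nat.card_prod _ _
        _ ≤ Nat.card M * p := Nat.mul_le_mul (ih (Nat.card M) hlt M (hV.to_subgroup M) rfl) hZ
        _ ≤ n := hcardM

theorem card_monoidHom_le {p : ℕ} [Fact p.Prime] {V : Type u} [Group V] [Finite V] {Z : Type*}
    [Group Z] [Finite Z] (hV : IsPGroup p V) (hZ : Nat.card Z ≤ p) :
    Nat.card (V →* Z) ≤ Nat.card V :=
  card_monoidHom_le_aux hZ (Nat.card V) V hV rfl

end Cfsg.Agent.Helper2
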