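import Mathlib
import Cfsg.Agent.S0035
import Cfsg.Agent.Lib.Helper2.Fusion
import Cfsg.Agent.Lib.Helper2.Frobenius

set_option autoImplicit false

/-!
# An isolated `p`-element centralizing all its invariant `p'`-subgroups is central (helper2)

Minimal counterexample: any two distinct conjugates of `x` generate `G`, so `C_G(x)` is a Frobenius
complement modulo `Z(G)`; Frobenius' theorem (helper96's S0035) and induction on `G / Z(G)` finish.
-/

namespace Cfsg.Agent.Helper2

universe u

theorem inv_conj_eq_iff {G : Type*} [Group G] (g x : G) : g⁻¹ * x * g = x ↔ x * g = g * x := by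
  constructor
  · intro h
    calc x * g = g * (g⁻¹ * x * g) := by group
      _ = g * x := by rw [h]
  · intro h
    calc g⁻¹ * x * g = g⁻¹ * (x * g) := by group
      _ = g⁻¹ * (g * x) := by rw [h]
      _ = x := by group

theorem isPGroup_zpowers_of_pow {G : Type*} [Group G] {p : ℕ} (y : G) (k : ℕ) (h : y ^ p ^ k = 1) :
    IsPGroup p (Subgroup.zpowers y) := by
  intro g
  obtain ⟨i, hi⟩ := Subgroup.mem_zpowers_iff.mp g.2
  refine ⟨k, Subtype.ext ?_⟩
  rw [Subgroup.coe_pow, ← hi, Subgroup.coe_one, ← zpow_natCast, ← zpow_mul, mul_comm, zpow_mul,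
    zpow_natCast, h, one_zpow]

/-- Pairwise commuting generators give a commutative closure. -/
theorem closure_comm_of_comm {G : Type*} [Group G] (T : Set G)
    (h : ∀ a ∈ T, ∀ b ∈ T, a * b = b * a) :
    ∀ a ∈ Subgroup.closure T, ∀ b ∈ Subgroup.closure T, a * b = b * a := by
  have h1 : Subgroup.closure T ≤ Subgroup.centralizer T := by
    rw [Subgroup.closure_le]
    intro a ha
    rw [SetLike.mem_coe, Subgroup.mem_centralizer_iff]
    intro b hb
    exact h b hb a ha
  intro a ha b hb
  have h2 : Subgroup.closure T ≤ Subgroup.centralizer {a} := by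
    rw [Subgroup.closure_le]
    intro t ht
    rw [SetLike.mem_coe, Subgroup.mem_centralizer_iff]
    intro a' ha'
    rw [Set.mem_singleton_iff] at ha'
    rw [ha']
    exact ((Subgroup.mem_centralizer_iff.mp (h1 ha)) t ht).symm
  exact (Subgroup.mem_centralizer_iff.mp (h2 hb)) a rfl

theorem closure_pow_eq_one_of_comm {G : Type*} [Group G] (T : Set G) (n : ℕ)
    (hc : ∀ a ∈ T, ∀ b ∈ T, a * b = b * a) (hn : ∀ a ∈ T, a ^ n = 1) :
    ∀ g ∈ Subgroup.closure T, g ^ n = 1 := by
  intro g hg
  induction hg using Subgroup.closure_induction with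
  | mem s hs => exact hn s hs
  | one => exact one_pow n
  | mul a b ha hb iha ihb =>
    have hab : Commute a b := closure_comm_of_comm T hc a ha b hb
    rw [hab.mul_pow, iha, ihb, one_mul]
  | inv a _ iha => rw [inv_pow, iha, inv_one]

/-- A central `p`-element lies in every Sylow `p`-subgroup. -/
theorem central_pelement_mem_sylow {G : Type*} [Group G] [Finite G] {p : ℕ} [Fact p.Prime]
    (S : Sylow p G) (z : G) (hz : z ∈ Subgroup.center G) (k : ℕ) (hzk : z ^ p ^ k = 1) :
    z ∈ (S : Subgroup G) := by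
  obtain ⟨S', hS'⟩ := (isPGroup_zpowers_of_pow z k hzk).exists_le_sylow
  obtain ⟨a, ha⟩ := MulAction.exists_smul_eq G S' S
  have h1 : z ∈ (S' : Subgroup G) := hS' (Subgroup.mem_zpowers z)
  rw [← ha, mem_smul_sylow_iff]
  have h2 : a⁻¹ * z * a = z := by
    rw [inv_conj_eq_iff]
    exact (Subgroup.mem_center_iff.mp hz a).symm
  rw [h2]; exact h1

/-- The isolation hypothesis holds in every `p`-subgroup containing `x`. -/
theorem isolated_pgroup {G : Type*} [Group G] [Finite G] {p : ℕ} [Fact p.Prime] (S : Sylow p G)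
    (x : G) (hU : ∀ g : G, g⁻¹ * x * g ∈ S → g⁻¹ * x * g = x)
    (R : Subgroup G) (hR : IsPGroup p R) (hxR : x ∈ R) (g : G) (hg : g⁻¹ * x * g ∈ R) :
    g⁻¹ * x * g = x := by
  obtain ⟨S', hS'⟩ := hR.exists_le_sylow
  obtain ⟨a, ha⟩ := MulAction.exists_smul_eq G S S'
  have h1 : a⁻¹ * x * a ∈ (S : Subgroup G) := by
    rw [← mem_smul_sylow_iff, ha]; exact hS' hxR
  have h2 : x * a = a * x := (inv_conj_eq_iff a x).mp (hU a h1)
  have h3 : a⁻¹ * (g⁻¹ * x * g) * a ∈ (S : Subgroup G) := by
    rw [← mem_smul_sylow_iff, ha]; exact hS' hg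
  have h4 : x * (g * a) = (g * a) * x := by
    rw [← inv_conj_eq_iff]
    apply hU
    have : (g * a)⁻¹ * x * (g * a) = a⁻¹ * (g⁻¹ * x * g) * a := by group
    rw [this]; exact h3
  rw [inv_conj_eq_iff]
  have h5 : x * g * a = g * x * a := by
    calc x * g * a = x * (g * a) := by group
      _ = (g * a) * x := h4
      _ = g * (a * x) := by group
      _ = g * (x * a) := by rw [h2]
      _ = g * x * a := by group
  exact mul_right_cancel h5

/-- the quotient step: hypothesis (ii) passes to `G ⧸ Z(G)`. -/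
theorem isolated_quotient_centralizes {G : Type*} [Group G] [Finite G] {p : ℕ} [hp : Fact p.Prime]
    (x : G)
    (hb : ∀ H : Subgroup G, (Nat.card H).Coprime p → (∀ h ∈ H, x * h * x⁻¹ ∈ H) →
      ∀ h ∈ H, x * h = h * x)
    (Hb : Subgroup (G ⧸ Subgroup.center G)) (hcop : (Nat.card Hb).Coprime p)
    (hinv : ∀ h ∈ Hb, (QuotientGroup.mk' (Subgroup.center G) x) * h *
      (QuotientGroup.mk' (Subgroup.center G) x)⁻¹ ∈ Hb) :
    ∀ h ∈ Hb, (QuotientGroup.mk' (Subgroup.center G) x) * h =
      h * (QuotientGroup.mk' (Subgroup.center G) x) := by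
  classical
  set Z := Subgroup.center G with hZ
  set π := QuotientGroup.mk' Z with hπ
  have hπker : ∀ g : G, π g = 1 ↔ g ∈ Z := fun g => QuotientGroup.eq_one_iff g
  set H : Subgroup G := Hb.comap π with hH
  have hHmem : ∀ g : G, g ∈ H ↔ π g ∈ Hb := fun g => Iff.rfl
  have hxH : ∀ h ∈ H, x * h * x⁻¹ ∈ H := by
    intro h hh
    rw [hHmem, map_mul, map_mul, map_inv]
    exact hinv _ hh
  set N₀ := Nat.card Hb with hN₀
  have hpowZ : ∀ h ∈ H, h ^ N₀ ∈ Z := by
    intro h hh
    rw [← hπker, map_pow]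
    have : (⟨π h, hh⟩ : Hb) ^ N₀ = 1 := pow_card_eq_one'
    exact congrArg Subtype.val this
  -- the index of the centre of `H` is prime to `p`
  set n₁ := (Subgroup.center H).index with hn₁
  have hn₁p : ¬ p ∣ n₁ := by
    intro hdvd
    rw [hn₁, Subgroup.index_eq_card] at hdvd
    obtain ⟨q, hq⟩ := exists_prime_orderOf_dvd_card' p hdvd
    obtain ⟨h, rfl⟩ := QuotientGroup.mk_surjective q
    have h1 : (QuotientGroup.mk h : H ⧸ Subgroup.center H) ^ N₀ = 1 := by
      rw [← QuotientGroup.mk_pow, QuotientGroup.eq_one_iff, Subgroup.mem_center_iff]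
      intro g
      apply Subtype.ext
      have hz : ((h : G) ^ N₀) ∈ Z := hpowZ h h.2
      have := Subgroup.mem_center_iff.mp hz (g : G)
      simpa using this
    have h2 : p ∣ N₀ := by rw [← hq]; exact orderOf_dvd_of_pow_eq_one h1
    exact (Nat.Prime.coprime_iff_not_dvd hp.out).mp hcop.symm h2
  -- decomposition of the order of the centre of `H`
  obtain ⟨a, e, hpe, hcZ⟩ : ∃ a e : ℕ, ¬ p ∣ e ∧ Nat.card (Subgroup.center H) = p ^ a * e :=
    Nat.exists_eq_pow_mul_and_not_dvd Nat.card_pos.ne' p hp.out.ne_one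
  let ν : H →* Subgroup.center H := MonoidHom.transferCenterPow H
  have hν : ∀ h : H, ((ν h : H) : G) = (h : G) ^ n₁ := fun h => by
    show (((MonoidHom.transferCenterPow H h : Subgroup.center H) : H) : G) = _
    rw [MonoidHom.transferCenterPow_apply]; rfl
  let ν' : H →* Subgroup.center H := MonoidHom.mk' (fun h => (ν h) ^ e) (by
    intro a b
    have hc : Commute (ν a) (ν b) :=
      Subtype.ext (Subgroup.mem_center_iff.mp (ν b).2 (ν a : H))
    show (ν (a * b)) ^ e = (ν a) ^ e * (ν b) ^ e
    rw [map_mul, hc.mul_pow])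
  have hν' : ∀ h : H, ((ν' h : H) : G) = ((h : G) ^ n₁) ^ e := fun h => by
    show ((((ν h) ^ e : Subgroup.center H) : H) : G) = _
    rw [Subgroup.coe_pow, Subgroup.coe_pow, hν]
  have hcopE : Nat.Coprime (n₁ * e) p := by
    rw [Nat.coprime_comm, Nat.Prime.coprime_iff_not_dvd hp.out]
    intro hd
    rcases (Nat.Prime.dvd_mul hp.out).mp hd with h | h
    · exact hn₁p h
    · exact hpe h
  set K₂ : Subgroup H := ν'.ker with hK₂
  have hK₂mem : ∀ h : H, h ∈ K₂ ↔ (h : G) ^ (n₁ * e) = 1 := by
    intro h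
    rw [hK₂, MonoidHom.mem_ker]
    constructor
    · intro h1
      have := hν' h
      rw [h1] at this
      rw [pow_mul]; exact this.symm
    · intro h1
      apply Subtype.ext; apply Subtype.ext
      rw [hν', ← pow_mul, h1]; rfl
  have hK₂cop : (Nat.card K₂).Coprime p := by
    rw [Nat.coprime_comm, Nat.Prime.coprime_iff_not_dvd hp.out]
    intro hdvd
    obtain ⟨q, hq⟩ := exists_prime_orderOf_dvd_card' p hdvd
    have h1 : ((q : H) : G) ^ (n₁ * e) = 1 := (hK₂mem q).mp q.2
    have h2 : q ^ (n₁ * e) = 1 := by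
      apply Subtype.ext; apply Subtype.ext
      simpa using h1
    have h3 : p ∣ n₁ * e := by rw [← hq]; exact orderOf_dvd_of_pow_eq_one h2
    exact (Nat.Prime.coprime_iff_not_dvd hp.out).mp hcopE.symm h3
  set K : Subgroup G := K₂.map H.subtype with hK
  have hKmem : ∀ g : G, g ∈ K ↔ g ∈ H ∧ g ^ (n₁ * e) = 1 := by
    intro g
    rw [hK, Subgroup.mem_map]
    constructor
    · rintro ⟨h, hh, rfl⟩
      exact ⟨h.2, (hK₂mem h).mp hh⟩
    · rintro ⟨hg, hg1⟩
      exact ⟨⟨g, hg⟩, (hK₂mem ⟨g, hg⟩).mpr hg1, rfl⟩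
  have hKcop : (Nat.card K).Coprime p := by
    have : Nat.card K = Nat.card K₂ := by
      rw [hK]
      exact Nat.card_congr (K₂.equivMapOfInjective H.subtype H.subtype_injective).symm.toEquiv
    rw [this]; exact hK₂cop
  have hKinv : ∀ k ∈ K, x * k * x⁻¹ ∈ K := by
    intro k hk
    rw [hKmem] at hk ⊢
    refine ⟨hxH k hk.1, ?_⟩
    rw [conj_pow, hk.2]; group
  have hKcomm : ∀ k ∈ K, x * k = k * x := hb K hKcop hKinv
  have hHcomm : ∀ h ∈ H, x * h = h * x := by
    intro h hh
    set h' : H := ⟨h, hh⟩ with hh'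
    set w : Subgroup.center H := ν' h' with hw
    have hwG : ((w : H) : G) = h ^ (n₁ * e) := by
      rw [hw, hν', pow_mul]
    have hwpa : w ^ (p ^ a) = 1 := by
      have h1 : (ν h') ^ (p ^ a * e) = 1 := by
        rw [← hcZ]; exact pow_card_eq_one'
      show ((ν h') ^ e) ^ (p ^ a) = 1
      rw [← pow_mul, mul_comm]; exact h1
    have hcw : (Nat.card (Subgroup.zpowers w)).Coprime (n₁ * e) := by
      rw [Nat.card_zpowers]
      have h1 : orderOf w ∣ p ^ a := orderOf_dvd_of_pow_eq_one hwpa
      exact Nat.Coprime.coprime_dvd_left h1 (Nat.Coprime.pow_left a hcopE.symm)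
    obtain ⟨z, hz⟩ := (powCoprime hcw).surjective ⟨w, Subgroup.mem_zpowers w⟩
    have hz' : (z : Subgroup.center H) ^ (n₁ * e) = w := by
      have := congrArg Subtype.val hz
      simpa using this
    have hzpa : (z : Subgroup.center H) ^ (p ^ a) = 1 := by
      obtain ⟨k, hk⟩ := Subgroup.mem_zpowers_iff.mp z.2
      rw [← hk, ← zpow_natCast, ← zpow_mul, mul_comm, zpow_mul, zpow_natCast, hwpa, one_zpow]
    set zG : G := (((z : Subgroup.center H) : H) : G) with hzG
    have hzGH : zG ∈ H := ((z : Subgroup.center H) : H).2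
    have hzGpow : zG ^ (n₁ * e) = h ^ (n₁ * e) := by
      rw [← hwG, ← hz']; simp [hzG]
    have hzGpa : zG ^ (p ^ a) = 1 := by
      have := congrArg (fun t : Subgroup.center H => ((t : H) : G)) hzpa
      simpa [hzG] using this
    have hzGZ : zG ∈ Z := by
      rw [← hπker]
      have h1 : (π zG) ^ (p ^ a) = 1 := by rw [← map_pow, hzGpa, map_one]
      have h2 : (π zG) ^ N₀ = 1 := by
        have : (⟨π zG, hzGH⟩ : Hb) ^ N₀ = 1 := pow_card_eq_one'
        exact congrArg Subtype.val this
      have h3 : orderOf (π zG) ∣ Nat.gcd (p ^ a) N₀ :=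
        Nat.dvd_gcd (orderOf_dvd_of_pow_eq_one h1) (orderOf_dvd_of_pow_eq_one h2)
      have h4 : Nat.gcd (p ^ a) N₀ = 1 := Nat.Coprime.pow_left a hcop.symm
      rw [h4] at h3
      exact orderOf_eq_one_iff.mp (Nat.dvd_one.mp h3)
    have hzc : ∀ g : G, g * zG = zG * g := fun g => Subgroup.mem_center_iff.mp hzGZ g
    have hk : h * zG⁻¹ ∈ K := by
      rw [hKmem]
      refine ⟨H.mul_mem hh (H.inv_mem hzGH), ?_⟩
      have hc : Commute h zG⁻¹ := by
        show h * zG⁻¹ = zG⁻¹ * h
        have := hzc h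
        calc h * zG⁻¹ = zG⁻¹ * (zG * h) * zG⁻¹ := by group
          _ = zG⁻¹ * (h * zG) * zG⁻¹ := by rw [this]
          _ = zG⁻¹ * h := by group
      rw [hc.mul_pow, inv_pow, hzGpow, mul_inv_cancel]
    have h1 := hKcomm _ hk
    have h2 := hzc x
    calc x * h = x * (h * zG⁻¹) * zG := by group
      _ = (h * zG⁻¹) * x * zG := by rw [h1]
      _ = (h * zG⁻¹) * (x * zG) := by group
      _ = (h * zG⁻¹) * (zG * x) := by rw [h2]
      _ = h * x := by group
  intro hbar hhbar
  obtain ⟨h, rfl⟩ := QuotientGroup.mk'_surjective Z hbar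
  have := hHcomm h hhbar
  show π x * π h = π h * π x
  rw [← map_mul, ← map_mul, this]

open scoped Pointwise in
theorem mem_conj_smul_iff' {G : Type*} [Group G] (H : Subgroup G) (g c : G) :
    c ∈ MulAut.conj g • H ↔ g⁻¹ * c * g ∈ H := by
  rw [Subgroup.mem_pointwise_smul_iff_inv_smul_mem]
  simp [MulAut.smul_def, mul_assoc]

/-- If `y = s z` with `s ∈ S`, `z` central and `y` a `p`-element then `y ∈ S`. -/
theorem mem_sylow_of_central_diff {G : Type*} [Group G] [Finite G] {p : ℕ} [hp : Fact p.Prime]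
    (S : Sylow p G) (s y : G) (hs : s ∈ S) (k : ℕ) (hy : y ^ p ^ k = 1)
    (hz : s⁻¹ * y ∈ Subgroup.center G) : y ∈ S := by
  obtain ⟨k', hk'⟩ := (S.2 : IsPGroup p S) ⟨s, hs⟩
  have hs' : s ^ p ^ k' = 1 := by
    have := congrArg Subtype.val hk'
    simpa using this
  set z := s⁻¹ * y with hzdef
  have hys : y = s * z := by rw [hzdef]; group
  have hc : Commute s z := (Subgroup.mem_center_iff.mp hz s)
  have h1 : y ^ p ^ (k + k') = 1 := by
    rw [pow_add, pow_mul, hy, one_pow]
  have h2 : s ^ p ^ (k + k') = 1 := by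
    rw [pow_add, mul_comm, pow_mul, hs', one_pow]
  have h3 : z ^ p ^ (k + k') = 1 := by
    have := h1
    rw [hys, hc.mul_pow, h2, one_mul] at this
    exact this
  have hzS : z ∈ S := central_pelement_mem_sylow S z hz (k + k') h3
  rw [hys]
  exact S.mul_mem hs hzS

/-- An isolated `p`-element that centralizes each of its invariant `p'`-subgroups is central
(strong induction on the order). -/
theorem isolated_central_aux (p : ℕ) [hp : Fact p.Prime] :
    ∀ (n : ℕ) (G : Type u) [Group G] [Finite G], Nat.card G = n →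
    ∀ (S : Sylow p G) (x : G), x ∈ S →
      (∀ g : G, g⁻¹ * x * g ∈ S → g⁻¹ * x * g = x) →
      (∀ H : Subgroup G, (Nat.card H).Coprime p → (∀ h ∈ H, x * h * x⁻¹ ∈ H) →
        ∀ h ∈ H, x * h = h * x) →
      x ∈ Subgroup.center G := by
  intro n
  induction n using Nat.strong_induction_on with
  | _ n ih =>
  intro G _ _ hcard S x hx hU hb
  classical
  by_contra hxc
  -- `x` is a `p`-element
  obtain ⟨kx, hkx⟩ := (S.2 : IsPGroup p S) ⟨x, hx⟩
  have hxp : x ^ p ^ kx = 1 := by
    have := congrArg Subtype.val hkx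
    simpa using this
  have hconjp : ∀ g : G, (g⁻¹ * x * g) ^ p ^ kx = 1 := by
    intro g
    have : g⁻¹ * x * g = g⁻¹ * x * g⁻¹⁻¹ := by rw [inv_inv]
    rw [this, conj_pow, hxp]; group
  -- Step 1: proper subgroups containing `x` centralize `x`
  have step1 : ∀ H : Subgroup G, H ≠ ⊤ → x ∈ H → ∀ h ∈ H, x * h = h * x := by
    intro H hH hxH
    have hlt : Nat.card H < n := by
      rw [← hcard, ← Subgroup.card_top (G := G)]
      exact card_lt_card_of_lt' (lt_top_iff_ne_top.mpr hH)
    set x' : H := ⟨x, hxH⟩ with hx'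
    have hx'p : x' ^ p ^ kx = 1 := Subtype.ext (by simpa using hxp)
    obtain ⟨SH, hSH⟩ := (isPGroup_zpowers_of_pow x' kx hx'p).exists_le_sylow
    have hx'S : x' ∈ SH := hSH (Subgroup.mem_zpowers x')
    have hR : IsPGroup p ((SH : Subgroup H).map H.subtype) := (SH.2 : IsPGroup p SH).map _
    have hmemR : ∀ h : H, (h : G) ∈ (SH : Subgroup H).map H.subtype ↔ h ∈ SH := by
      intro h
      rw [Subgroup.mem_map]
      constructor
      · rintro ⟨h', hh', he⟩
        have : h' = h := Subtype.ext he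
        rw [← this]; exact hh'
      · intro hh; exact ⟨h, hh, rfl⟩
    have key := ih (Nat.card H) hlt H rfl SH x' hx'S
      (by
        intro g hg
        apply Subtype.ext
        have := isolated_pgroup S x hU _ hR ((hmemR x').mpr hx'S) (g : G)
          (by
            have h2 := (hmemR (g⁻¹ * x' * g)).mpr hg
            simpa using h2)
        simpa using this)
      (by
        intro K hK hKinv
        have h1 : (Nat.card (K.map H.subtype)).Coprime p := by
          have : Nat.card (K.map H.subtype) = Nat.card K :=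
            Nat.card_congr (K.equivMapOfInjective H.subtype H.subtype_injective).symm.toEquiv
          rw [this]; exact hK
        have h2 := hb (K.map H.subtype) h1 (by
          intro h hh
          obtain ⟨k, hk, rfl⟩ := Subgroup.mem_map.mp hh
          exact Subgroup.mem_map.mpr ⟨x' * k * x'⁻¹, hKinv k hk, by simp [hx']⟩)
        intro k hk
        apply Subtype.ext
        have := h2 (k : G) (Subgroup.mem_map.mpr ⟨k, hk, rfl⟩)
        simpa [hx'] using this)
    intro h hh
    have := Subgroup.mem_center_iff.mp key ⟨h, hh⟩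
    have h3 := congrArg Subtype.val this
    simpa [hx'] using h3.symm
  -- Step 2: a conjugate commuting with `x` equals `x`
  have step2 : ∀ g : G, (g⁻¹ * x * g) * x = x * (g⁻¹ * x * g) → g⁻¹ * x * g = x := by
    intro g hg
    set T : Set G := {x, g⁻¹ * x * g} with hT
    have hTc : ∀ a ∈ T, ∀ b ∈ T, a * b = b * a := by
      intro a ha b hb'
      rcases ha with rfl | rfl <;> rcases hb' with rfl | rfl
      · rfl
      · exact hg.symm
      · exact hg
      · rfl
    have hTp : ∀ a ∈ T, a ^ p ^ kx = 1 := by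
      intro a ha
      rcases ha with rfl | rfl
      · exact hxp
      · exact hconjp g
    have hR : IsPGroup p (Subgroup.closure T) := by
      intro y
      exact ⟨kx, Subtype.ext (by
        have := closure_pow_eq_one_of_comm T (p ^ kx) hTc hTp y y.2
        simpa using this)⟩
    exact isolated_pgroup S x hU _ hR (Subgroup.subset_closure (by simp [hT])) g
      (Subgroup.subset_closure (by simp [hT]))
  -- Step 3: two distinct conjugates generate `G`
  have step3 : ∀ g : G, ¬ (x * g = g * x) → Subgroup.closure ({x, g⁻¹ * x * g} : Set G) = ⊤ := by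
    intro g hg
    by_contra hne
    have h1 := step1 _ hne (Subgroup.subset_closure (by simp)) (g⁻¹ * x * g)
      (Subgroup.subset_closure (by simp))
    exact hg ((inv_conj_eq_iff g x).mp (step2 g h1.symm))
  -- Step 4: elements centralizing two distinct conjugates are central
  have step4 : ∀ g : G, ¬ (x * g = g * x) → ∀ c : G, x * c = c * x →
      (g⁻¹ * x * g) * c = c * (g⁻¹ * x * g) → c ∈ Subgroup.center G := by
    intro g hg c hc1 hc2
    have h1 : Subgroup.closure ({x, g⁻¹ * x * g} : Set G) ≤ Subgroup.centralizer {c} := by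
      rw [Subgroup.closure_le]
      intro t ht
      rw [SetLike.mem_coe, Subgroup.mem_centralizer_iff]
      intro c' hc'
      rw [Set.mem_singleton_iff] at hc'
      rw [hc']
      rcases ht with rfl | rfl
      · exact hc1.symm
      · exact hc2.symm
    rw [step3 g hg] at h1
    rw [Subgroup.mem_center_iff]
    intro a
    have := Subgroup.mem_centralizer_iff.mp (h1 (Subgroup.mem_top a)) c rfl
    exact this.symm
  -- the centralizer of `x`
  set C : Subgroup G := Subgroup.centralizer {x} with hC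
  have hCmem : ∀ g : G, g ∈ C ↔ x * g = g * x := by
    intro g
    rw [hC, Subgroup.mem_centralizer_iff]
    constructor
    · intro h; exact h x rfl
    · intro h a ha; rw [Set.mem_singleton_iff] at ha; rw [ha]; exact h
  have hCtop : C ≠ ⊤ := by
    intro h
    apply hxc
    rw [Subgroup.mem_center_iff]
    intro g
    exact ((hCmem g).mp (h ▸ Subgroup.mem_top g)).symm
  have hSC : (S : Subgroup G) ≤ C := by
    intro s hs
    rw [hCmem, ← inv_conj_eq_iff]
    apply hU
    exact S.mul_mem (S.mul_mem (S.inv_mem hs) hx) hs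
  by_cases hZ : Subgroup.center G = ⊥
  · -- Frobenius case
    have hx1 : x ≠ 1 := by
      intro h; apply hxc; rw [h]; exact Subgroup.one_mem _
    have hCbot : C ≠ ⊥ := by
      intro h
      have : x ∈ C := (hCmem x).mpr rfl
      rw [h, Subgroup.mem_bot] at this
      exact hx1 this
    have hfrob : Cfsg.IsFrobeniusComplement C := by
      refine ⟨hCbot, hCtop, ?_⟩
      intro g hg
      rw [eq_bot_iff]
      intro c hc
      rw [Subgroup.mem_inf, mem_conj_smul_iff'] at hc
      rw [← hZ]
      have hg' : ¬ (x * g⁻¹ = g⁻¹ * x) := by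
        intro h
        apply hg
        exact C.inv_mem_iff.mp ((hCmem g⁻¹).mpr h)
      apply step4 g⁻¹ hg' c ((hCmem c).mp hc.1)
      have h2 := (hCmem _).mp hc.2
      rw [inv_inv]
      calc g * x * g⁻¹ * c = g * (x * (g⁻¹ * c * g)) * g⁻¹ := by group
        _ = g * ((g⁻¹ * c * g) * x) * g⁻¹ := by rw [h2]
        _ = c * (g * x * g⁻¹) := by group
    obtain ⟨N, -, hNn, hNC⟩ := Cfsg.Agent.S0035.result C hfrob
    have hNcard : Nat.card N = C.index := hNC.index_eq_card.symm
    have hNcop : (Nat.card N).Coprime p := by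
      rw [hNcard, Nat.coprime_comm, Nat.Prime.coprime_iff_not_dvd hp.out]
      intro hd
      exact S.not_dvd_index (dvd_trans hd (Subgroup.index_dvd_of_le hSC))
    have hNle : N ≤ C := by
      intro k hk
      rw [hCmem]
      exact hb N hNcop (fun h hh => hNn.conj_mem h hh x) k hk
    have hNbot : N = ⊥ := by
      have := hNC.disjoint
      rw [disjoint_iff, inf_eq_left.mpr hNle] at this
      exact this
    apply hCtop
    rw [← Subgroup.index_eq_one, ← hNcard, hNbot, Subgroup.card_bot]
  · -- the centre is nontrivial: pass to the quotient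
    set Z := Subgroup.center G with hZdef
    have hQlt : Nat.card (G ⧸ Z) < n := by
      rw [← hcard, Subgroup.card_eq_card_quotient_mul_card_subgroup Z]
      have h1 : 1 < Nat.card Z := Z.one_lt_card_iff_ne_bot.mpr hZ
      have h2 : 0 < Nat.card (G ⧸ Z) := Nat.card_pos
      nlinarith
    set π := QuotientGroup.mk' Z with hπ
    have hπs : Function.Surjective π := QuotientGroup.mk'_surjective Z
    set Sb : Sylow p (G ⧸ Z) := S.mapSurjective hπs with hSb
    have hSbmem : ∀ q : G ⧸ Z, q ∈ Sb ↔ ∃ s ∈ S, π s = q := by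
      intro q
      show q ∈ (Sb : Subgroup (G ⧸ Z)) ↔ _
      rw [hSb, Sylow.coe_mapSurjective, Subgroup.mem_map]
      rfl
    have hπeq : ∀ a b : G, π a = π b ↔ a⁻¹ * b ∈ Z := by
      intro a b
      exact QuotientGroup.eq
    have keyQ := ih (Nat.card (G ⧸ Z)) hQlt (G ⧸ Z) rfl Sb (π x)
      ((hSbmem _).mpr ⟨x, hx, rfl⟩)
      (by
        intro q hq
        obtain ⟨g, rfl⟩ := hπs q
        rw [← map_inv, ← map_mul, ← map_mul] at hq ⊢
        obtain ⟨s, hs, hsq⟩ := (hSbmem _).mp hq
        have h1 : g⁻¹ * x * g ∈ S :=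
          mem_sylow_of_central_diff S s _ hs kx (hconjp g) ((hπeq _ _).mp hsq)
        rw [hU g h1])
      (isolated_quotient_centralizes x hb)
    -- conclude
    apply hxc
    rw [Subgroup.mem_center_iff]
    intro g
    have h1 : π x * π g = π g * π x := (Subgroup.mem_center_iff.mp keyQ (π g)).symm
    have h2 : π x = π (g⁻¹ * x * g) := by
      rw [map_mul, map_mul, map_inv]
      calc π x = (π g)⁻¹ * (π g * π x) := by group
        _ = (π g)⁻¹ * (π x * π g) := by rw [h1]
        _ = (π g)⁻¹ * π x * π g := by group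
    have h3 : g⁻¹ * x * g ∈ S :=
      mem_sylow_of_central_diff S x _ hx kx (hconjp g) ((hπeq _ _).mp h2)
    exact ((inv_conj_eq_iff g x).mp (hU g h3)).symm

theorem isolated_central {G : Type u} [Group G] [Finite G] {p : ℕ} [Fact p.Prime]
    (S : Sylow p G) (x : G) (hx : x ∈ S)
    (hU : ∀ g : G, g⁻¹ * x * g ∈ S → g⁻¹ * x * g = x)
    (hb : ∀ H : Subgroup G, (Nat.card H).Coprime p → (∀ h ∈ H, x * h * x⁻¹ ∈ H) →
        ∀ h ∈ H, x * h = h * x) :
    x ∈ Subgroup.center G :=
  isolated_central_aux p _ G rfl S x hx hU hb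

end Cfsg.Agent.Helper2
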