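import Mathlib

/-!
# Kaloujnine–Krasner embedding (helper2)

For `N ⊴ G` the group `G` embeds into the regular wreath product `N ≀ᵣ (G ⧸ N)`
(Mathlib's `RegularWreathProduct`).  Also: functoriality of `≀ᵣ` in the base group.
Mathlib-only.
-/

set_option autoImplicit false

namespace Cfsg.Agent.Helper2.KK

open RegularWreathProduct

variable {G : Type*} [Group G]

/-- The value `t x⁻¹ * g * t ((g N)⁻¹ * x)` lies in `N`. -/
theorem kk_mem (N : Subgroup G) [N.Normal] (t : G ⧸ N → G)
    (ht : ∀ x, (QuotientGroup.mk (t x) : G ⧸ N) = x) (g : G) (x : G ⧸ N) :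
    (t x)⁻¹ * g * t ((QuotientGroup.mk g : G ⧸ N)⁻¹ * x) ∈ N := by
  rw [← QuotientGroup.eq_one_iff]
  simp only [QuotientGroup.mk_mul, QuotientGroup.mk_inv, ht]
  group

/-- The Kaloujnine–Krasner map attached to a section `t` of `G → G ⧸ N`. -/
noncomputable def kkHom (N : Subgroup G) [N.Normal] (t : G ⧸ N → G)
    (ht : ∀ x, (QuotientGroup.mk (t x) : G ⧸ N) = x) : G →* (↥N ≀ᵣ (G ⧸ N)) where
  toFun g := ⟨fun x => ⟨(t x)⁻¹ * g * t ((QuotientGroup.mk g : G ⧸ N)⁻¹ * x), kk_mem N t ht g x⟩,
    QuotientGroup.mk g⟩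
  map_one' := by
    ext x
    · simp
    · simp
  map_mul' g h := by
    ext x
    · simp only [RegularWreathProduct.mul_left, Pi.mul_apply, Subgroup.coe_mul,
        QuotientGroup.mk_mul, mul_inv_rev]
      group
    · simp

theorem kkHom_injective (N : Subgroup G) [N.Normal] (t : G ⧸ N → G)
    (ht : ∀ x, (QuotientGroup.mk (t x) : G ⧸ N) = x) : Function.Injective (kkHom N t ht) := by
  intro g h hgh
  have h2 : (QuotientGroup.mk g : G ⧸ N) = QuotientGroup.mk h := by
    have := congrArg RegularWreathProduct.right hgh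
    simpa [kkHom] using this
  have h1 := congrFun (congrArg RegularWreathProduct.left hgh) 1
  have h3 : (t 1)⁻¹ * g * t ((QuotientGroup.mk g : G ⧸ N)⁻¹ * 1)
      = (t 1)⁻¹ * h * t ((QuotientGroup.mk h : G ⧸ N)⁻¹ * 1) := by
    have := congrArg Subtype.val h1
    simpa [kkHom] using this
  rw [h2] at h3
  have h4 := mul_right_cancel h3
  exact mul_left_cancel h4

/-- **Kaloujnine–Krasner**: `G` embeds in `N ≀ᵣ (G ⧸ N)`. -/
theorem exists_injective_regularWreath (N : Subgroup G) [N.Normal] :
    ∃ f : G →* (↥N ≀ᵣ (G ⧸ N)), Function.Injective f := by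
  classical
  have hs : ∀ x : G ⧸ N, ∃ g : G, (QuotientGroup.mk g : G ⧸ N) = x :=
    fun x => QuotientGroup.mk_surjective x
  choose t ht using hs
  exact ⟨kkHom N t ht, kkHom_injective N t ht⟩

/-- Functoriality of the regular wreath product in the base group. -/
def mapBase {D₁ D₂ Q : Type*} [Group D₁] [Group D₂] [Group Q] (φ : D₁ →* D₂) :
    (D₁ ≀ᵣ Q) →* (D₂ ≀ᵣ Q) where
  toFun a := ⟨fun x => φ (a.left x), a.right⟩
  map_one' := by
    ext x
    · simp
    · simp
  map_mul' a b := by
    ext x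
    · simp [RegularWreathProduct.mul_left]
    · simp

theorem mapBase_injective {D₁ D₂ Q : Type*} [Group D₁] [Group D₂] [Group Q] (φ : D₁ →* D₂)
    (hφ : Function.Injective φ) : Function.Injective (mapBase (Q := Q) φ) := by
  intro a b hab
  have h2 : a.right = b.right := by
    have := congrArg RegularWreathProduct.right hab
    simpa [mapBase] using this
  have h1 : a.left = b.left := by
    funext x
    have := congrFun (congrArg RegularWreathProduct.left hab) x
    exact hφ (by simpa [mapBase] using this)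
  exact RegularWreathProduct.ext h1 h2

/-- Functoriality of the regular wreath product in the top group (along an isomorphism). -/
def mapTop {D Q₁ Q₂ : Type*} [Group D] [Group Q₁] [Group Q₂] (e : Q₁ ≃* Q₂) :
    (D ≀ᵣ Q₁) ≃* (D ≀ᵣ Q₂) :=
  RegularWreathProduct.congr (MulEquiv.refl D) e

/-- Combined form: if `N ⊴ G`, `N` embeds in `M` and `G ⧸ N ≃* C`, then `G` embeds in `M ≀ᵣ C`. -/
theorem exists_injective_wreath_of_embeds {M C : Type*} [Group M] [Group C]
    (N : Subgroup G) [N.Normal] (φ : ↥N →* M) (hφ : Function.Injective φ) (e : (G ⧸ N) ≃* C) :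
    ∃ f : G →* (M ≀ᵣ C), Function.Injective f := by
  obtain ⟨f, hf⟩ := exists_injective_regularWreath N
  refine ⟨((mapTop (D := M) e).toMonoidHom.comp (mapBase φ)).comp f, ?_⟩
  intro a b hab
  apply hf
  apply mapBase_injective φ hφ
  exact (mapTop (D := M) e).injective hab

end Cfsg.Agent.Helper2.KK
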