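import Mathlib
import Cfsg.Prelude.Def_FusionSystem
import Cfsg.Prelude.Def_KGroupFacts
import Cfsg.Agent.Lib.Helper87.Psu3Defs
import Cfsg.Agent.Lib.Helper77.Psl3CEN
import Cfsg.Agent.Lib.Helper63.SU3Inv

/-!
# PSU3F piece (INVU) for helper87 (S5319): all involutions of `SU₃(q)`, `q` odd, are conjugate to `zz`

Direct from `Cfsg.Agent.Helper63.SU3.involutions_conj` (all involutions of `SU₃(q)` are conjugate)
once `zz = diag(-1,-1,1)` is known to lie in `SU₃(q)`.
-/

set_option autoImplicit false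

namespace Cfsg.Agent.Helper2.Psu3

open Matrix Cfsg Cfsg.Agent.Helper87.Psl3 Cfsg.Agent.Helper87.Psu3

variable {K : Type*} [Field K] {q : ℕ}

local notation "SL3" => Matrix.SpecialLinearGroup (Fin 3) K
local notation "GL2" => GL (Fin 2) K

/-- `zz = diag(-1,-1,1)` is unitary (`q` odd) -/
theorem h2_zz_mem_SU (hodd : q % 2 = 1) : (zz : SL3) ∈ Cfsg.SU 3 K q := by
  rw [mem_SU_iff]
  intro u v
  have hq : Odd q := Nat.odd_iff.2 hodd
  rw [Cfsg.Agent.Helper77.Psl3.zz_val]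
  unfold Cfsg.hermForm
  simp only [Fin.sum_univ_three, Matrix.mulVec, dotProduct, Matrix.of_apply, Matrix.cons_val',
    Matrix.cons_val_zero, Matrix.cons_val_one, Matrix.cons_val_two, Matrix.empty_val',
    Matrix.cons_val_fin_one, Matrix.head_cons, Matrix.tail_cons, Matrix.head_fin_const]
  simp only [neg_mul, one_mul, zero_mul, add_zero, zero_add, hq.neg_pow, mul_neg, neg_neg]

theorem inv_conjU [Fintype K] (hK : Fintype.card K = q ^ 2) (hodd : q % 2 = 1) (g : ↥(Cfsg.SU 3 K q))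
    (hg : g * g = 1) (hg1 : g ≠ 1) :
    ∃ c : ↥(Cfsg.SU 3 K q), ((c * g * c⁻¹ : ↥(Cfsg.SU 3 K q)) : SL3) = zz := by
  have hq : Odd q := Nat.odd_iff.2 hodd
  have h2 : (2 : K) ≠ 0 := Cfsg.Agent.Helper63.SU3.two_ne_zero_of_odd hK hq
  set x : ↥(Cfsg.SU 3 K q) := ⟨zz, h2_zz_mem_SU hodd⟩ with hx
  have hx2 : x * x = 1 := by
    apply Subtype.ext
    show (zz : SL3) * zz = 1
    unfold zz
    rw [← map_mul, ← map_mul]
    have : ((-1 : Kˣ) * (-1 : Kˣ)) = 1 := by simp
    rw [this, map_one, map_one]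
  have hx1 : x ≠ 1 := by
    intro h
    have h1 : (zz : SL3) = 1 := congrArg Subtype.val h
    have h3 := congrArg (fun m : SL3 => (m : Matrix (Fin 3) (Fin 3) K) 0 0) h1
    simp only [Cfsg.Agent.Helper77.Psl3.zz_val] at h3
    simp at h3
    apply h2
    linear_combination -h3
  obtain ⟨c, hc⟩ := Cfsg.Agent.Helper63.SU3.involutions_conj (hK := hK) hq g x hg1 hg hx1 hx2
  exact ⟨c, by rw [hc]⟩

end Cfsg.Agent.Helper2.Psu3
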