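import Mathlib
import Cfsg.Agent.Lib.Helper98.SPE0

/-!
# SPE project (S2333), piece K6a: the functionals vanishing on two independent vectors.
-/

set_option autoImplicit false

namespace Cfsg.Agent.Helper2.SPE

open Matrix Cfsg.Agent.Helper93.U2 Cfsg.Agent.Helper98.SPE

section CNT

variable {F : Type*} [Field F] [Fintype F] {q : ℕ} (hq : Fintype.card F = q) {n : ℕ}

include hq in
/-- piece K6a. -/
theorem card_annihilator_pair (x y : Fin n → F) (h : LinearIndependent F ![x, y]) :
    q ^ 2 * {φ : Fin n → F | φ ⬝ᵥ x = 0 ∧ φ ⬝ᵥ y = 0}.ncard = q ^ n := by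
  classical
  let M : Matrix (Fin 2) (Fin n) F := Matrix.of ![x, y]
  have hrow : LinearIndependent F M.row := h
  have hrank : Module.finrank F (LinearMap.range M.mulVecLin) = 2 := by
    have := hrow.rank_matrix
    rw [Fintype.card_fin] at this
    exact this
  have hrn := LinearMap.finrank_range_add_finrank_ker M.mulVecLin
  rw [hrank, Module.finrank_fintype_fun_eq_card, Fintype.card_fin] at hrn
  have hset : {φ : Fin n → F | φ ⬝ᵥ x = 0 ∧ φ ⬝ᵥ y = 0} =
      ((LinearMap.ker M.mulVecLin : Submodule F (Fin n → F)) : Set (Fin n → F)) := by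
    ext φ
    simp only [Set.mem_ofPred_eq, SetLike.mem_coe, LinearMap.mem_ker, Matrix.mulVecLin_apply]
    have e0 : (M *ᵥ φ) 0 = φ ⬝ᵥ x := by
      change (M 0) ⬝ᵥ φ = φ ⬝ᵥ x
      rw [dotProduct_comm]
      rfl
    have e1 : (M *ᵥ φ) 1 = φ ⬝ᵥ y := by
      change (M 1) ⬝ᵥ φ = φ ⬝ᵥ y
      rw [dotProduct_comm]
      rfl
    constructor
    · rintro ⟨h1, h2⟩
      funext i
      fin_cases i
      · exact e0.trans h1
      · exact e1.trans h2
    · intro hz
      exact ⟨e0.symm.trans (congrFun hz 0), e1.symm.trans (congrFun hz 1)⟩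
  have hcard : {φ : Fin n → F | φ ⬝ᵥ x = 0 ∧ φ ⬝ᵥ y = 0}.ncard =
      q ^ Module.finrank F (LinearMap.ker M.mulVecLin) := by
    rw [hset, ← Nat.card_coe_set_eq]
    have := Module.natCard_eq_pow_finrank (K := F) (V := LinearMap.ker M.mulVecLin)
    rw [Nat.card_eq_fintype_card (α := F), hq] at this
    exact this
  rw [hcard, ← pow_add, hrn]

end CNT

end Cfsg.Agent.Helper2.SPE
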