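import Mathlib
import Cfsg.Agent.Lib.Helper98.SPE0
import Cfsg.Agent.Lib.Helper2.SPEFormAux

/-!
# SPE project (S2333), piece K6b.
-/

set_option autoImplicit false

namespace Cfsg.Agent.Helper2.SPE

open Matrix Cfsg.Agent.Helper93.U2 Cfsg.Agent.Helper98.SPE

section CNT

variable {F : Type*} [Field F] [Fintype F] {q : ℕ} (hq : Fintype.card F = q) {n : ℕ}

/-- piece K6b. -/
theorem linearIndependent_of_bv_ne_zero (h2 : (2 : F) = 0) (S : Matrix (Fin n) (Fin n) F)
    (x y : Fin n → F) (hb : bv S x y ≠ 0) : LinearIndependent F ![x, y] := by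
  rw [LinearIndependent.pair_iff]
  intro s t hst
  have e1 : bv S (s • x + t • y) y = s * bv S x y := by
    rw [h2_bv_add_left, h2_bv_smul_left, h2_bv_smul_left, h2_bv_self_char2 h2, mul_zero, add_zero]
  have e2 : bv S (s • x + t • y) x = t * bv S x y := by
    rw [h2_bv_add_left, h2_bv_smul_left, h2_bv_smul_left, h2_bv_self_char2 h2, mul_zero, zero_add,
      bv_symm S y x]
  rw [hst, h2_bv_zero_left] at e1 e2
  constructor
  · rcases mul_eq_zero.mp e1.symm with h | h
    · exact h
    · exact absurd h hb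
  · rcases mul_eq_zero.mp e2.symm with h | h
    · exact h
    · exact absurd h hb

end CNT

end Cfsg.Agent.Helper2.SPE
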