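import Mathlib
import Cfsg.Agent.Lib.Helper98.SPE0

/-!
# SPE project (S2333), piece K7: `GL_n` is transitive on ordered independent pairs.
-/

set_option autoImplicit false

namespace Cfsg.Agent.Helper2.SPE

open Matrix Cfsg.Agent.Helper93.U2 Cfsg.Agent.Helper98.SPE

section CNT

variable {F : Type*} [Field F] [Fintype F] {q : ℕ} (hq : Fintype.card F = q) {n : ℕ}

/-- a linear automorphism of `Fin n → F` as an element of `GL_n` -/
theorem k7_exists_gl_of_linearEquiv (g : (Fin n → F) ≃ₗ[F] (Fin n → F)) :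
    ∃ G : GL (Fin n) F, ∀ v : Fin n → F, (G : Matrix (Fin n) (Fin n) F) *ᵥ v = g v := by
  refine ⟨⟨LinearMap.toMatrix' g.toLinearMap, LinearMap.toMatrix' g.symm.toLinearMap, ?_, ?_⟩, ?_⟩
  · rw [← LinearMap.toMatrix'_comp]
    have : g.toLinearMap ∘ₗ g.symm.toLinearMap = LinearMap.id := by
      ext v : 1
      simp
    rw [this, LinearMap.toMatrix'_id]
  · rw [← LinearMap.toMatrix'_comp]
    have : g.symm.toLinearMap ∘ₗ g.toLinearMap = LinearMap.id := by
      ext v : 1
      simp
    rw [this, LinearMap.toMatrix'_id]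
  · intro v
    change (LinearMap.toMatrix' g.toLinearMap) *ᵥ v = g v
    rw [LinearMap.toMatrix'_mulVec]
    rfl

/-- piece K7. `GL_n` is transitive on ordered independent pairs. -/
theorem exists_gl_pair (x y x₀ y₀ : Fin n → F) (h : LinearIndependent F ![x, y])
    (h₀ : LinearIndependent F ![x₀, y₀]) :
    ∃ g : GL (Fin n) F, (g : Matrix (Fin n) (Fin n) F) *ᵥ x = x₀ ∧
      (g : Matrix (Fin n) (Fin n) F) *ᵥ y = y₀ := by
  classical
  let b := Module.Basis.span h
  let b₀ := Module.Basis.span h₀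
  let f : (Submodule.span F (Set.range ![x, y])) ≃ₗ[F] (Submodule.span F (Set.range ![x₀, y₀])) :=
    b.equiv b₀ (Equiv.refl _)
  obtain ⟨g, hg⟩ := Submodule.exists_linearEquiv_restrict_eq f
  obtain ⟨G, hG⟩ := k7_exists_gl_of_linearEquiv g
  have key : ∀ i : Fin 2, g (![x, y] i) = ![x₀, y₀] i := by
    intro i
    have h1 := hg (b i)
    have h2 : f (b i) = b₀ i := by
      change b.equiv b₀ (Equiv.refl _) (b i) = b₀ i
      rw [Module.Basis.equiv_apply]
      rfl
    rw [h2] at h1
    have h3 : ((b i : Submodule.span F (Set.range ![x, y])) : Fin n → F) = ![x, y] i :=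
      congrArg Subtype.val (Module.Basis.span_apply h i)
    have h4 : ((b₀ i : Submodule.span F (Set.range ![x₀, y₀])) : Fin n → F) = ![x₀, y₀] i :=
      congrArg Subtype.val (Module.Basis.span_apply h₀ i)
    rw [← h3, ← h4]
    exact h1.symm
  refine ⟨G, ?_, ?_⟩
  · rw [hG]
    exact key 0
  · rw [hG]
    exact key 1

end CNT

end Cfsg.Agent.Helper2.SPE
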