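import Mathlib
import Cfsg.Agent.Lib.Helper2.SR0

set_option autoImplicit false

namespace Cfsg.Agent.Helper2.SR

open Matrix Cfsg Cfsg.Agent.Helper13 Cfsg.Agent.Helper84.SpRoot Cfsg.Agent.Helper5.SpAut

section C
variable {F : Type*} [Field F] {m : ℕ}

/-- (C15), with (G2) as a hypothesis -/
theorem param_two_of [Fintype F] (hG2 : ∃ x : F, x ≠ 0 ∧ IsGen (x ^ 2))
    (hq : Fintype.card F ≠ 2) :
    ∃ s κ : F, s ≠ 0 ∧ κ ≠ 0 ∧ IsGen ((κ * s) ^ 2) ∧ ∃ b r : F, κ = s * b * (1 - b) - 2 * r := by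
  classical
  obtain ⟨x, hx, hgen⟩ := hG2
  by_cases h2 : (2 : F) = 0
  · -- characteristic 2
    have hb : ∃ b : F, b ≠ 0 ∧ b ≠ 1 := by
      by_contra hcon
      push Not at hcon
      have hsub : (Finset.univ : Finset F) ⊆ {0, 1} := by
        intro b _
        by_cases hb0 : b = 0
        · simp [hb0]
        · simp [hcon b hb0]
      have hle : Fintype.card F ≤ 2 := by
        calc Fintype.card F = (Finset.univ : Finset F).card := rfl
          _ ≤ ({0, 1} : Finset F).card := Finset.card_le_card hsub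
          _ ≤ 2 := Finset.card_le_two
      have hlt : 1 < Fintype.card F := Fintype.one_lt_card
      omega
    obtain ⟨b, hb0, hb1⟩ := hb
    have ht : b * (1 - b) ≠ 0 := mul_ne_zero hb0 (sub_ne_zero.mpr (Ne.symm hb1))
    have : CharP F 2 := CharTwo.of_one_ne_zero_of_two_eq_zero one_ne_zero h2
    have hrc : ringChar F = 2 := ringChar.eq F 2
    obtain ⟨s, hs⟩ := FiniteField.isSquare_of_char_two hrc (x / (b * (1 - b)))
    have hs0 : s ≠ 0 := by
      intro h0
      rw [h0, mul_zero] at hs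
      exact (div_ne_zero hx ht) hs
    have hκs : s * (b * (1 - b)) * s = x := by
      have : s * s * (b * (1 - b)) = x := by rw [← hs]; field_simp
      rw [← this]; ring
    refine ⟨s, s * (b * (1 - b)), hs0, mul_ne_zero hs0 ht, ?_, b, 0, by ring⟩
    rw [hκs]
    exact hgen
  · refine ⟨1, x, one_ne_zero, hx, ?_, 0, -x / 2, ?_⟩
    · rw [mul_one]; exact hgen
    · field_simp
      ring

end C

end Cfsg.Agent.Helper2.SR
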