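import Mathlib
import Cfsg.Agent.Lib.Helper2.SR0
import Cfsg.Agent.Lib.Helper85.SRK3
import Cfsg.Agent.Lib.Helper69.SRA5
import Cfsg.Agent.Lib.Helper42.SRK6
import Cfsg.Agent.Lib.Helper23.SRKTail
import Cfsg.Agent.Lib.Helper94.SRK9a

/-!
# SR project (S2281): the abstract criterion `core_top`, assembled from the delivered pieces
(K3 helper85, A5-A7 helper69, K6 K8 K9 helper42, K9a helper94, K10-K14 helper23; K4 K5 K7 here).
-/

set_option autoImplicit false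

namespace Cfsg.Agent.Helper2.SR

open Matrix Cfsg Cfsg.Agent.Helper13 Cfsg.Agent.Helper84.SpRoot Cfsg.Agent.Helper5.SpAut

section K
variable {F : Type*} [Field F] {n : ℕ}
  {H : Subgroup (Matrix.symplecticGroup (Fin n) F)} {u l : Matrix.symplecticGroup (Fin n) F}
  {e0 e1 p : Fin n ⊕ Fin n → F} {κ γ : F}

/-- (A2) -/
theorem orb_act {x : Fin n ⊕ Fin n → F} (hx : x ∈ Orb H e0)
    {h : Matrix.symplecticGroup (Fin n) F} (hh : h ∈ H) : h.val *ᵥ x ∈ Orb H e0 := by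
  obtain ⟨k, hk, hkx⟩ := hx
  exact ⟨h * k, H.mul_mem hh hk, by rw [mul_act, hkx]⟩

/-- (K4) -/
theorem lin_e1 (hyp : Hyp H u l e0 e1 p κ γ) : ∀ a : F, a • e1 ∈ QQ H e0 := by
  intro a
  have hpp := Cfsg.Agent.Helper85.SR.pingpong hyp
  obtain ⟨hK1a, -, -⟩ := Cfsg.Agent.Helper85.SR.h85_orb_basic hyp
  have hκ : κ ∈ MM H e0 := hyp.hκ
  have h := Cfsg.Agent.Helper69.SR.QQ_tv (hpp (-a / (κ * γ))) hK1a hyp.e1e0 hκ
  have hpe1 : Cfsg.sympForm n F p e1 = -γ := by rw [sympForm_swap, hyp.e1p]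
  rw [sympForm_smul_left, hpe1] at h
  have hκ0 : κ ≠ 0 := hyp.κ0
  have hγ0 : γ ≠ 0 := hyp.γ0
  have : κ * (-a / (κ * γ) * -γ) = a := by
    field_simp
  rwa [this] at h

/-- (K5) -/
theorem QQ_full (hyp : Hyp H u l e0 e1 p κ γ) :
    ∀ w : Fin n ⊕ Fin n → F, Cfsg.sympForm n F w e0 = 0 → w ∈ QQ H e0 := by
  have hpp := Cfsg.Agent.Helper85.SR.pingpong hyp
  let S' : Submodule F (Fin n ⊕ Fin n → F) :=
    { carrier := {w | ∀ a : F, a • w ∈ QQ H e0}
      add_mem' := by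
        intro x y hx hy a
        rw [smul_add]
        exact Cfsg.Agent.Helper69.SR.a5_add (hx a) (hy a)
      zero_mem' := by
        intro a
        rw [smul_zero]
        exact Cfsg.Agent.Helper69.SR.a5_zero
      smul_mem' := by
        intro c x hx a
        rw [smul_smul]
        exact hx (a * c) }
  have hpS : p ∈ S' := hpp
  have hst : ∀ x ∈ S', u.val *ᵥ x ∈ S' := by
    intro x hx a
    rw [← Matrix.mulVec_smul]
    exact Cfsg.Agent.Helper69.SR.QQ_stab (hx a) hyp.hu hyp.ue0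
  intro w hw
  have h1 : w ∈ S' := hyp.cyc S' hpS hst w hw
  have h2 := h1 1
  rwa [one_smul] at h2

/-- (K7) -/
theorem orb_smul_p (hyp : Hyp H u l e0 e1 p κ γ) : ∀ a : F, a ≠ 0 → a • p ∈ Orb H e0 := by
  intro a ha
  have hpp := Cfsg.Agent.Helper85.SR.pingpong hyp
  have h6 := Cfsg.Agent.Helper42.SR.orb_e1_add_of hyp hpp a
  have hlinv : l⁻¹ ∈ H := H.inv_mem hyp.hl
  have h1 : (l⁻¹).val *ᵥ e1 = e0 := by
    rw [← hyp.le0]; exact inv_mulVec_mulVec l e0
  have h2 : (l⁻¹).val *ᵥ e0 = p := by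
    have := inv_mulVec_mulVec l p
    rwa [hyp.lp] at this
  have h3 : e0 + a • p ∈ Orb H e0 := by
    have := orb_act h6 hlinv
    rwa [Matrix.mulVec_add, Matrix.mulVec_smul, h1, h2] at this
  obtain ⟨hw0, c, hc⟩ := lin_e1 hyp ((a * γ)⁻¹)
  have h4 := orb_act h3 hc
  rw [eich_act hw0] at h4
  have hpe1 : Cfsg.sympForm n F p e1 = -γ := by rw [sympForm_swap, hyp.e1p]
  have he0e1 : Cfsg.sympForm n F e0 e1 = 0 := by rw [sympForm_swap, hyp.e1e0, neg_zero]
  have hx0 : Cfsg.sympForm n F (e0 + a • p) e0 = 0 := by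
    rw [sympForm_add_left, sympForm_smul_left, sympForm_self, hyp.pe0, mul_zero, add_zero]
  have hx1 : Cfsg.sympForm n F (e0 + a • p) ((a * γ)⁻¹ • e1) = -1 := by
    rw [sympForm_smul_right, sympForm_add_left, sympForm_smul_left, he0e1, hpe1]
    have hγ0 : γ ≠ 0 := hyp.γ0
    rw [zero_add, mul_neg, _root_.mul_inv_rev]
    field_simp
  rw [hx0, hx1] at h4
  have : e0 + a • p + (0 : F) • (a * γ)⁻¹ • e1 + (-1 : F) • e0 + (c * 0) • e0 = a • p := by
    rw [zero_smul, mul_zero, zero_smul, neg_one_smul]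
    abel
  rwa [this] at h4

/-- (K14) the abstract criterion -/
theorem core_top [Finite F] (hyp : Hyp H u l e0 e1 p κ γ) : H = ⊤ := by
  have h7 := orb_smul_p hyp
  have h8 := Cfsg.Agent.Helper42.SR.MM_sq_of hyp h7
  have h9 := Cfsg.Agent.Helper42.SR.MM_top_of hyp h8
    (fun S hS => Cfsg.Agent.Helper94.SR.sq_span S hS)
  exact Cfsg.Agent.Helper23.SR.core_top_of_QQ_MM hyp (QQ_full hyp) h9

end K

end Cfsg.Agent.Helper2.SR
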