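import Mathlib
import Cfsg.Agent.Lib.Helper2.SR0
import Cfsg.Agent.Lib.Helper2.SRC0

set_option autoImplicit false

namespace Cfsg.Agent.Helper2.SR

open Matrix Cfsg Cfsg.Agent.Helper13 Cfsg.Agent.Helper84.SpRoot Cfsg.Agent.Helper5.SpAut

section G
variable {F : Type*} [Field F] {n : ℕ}

/-- (G1) two applications of `Cfsg.Agent.Helper13.transvGroup_pairs` (as in `exists_symp_fix_orth`) -/
theorem exists_frame4 {a b c d a' b' c' d' : Fin n ⊕ Fin n → F}
    (hab : Cfsg.sympForm n F a b = 1) (hcd : Cfsg.sympForm n F c d = 1)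
    (hac : Cfsg.sympForm n F a c = 0) (had : Cfsg.sympForm n F a d = 0)
    (hbc : Cfsg.sympForm n F b c = 0) (hbd : Cfsg.sympForm n F b d = 0)
    (hab' : Cfsg.sympForm n F a' b' = 1) (hcd' : Cfsg.sympForm n F c' d' = 1)
    (hac' : Cfsg.sympForm n F a' c' = 0) (had' : Cfsg.sympForm n F a' d' = 0)
    (hbc' : Cfsg.sympForm n F b' c' = 0) (hbd' : Cfsg.sympForm n F b' d' = 0) :
    ∃ h : Matrix.symplecticGroup (Fin n) F,
      h.val *ᵥ a = a' ∧ h.val *ᵥ b = b' ∧ h.val *ᵥ c = c' ∧ h.val *ᵥ d = d' := by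
  obtain ⟨A₁, -, hA₁a, hA₁b⟩ := transvGroup_pairs (⊤ : Submodule F (Fin n ⊕ Fin n → F))
    (Submodule.mem_top) (Submodule.mem_top) (Submodule.mem_top) (Submodule.mem_top) hab hab'
  have sw : ∀ x y : Fin n ⊕ Fin n → F, Cfsg.sympForm n F x y = 0 → Cfsg.sympForm n F y x = 0 := by
    intro x y h
    rw [sympForm_swap, h, neg_zero]
  have hc₁W : A₁.val *ᵥ c ∈ perp2 a' b' := by
    constructor
    · rw [← hA₁a, sympForm_mulVec A₁.2]; exact sw _ _ hac
    · rw [← hA₁b, sympForm_mulVec A₁.2]; exact sw _ _ hbc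
  have hd₁W : A₁.val *ᵥ d ∈ perp2 a' b' := by
    constructor
    · rw [← hA₁a, sympForm_mulVec A₁.2]; exact sw _ _ had
    · rw [← hA₁b, sympForm_mulVec A₁.2]; exact sw _ _ hbd
  have hc'W : c' ∈ perp2 a' b' := ⟨sw _ _ hac', sw _ _ hbc'⟩
  have hd'W : d' ∈ perp2 a' b' := ⟨sw _ _ had', sw _ _ hbd'⟩
  have h11 : Cfsg.sympForm n F (A₁.val *ᵥ c) (A₁.val *ᵥ d) = 1 := by
    rw [sympForm_mulVec A₁.2, hcd]
  obtain ⟨B, hB, hBc, hBd⟩ := transvGroup_pairs (perp2 a' b') hc₁W hd₁W hc'W hd'W h11 hcd'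
  have hBa : B.val *ᵥ a' = a' := by
    apply transvGroup_fix _ hB
    intro w hw
    exact sw _ _ hw.1
  have hBb : B.val *ᵥ b' = b' := by
    apply transvGroup_fix _ hB
    intro w hw
    exact sw _ _ hw.2
  refine ⟨B * A₁, ?_, ?_, ?_, ?_⟩
  · rw [Submonoid.coe_mul, ← Matrix.mulVec_mulVec, hA₁a, hBa]
  · rw [Submonoid.coe_mul, ← Matrix.mulVec_mulVec, hA₁b, hBb]
  · rw [Submonoid.coe_mul, ← Matrix.mulVec_mulVec, hBc]
  · rw [Submonoid.coe_mul, ← Matrix.mulVec_mulVec, hBd]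

end G

section C
variable {F : Type*} [Field F] {m : ℕ}

/-- (C9) uses G1 C0 -/
theorem exists_h : ∃ h : Matrix.symplecticGroup (Fin (m + 2)) F,
    h.val *ᵥ bf jA = be 0 ∧ h.val *ᵥ bf jB = be 0 - be 1 ∧
    h.val *ᵥ be jB = bf 1 ∧ h.val *ᵥ be jA = - bf 0 - bf 1 := by
  have hAB : (jA : Fin (m + 2)) ≠ jB := by
    intro h
    have := congrArg Fin.val h
    simp [jA, jB] at this
  have h10 : (1 : Fin (m + 2)) ≠ 0 := by
    intro h
    have := congrArg Fin.val h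
    simp at this
  obtain ⟨h, h1, h2, h3, h4⟩ := exists_frame4 (F := F) (n := m + 2)
    (a := bf jA) (b := be jA) (c := bf jB) (d := be jB)
    (a' := be 0) (b' := - bf 0 - bf 1) (c' := be 0 - be 1) (d' := bf 1)
    (by rw [(form_basis _ _).1]; simp [bf])
    (by rw [(form_basis _ _).1]; simp [bf])
    (by rw [(form_basis _ _).2.1]; simp [bf])
    (by rw [(form_basis _ _).1]; simp [bf, hAB.symm])
    (by rw [(form_basis _ _).2.1]; simp [be, hAB.symm])
    (by rw [(form_basis _ _).1]; simp [be])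
    (by rw [(form_basis _ _).2.2.1]; simp [bf])
    (by rw [(form_basis _ _).2.1]; simp [be])
    (by rw [(form_basis _ _).2.2.1]; simp [be])
    (by rw [(form_basis _ _).2.2.1]; simp [bf])
    (by rw [sympForm_sub_right, (form_basis _ _).1, (form_basis _ _).1]; simp [bf, h10])
    (by rw [(form_basis _ _).2.1]; simp [bf])
  exact ⟨h, h1, h3, h4, h2⟩

end C

end Cfsg.Agent.Helper2.SR
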