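import Mathlib
import Cfsg.Agent.Lib.Helper2.SR0
import Cfsg.Agent.Lib.Helper2.SRC0
import Cfsg.Agent.Lib.Helper2.SRC15
import Cfsg.Agent.Lib.Helper2.SRG1
import Cfsg.Agent.Lib.Helper2.SRCore
import Cfsg.Agent.Lib.Helper87.SRG2
import Cfsg.Agent.Lib.Helper79.SRC4
import Cfsg.Agent.Lib.Helper79.SRC5
import Cfsg.Agent.Lib.Helper10.SRC8
import Cfsg.Agent.Lib.Helper42.SRC10
import Cfsg.Agent.Lib.Helper67.SRC13
import Cfsg.Agent.Lib.Helper53.SRC14

/-!
# SR project (S2281): final assembly.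
`Sp_2n(F)`, `n = m + 2`, is generated by three conjugate regular unipotent elements.
-/

set_option autoImplicit false

namespace Cfsg.Agent.Helper2.SR

open Matrix Cfsg Cfsg.Agent.Helper13 Cfsg.Agent.Helper84.SpRoot Cfsg.Agent.Helper5.SpAut

variable {F : Type*} [Field F] [Fintype F]

/-- choice of the parameters and of the first conjugating element -/
theorem exists_params (m : ℕ) (h22 : ¬ (m = 0 ∧ Fintype.card F = 2)) :
    ∃ s κ : F, s ≠ 0 ∧ κ ≠ 0 ∧ IsGen ((κ * s) ^ 2) ∧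
      ∃ g : Matrix.symplecticGroup (Fin (m + 2)) F,
        g * uEl s * g⁻¹ = sympT (be 0) κ * uEl s := by
  rcases Nat.eq_zero_or_pos m with hm | hm
  · subst hm
    have hq : Fintype.card F ≠ 2 := fun h => h22 ⟨rfl, h⟩
    obtain ⟨s, κ, hs, hκ, hgen, b, r, hbr⟩ :=
      param_two_of (F := F) (Cfsg.Agent.Helper87.SR.exists_generator (F := F)) hq
    obtain ⟨g, hg⟩ := Cfsg.Agent.Helper53.SR.exists_g_two (F := F) s b r
    exact ⟨s, κ, hs, hκ, hgen, g, by rw [hbr]; exact hg⟩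
  · obtain ⟨x, hx, hgen⟩ := Cfsg.Agent.Helper87.SR.exists_generator (F := F)
    obtain ⟨g, hg⟩ := Cfsg.Agent.Helper67.SR.exists_g_ge3 (F := F) (m := m) hm 1 x
    exact ⟨1, x, one_ne_zero, hx, by rw [mul_one]; exact hgen, g, hg⟩

theorem main (m : ℕ) (h22 : ¬ (m = 0 ∧ Fintype.card F = 2)) :
    ∃ u g h : Matrix.symplecticGroup (Fin (m + 2)) F,
      IsNilpotent ((u : Matrix (Fin (m + 2) ⊕ Fin (m + 2)) (Fin (m + 2) ⊕ Fin (m + 2)) F) - 1) ∧
      ((u : Matrix (Fin (m + 2) ⊕ Fin (m + 2)) (Fin (m + 2) ⊕ Fin (m + 2)) F) - 1)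
        ^ (2 * (m + 2) - 1) ≠ 0 ∧
      Subgroup.closure ({u, g * u * g⁻¹, h * u * h⁻¹} :
        Set (Matrix.symplecticGroup (Fin (m + 2)) F)) = ⊤ := by
  obtain ⟨s, κ, hs, hκ, hgen, g, hg⟩ := exists_params (F := F) m h22
  obtain ⟨h, h1, h2, h3, h4⟩ := exists_h (F := F) (m := m)
  obtain ⟨hl0, hlp, hl1⟩ := Cfsg.Agent.Helper42.SR.l_values_of s
    (Cfsg.Agent.Helper79.SR.u_bf (F := F) (m := m) s) h h1 h2 h3 h4
  obtain ⟨hf1, hf2, hf3, hf4⟩ := forms (F := F) (m := m) s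
  obtain ⟨hu0, hu1⟩ := Cfsg.Agent.Helper79.SR.u_be (F := F) (m := m) s
  obtain ⟨hnil, hreg⟩ := Cfsg.Agent.Helper10.SR.regular (F := F) (m := m) hs
  refine ⟨uEl s, g, h, hnil, hreg, ?_⟩
  set H := Subgroup.closure ({uEl s, g * uEl s * g⁻¹, h * uEl s * h⁻¹} :
    Set (Matrix.symplecticGroup (Fin (m + 2)) F)) with hH
  have huH : uEl s ∈ H := Subgroup.subset_closure (by simp)
  have hgH : g * uEl s * g⁻¹ ∈ H := Subgroup.subset_closure (by simp)
  have hlH : h * uEl s * h⁻¹ ∈ H := Subgroup.subset_closure (by simp)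
  have hκH : sympT (be 0) κ ∈ H := by
    have : sympT (be 0) κ = (g * uEl s * g⁻¹) * (uEl s)⁻¹ := by
      rw [hg, mul_assoc, mul_inv_cancel, mul_one]
    rw [this]
    exact H.mul_mem hgH (H.inv_mem huH)
  have hyp : Hyp H (uEl s) (h * uEl s * h⁻¹) (be 0) (be 1) (pV s) κ s :=
    { hu := huH
      hl := hlH
      hκ := hκH
      κ0 := hκ
      ue0 := hu0
      ue1 := hu1
      le0 := hl0
      lp := hlp
      e1e0 := hf1
      pe0 := hf2
      e1p := hf3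
      γ0 := hs
      gen := hgen
      cyc := Cfsg.Agent.Helper10.SR.cyclic hs
      out := by rw [hl1, hf4]; exact hs }
  exact core_top hyp

end Cfsg.Agent.Helper2.SR
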