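import Mathlib
import Cfsg.Agent.Lib.Helper2.SS0
import Cfsg.Agent.Lib.Helper2.SRCore

/-!
# SS project (S2411): the second abstract criterion `core2_top : Hyp2 .. → H = ⊤`
(port of the `SR` core: the unipotent `u` is replaced by a seed in `QQ` and a closure property).
-/

set_option autoImplicit false
set_option linter.unusedSectionVars false

namespace Cfsg.Agent.Helper2.SS

open Matrix Cfsg Cfsg.Agent.Helper13 Cfsg.Agent.Helper84.SpRoot Cfsg.Agent.Helper5.SpAut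
open Cfsg.Agent.Helper2.SR

section K
variable {F : Type*} [Field F] {n : ℕ}
  {H : Subgroup (Matrix.symplecticGroup (Fin n) F)} {l : Matrix.symplecticGroup (Fin n) F}
  {e0 e1 p : Fin n ⊕ Fin n → F} {κ γ : F}

theorem tv_of_orb2 {x : Fin n ⊕ Fin n → F} (hx : x ∈ Orb H e0) {c : F} (hc : c ∈ MM H e0) :
    sympT x c ∈ H := by
  obtain ⟨h, hh, rfl⟩ := hx
  rw [← conj_sympT]
  exact H.mul_mem (H.mul_mem hh hc) (H.inv_mem hh)

theorem orb_basic2 (hyp : Hyp2 H l e0 e1 p κ γ) : e1 ∈ Orb H e0 ∧ p ∈ Orb H e0 := by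
  refine ⟨⟨l, hyp.hl, hyp.le0⟩, ⟨l⁻¹, H.inv_mem hyp.hl, ?_⟩⟩
  rw [← hyp.lp, inv_mulVec_mulVec]

theorem out2 (hyp : Hyp2 H l e0 e1 p κ γ) : Cfsg.sympForm n F (l.val *ᵥ e1) e0 ≠ 0 := by
  have h := sympForm_mulVec l.2 e1 p
  rw [hyp.lp, hyp.e1p] at h
  rw [h]
  exact hyp.γ0

/-- (K3') ping-pong -/
theorem pingpong2 (hyp : Hyp2 H l e0 e1 p κ γ) : ∀ a : F, a • p ∈ QQ H e0 := by
  obtain ⟨Q, hQ⟩ := Cfsg.Agent.Helper69.SR.QQ_addsub (H := H) (e0 := e0)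
  have hQmem : ∀ w, w ∈ Q ↔ w ∈ QQ H e0 := fun w => by rw [← hQ]; rfl
  have hκM : κ ∈ MM H e0 := hyp.hκ
  obtain ⟨hK1, hK3⟩ := orb_basic2 hyp
  have hpe1 : Cfsg.sympForm n F p e1 = -γ := by
    rw [sympForm_swap, hyp.e1p]
  let S : AddSubgroup F :=
    { carrier := {a | a • p ∈ Q}
      zero_mem' := by
        show (0 : F) • p ∈ Q
        rw [zero_smul]; exact Q.zero_mem
      add_mem' := by
        intro a b ha hb
        show (a + b) • p ∈ Q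
        rw [add_smul]; exact Q.add_mem ha hb
      neg_mem' := by
        intro a ha
        show (-a) • p ∈ Q
        rw [neg_smul]; exact Q.neg_mem ha }
  have hSmem : ∀ a, a ∈ S ↔ a • p ∈ QQ H e0 := fun a => (hQmem (a • p))
  have hstab : ∀ a ∈ S, (κ * γ) ^ 2 * a ∈ S := by
    intro a ha
    rw [hSmem] at ha
    have h1 := Cfsg.Agent.Helper69.SR.QQ_tv ha hK1 hyp.e1e0 hκM
    rw [sympForm_smul_left, hpe1] at h1
    have h2 := Cfsg.Agent.Helper69.SR.QQ_tv h1 hK3 hyp.pe0 hκM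
    rw [sympForm_smul_left, hyp.e1p] at h2
    have h3 : (κ * (κ * (a * -γ) * γ)) ∈ S := (hSmem _).2 h2
    have h4 := S.neg_mem h3
    have e : -(κ * (κ * (a * -γ) * γ)) = (κ * γ) ^ 2 * a := by ring
    rwa [e] at h4
  have hne : ∃ a ∈ S, a ≠ 0 := by
    obtain ⟨w0, hw0, h | h⟩ := hyp.seed
    · have h1 := Cfsg.Agent.Helper69.SR.QQ_tv hw0 hK1 hyp.e1e0 hκM
      have h2 := Cfsg.Agent.Helper69.SR.QQ_tv h1 hK3 hyp.pe0 hκM
      rw [sympForm_smul_left, hyp.e1p] at h2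
      exact ⟨_, (hSmem _).2 h2,
        mul_ne_zero hyp.κ0 (mul_ne_zero (mul_ne_zero hyp.κ0 h) hyp.γ0)⟩
    · have h2 := Cfsg.Agent.Helper69.SR.QQ_tv hw0 hK3 hyp.pe0 hκM
      exact ⟨_, (hSmem _).2 h2, mul_ne_zero hyp.κ0 h⟩
  have htop : S = ⊤ := hyp.gen S hne hstab
  intro a
  rw [← hSmem, htop]
  exact AddSubgroup.mem_top a

/-- (K4') -/
theorem lin_e1_2 (hyp : Hyp2 H l e0 e1 p κ γ) : ∀ a : F, a • e1 ∈ QQ H e0 := by
  intro a
  have hpp := pingpong2 hyp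
  obtain ⟨hK1a, -⟩ := orb_basic2 hyp
  have hκ : κ ∈ MM H e0 := hyp.hκ
  have h := Cfsg.Agent.Helper69.SR.QQ_tv (hpp (-a / (κ * γ))) hK1a hyp.e1e0 hκ
  have hpe1 : Cfsg.sympForm n F p e1 = -γ := by rw [sympForm_swap, hyp.e1p]
  rw [sympForm_smul_left, hpe1] at h
  have hκ0 : κ ≠ 0 := hyp.κ0
  have hγ0 : γ ≠ 0 := hyp.γ0
  have : κ * (-a / (κ * γ) * -γ) = a := by
    field_simp
  rwa [this] at h

/-- (K6') -/
theorem orb_e1_add2 (hyp : Hyp2 H l e0 e1 p κ γ) : ∀ a : F, e1 + a • e0 ∈ Orb H e0 := by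
  intro a
  obtain ⟨hw0, c, hc⟩ := pingpong2 hyp (a / γ)
  refine ⟨eich e0 ((a / γ) • p) c * l, H.mul_mem hc hyp.hl, ?_⟩
  rw [mul_act, hyp.le0, eich_act hw0, hyp.e1e0, sympForm_smul_right, hyp.e1p,
    div_mul_cancel₀ a hyp.γ0]
  simp

/-- (K7') -/
theorem orb_smul_p2 (hyp : Hyp2 H l e0 e1 p κ γ) : ∀ a : F, a ≠ 0 → a • p ∈ Orb H e0 := by
  intro a ha
  have h6 := orb_e1_add2 hyp a
  have hlinv : l⁻¹ ∈ H := H.inv_mem hyp.hl
  have h1 : (l⁻¹).val *ᵥ e1 = e0 := by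
    rw [← hyp.le0]; exact inv_mulVec_mulVec l e0
  have h2 : (l⁻¹).val *ᵥ e0 = p := by
    have := inv_mulVec_mulVec l p
    rwa [hyp.lp] at this
  have h3 : e0 + a • p ∈ Orb H e0 := by
    have := orb_act h6 hlinv
    rwa [Matrix.mulVec_add, Matrix.mulVec_smul, h1, h2] at this
  obtain ⟨hw0, c, hc⟩ := lin_e1_2 hyp ((a * γ)⁻¹)
  have h4 := orb_act h3 hc
  rw [eich_act hw0] at h4
  have hpe1 : Cfsg.sympForm n F p e1 = -γ := by rw [sympForm_swap, hyp.e1p]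
  have he0e1 : Cfsg.sympForm n F e0 e1 = 0 := by rw [sympForm_swap, hyp.e1e0, neg_zero]
  have hx0 : Cfsg.sympForm n F (e0 + a • p) e0 = 0 := by
    rw [sympForm_add_left, sympForm_smul_left, sympForm_self, hyp.pe0, mul_zero, add_zero]
  have hx1 : Cfsg.sympForm n F (e0 + a • p) ((a * γ)⁻¹ • e1) = -1 := by
    rw [sympForm_smul_right, sympForm_add_left, sympForm_smul_left, he0e1, hpe1]
    have hγ0 : γ ≠ 0 := hyp.γ0
    rw [zero_add, mul_neg, _root_.mul_inv_rev]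
    field_simp
  rw [hx0, hx1] at h4
  have : e0 + a • p + (0 : F) • (a * γ)⁻¹ • e1 + (-1 : F) • e0 + (c * 0) • e0 = a • p := by
    rw [zero_smul, mul_zero, zero_smul, neg_one_smul]
    abel
  rwa [this] at h4

/-- (K8') -/
theorem MM_sq2 (hyp : Hyp2 H l e0 e1 p κ γ) : ∀ a : F, κ * a ^ 2 ∈ MM H e0 := by
  intro a
  by_cases ha : a = 0
  · subst ha
    change sympT e0 (κ * 0 ^ 2) ∈ H
    rw [show κ * (0 : F) ^ 2 = 0 by ring, sympT_zero]
    exact H.one_mem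
  · have h1 : sympT (a • p) κ ∈ H := tv_of_orb2 (orb_smul_p2 hyp a ha) hyp.hκ
    rw [sympT_smul] at h1
    have h2 : l * sympT p (κ * a ^ 2) * l⁻¹ ∈ H :=
      H.mul_mem (H.mul_mem hyp.hl h1) (H.inv_mem hyp.hl)
    rw [conj_sympT, hyp.lp] at h2
    exact h2

/-- (K9') -/
theorem MM_top2 [Finite F] (hyp : Hyp2 H l e0 e1 p κ γ) : ∀ c : F, c ∈ MM H e0 := by
  have h8 := MM_sq2 hyp
  let S : AddSubgroup F :=
    { carrier := {x | κ * x ∈ MM H e0}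
      zero_mem' := by
        change sympT e0 (κ * 0) ∈ H
        rw [mul_zero, sympT_zero]
        exact H.one_mem
      add_mem' := by
        intro x y hx hy
        change sympT e0 (κ * (x + y)) ∈ H
        rw [mul_add, ← sympT_mul]
        exact H.mul_mem hx hy
      neg_mem' := by
        intro x hx
        change sympT e0 (κ * (-x)) ∈ H
        rw [mul_neg, ← sympT_inv]
        exact H.inv_mem hx }
  have hS : S = ⊤ := Cfsg.Agent.Helper94.SR.sq_span S (fun a => h8 a)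
  intro c
  have hc : c / κ ∈ S := by rw [hS]; exact AddSubgroup.mem_top _
  have hc' : κ * (c / κ) ∈ MM H e0 := hc
  rwa [mul_div_cancel₀ c hyp.κ0] at hc'

/-- (K5') all of `Q` modulo its centre -/
theorem QQ_full2 [Finite F] (hyp : Hyp2 H l e0 e1 p κ γ) :
    ∀ w : Fin n ⊕ Fin n → F, Cfsg.sympForm n F w e0 = 0 → w ∈ QQ H e0 := by
  have hpp := pingpong2 hyp
  have hMM := MM_top2 hyp
  let S' : Submodule F (Fin n ⊕ Fin n → F) :=
    { carrier := {w | ∀ a : F, a • w ∈ QQ H e0}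
      add_mem' := by
        intro x y hx hy a
        rw [smul_add]
        exact Cfsg.Agent.Helper69.SR.a5_add (hx a) (hy a)
      zero_mem' := by
        intro a
        rw [smul_zero]
        exact Cfsg.Agent.Helper69.SR.a5_zero
      smul_mem' := by
        intro c x hx a
        rw [smul_smul]
        exact hx (a * c) }
  have hpS : p ∈ S' := hpp
  have hcl : ∀ v ∈ Orb H e0, Cfsg.sympForm n F v e0 = 0 →
      (∃ w ∈ S', Cfsg.sympForm n F w v ≠ 0) → v ∈ S' := by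
    rintro v hv hv0 ⟨w, hw, hwv⟩ a
    have h := Cfsg.Agent.Helper69.SR.QQ_tv (hw 1) hv hv0 (hMM (a / Cfsg.sympForm n F w v))
    rw [one_smul] at h
    rwa [div_mul_cancel₀ a hwv] at h
  intro w hw
  have h1 : w ∈ S' := hyp.cyc S' hpS hcl w hw
  have h2 := h1 1
  rwa [one_smul] at h2

/-- (K11') -/
theorem orb_out2 (hyp : Hyp2 H l e0 e1 p κ γ)
    (hQ : ∀ (w : Fin n ⊕ Fin n → F) (c : F), Cfsg.sympForm n F w e0 = 0 → eich e0 w c ∈ H) :
    ∀ v : Fin n ⊕ Fin n → F, Cfsg.sympForm n F v e0 ≠ 0 →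
      ∃ t : F, t ≠ 0 ∧ t • v ∈ Orb H e0 := by
  intro v hv
  have hα0 : Cfsg.sympForm n F (l.val *ᵥ e1) e0 ≠ 0 := out2 hyp
  obtain ⟨α, hα⟩ : ∃ α, α = Cfsg.sympForm n F (l.val *ᵥ e1) e0 := ⟨_, rfl⟩
  obtain ⟨β, hβ⟩ : ∃ β, β = Cfsg.sympForm n F v e0 := ⟨_, rfl⟩
  rw [← hα] at hα0
  rw [← hβ] at hv
  refine ⟨α / β, div_ne_zero hα0 hv, ?_⟩
  obtain ⟨w0, hw0⟩ : ∃ w0, w0 = l.val *ᵥ e1 := ⟨_, rfl⟩
  rw [← hw0] at hα
  have hx' : Cfsg.sympForm n F ((α / β) • v) e0 = α := by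
    rw [sympForm_smul_left, ← hβ]
    field_simp
  have hd : Cfsg.sympForm n F ((α / β) • v - w0) e0 = 0 := by
    rw [sympForm_sub_left, hx', ← hα, sub_self]
  have hw : Cfsg.sympForm n F (α⁻¹ • ((α / β) • v - w0)) e0 = 0 := by
    rw [sympForm_smul_left, hd, mul_zero]
  have hmem := hQ (α⁻¹ • ((α / β) • v - w0))
    (-(Cfsg.sympForm n F w0 (α⁻¹ • ((α / β) • v - w0))) / α) hw
  refine ⟨eich e0 (α⁻¹ • ((α / β) • v - w0))
      (-(Cfsg.sympForm n F w0 (α⁻¹ • ((α / β) • v - w0))) / α) * l * l,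
    H.mul_mem (H.mul_mem hmem hyp.hl) hyp.hl, ?_⟩
  rw [mul_act, mul_act, hyp.le0, ← hw0, eich_act hw, ← hα, smul_smul, mul_inv_cancel₀ hα0,
    one_smul, div_mul_cancel₀ _ hα0]
  module

/-- (K12') -/
theorem WW_out2 (hyp : Hyp2 H l e0 e1 p κ γ) (hMM : ∀ c : F, c ∈ MM H e0)
    (hQ : ∀ (w : Fin n ⊕ Fin n → F) (c : F), Cfsg.sympForm n F w e0 = 0 → eich e0 w c ∈ H) :
    ∀ v : Fin n ⊕ Fin n → F, Cfsg.sympForm n F v e0 ≠ 0 → v ∈ WW H := by
  intro v hv c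
  obtain ⟨t, ht, h, hh, hhe⟩ := orb_out2 hyp hQ v hv
  have key : ∀ c' : F, sympT (t • v) c' ∈ H := by
    intro c'
    rw [← hhe, ← conj_sympT]
    exact H.mul_mem (H.mul_mem hh (hMM c')) (H.inv_mem hh)
  have h2 := key (c / t ^ 2)
  rw [sympT_smul] at h2
  have h3 : c / t ^ 2 * t ^ 2 = c := by
    field_simp
  rw [h3] at h2
  exact h2

/-- (K13') -/
theorem WW_all2 (hyp : Hyp2 H l e0 e1 p κ γ) (hMM : ∀ c : F, c ∈ MM H e0)
    (hQ : ∀ (w : Fin n ⊕ Fin n → F) (c : F), Cfsg.sympForm n F w e0 = 0 → eich e0 w c ∈ H) :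
    ∀ v : Fin n ⊕ Fin n → F, v ≠ 0 → v ∈ WW H := by
  intro v hv0
  by_cases hv : Cfsg.sympForm n F v e0 ≠ 0
  · exact WW_out2 hyp hMM hQ v hv
  rw [not_not] at hv
  have he0 : e0 ≠ 0 := ne_zero_right (out2 hyp)
  obtain ⟨y1, hy1⟩ := exists_partner he0
  obtain ⟨y2, hy2⟩ := exists_partner hv0
  have hex : ∃ y, Cfsg.sympForm n F y e0 ≠ 0 ∧ Cfsg.sympForm n F y v ≠ 0 := by
    have h1 : Cfsg.sympForm n F y1 e0 = -1 := by rw [sympForm_swap, hy1]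
    have h2 : Cfsg.sympForm n F y2 v = -1 := by rw [sympForm_swap, hy2]
    have hm1 : (-1 : F) ≠ 0 := neg_ne_zero.2 one_ne_zero
    by_cases a : Cfsg.sympForm n F y1 v = 0
    · by_cases b : Cfsg.sympForm n F y2 e0 = 0
      · refine ⟨y1 + y2, ?_, ?_⟩
        · rw [sympForm_add_left, h1, b, add_zero]; exact hm1
        · rw [sympForm_add_left, a, h2, zero_add]; exact hm1
      · exact ⟨y2, b, by rw [h2]; exact hm1⟩
    · exact ⟨y1, by rw [h1]; exact hm1, a⟩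
  obtain ⟨y, hye, hyv⟩ := hex
  have hyW : y ∈ WW H := WW_out2 hyp hMM hQ y hye
  have hvy : Cfsg.sympForm n F (v - y) e0 ≠ 0 := by
    rw [sympForm_sub_left, hv, zero_sub]
    exact neg_ne_zero.2 hye
  have hvyW : v - y ∈ WW H := WW_out2 hyp hMM hQ (v - y) hvy
  have hvy' : Cfsg.sympForm n F v y ≠ 0 := by
    rw [sympForm_swap]
    exact neg_ne_zero.2 hyv
  intro c
  have hact : (sympT y (Cfsg.sympForm n F v y)⁻¹).val *ᵥ (v - y) = v := by
    rw [sympT_act, sympForm_sub_left, sympForm_self, sub_zero, inv_mul_cancel₀ hvy', one_smul]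
    abel
  rw [← hact, ← conj_sympT]
  exact H.mul_mem (H.mul_mem (hyW _) (hvyW c)) (H.inv_mem (hyW _))

/-- the second abstract criterion -/
theorem core2_top [Finite F] (hyp : Hyp2 H l e0 e1 p κ γ) : H = ⊤ := by
  have hMM := MM_top2 hyp
  have hQ := Cfsg.Agent.Helper23.SR.Q_le_of (QQ_full2 hyp) hMM
  rw [eq_top_iff, ← Cfsg.Agent.S0765.result n, Subgroup.closure_le]
  rintro A ⟨w, c, hA⟩
  have hAe : A = sympT w c := Subtype.ext hA
  rw [hAe]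
  by_cases hw : w = 0
  · rw [hw, sympT_zero_vec]
    exact H.one_mem
  · exact WW_all2 hyp hMM hQ w hw c

end K

end Cfsg.Agent.Helper2.SS
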