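import Mathlib
import Cfsg.Agent.Lib.Helper2.SS0
import Cfsg.Agent.Lib.Helper2.SSCore
import Cfsg.Agent.Lib.Helper87.SRG2
import Cfsg.Agent.Lib.Helper41.SSY3
import Cfsg.Agent.Lib.Helper58.SSG2
import Cfsg.Agent.Lib.Helper25.SSY5a
import Cfsg.Agent.Lib.Helper25.SSY5b
import Cfsg.Agent.Lib.Helper53.SSY7a
import Cfsg.Agent.Lib.Helper77.SSY7bc
import Cfsg.Agent.Lib.Helper25.SSY8a
import Cfsg.Agent.Lib.Helper25.SSY8b
import Cfsg.Agent.Lib.Helper77.SSY11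
import Cfsg.Agent.Lib.Helper23.SSY12a
import Cfsg.Agent.Lib.Helper88.SSY12b

/-!
# SS project (S2411): final assembly.  `Sp_2n(F)`, `n = m + 2`, is generated by two elements.
-/

set_option autoImplicit false

namespace Cfsg.Agent.Helper2.SS

open Matrix Cfsg Cfsg.Agent.Helper13 Cfsg.Agent.Helper84.SpRoot Cfsg.Agent.Helper5.SpAut
open Cfsg.Agent.Helper2.SR

variable {F : Type*} [Field F] [Fintype F]

/-- the common part of the four cases -/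
theorem asm_common {m : ℕ} {α β ξ γ : F} {r : ℕ} {p : Fin (m + 2) ⊕ Fin (m + 2) → F}
    (hyr : yEl (m := m) α β ξ ^ r = 1) (hr : (r : F) ≠ 0)
    (hlp : (lEl (m := m) α β ξ).val *ᵥ p = be 0)
    (hf1 : Cfsg.sympForm (m + 2) F (be 1) (be 0) = 0)
    (hf2 : Cfsg.sympForm (m + 2) F p (be 0) = 0)
    (hf3 : Cfsg.sympForm (m + 2) F (be 1) p = γ)
    (hγ : γ ≠ 0) (hgen : IsGen (((r : F) * γ) ^ 2))
    (hseed : ∀ H : Subgroup (Matrix.symplecticGroup (Fin (m + 2)) F), cEl m F ∈ H →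
      yEl α β ξ ∈ H → sympT (be (m := m) 0) (r : F) ∈ H →
      ∃ w0 ∈ QQ H (be 0), Cfsg.sympForm (m + 2) F w0 (be 1) ≠ 0 ∨
        Cfsg.sympForm (m + 2) F w0 p ≠ 0)
    (hcyc : ∀ H : Subgroup (Matrix.symplecticGroup (Fin (m + 2)) F), cEl m F ∈ H →
      yEl α β ξ ∈ H →
      ∀ S : Submodule F (Fin (m + 2) ⊕ Fin (m + 2) → F), p ∈ S →
        (∀ v ∈ Orb H (be 0), Cfsg.sympForm (m + 2) F v (be 0) = 0 →
          (∃ w ∈ S, Cfsg.sympForm (m + 2) F w v ≠ 0) → v ∈ S) →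
        ∀ x, Cfsg.sympForm (m + 2) F x (be 0) = 0 → x ∈ S) :
    Subgroup.closure ({cEl m F, bEl α β ξ} :
      Set (Matrix.symplecticGroup (Fin (m + 2)) F)) = ⊤ := by
  set H := Subgroup.closure ({cEl m F, bEl α β ξ} :
    Set (Matrix.symplecticGroup (Fin (m + 2)) F)) with hH
  have hcH : cEl m F ∈ H := Subgroup.subset_closure (by simp)
  have hbH : bEl α β ξ ∈ H := Subgroup.subset_closure (by simp)
  obtain ⟨hy0, hy1, hcomm⟩ := Cfsg.Agent.Helper41.SS.y_act (m := m) α β ξ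
  obtain ⟨hκH, hyH⟩ := Cfsg.Agent.Helper58.SS.split_gen (H := H) (e0 := be (m := m) 0) hcomm hyr hr hbH
  have hlH : lEl α β ξ ∈ H := H.mul_mem hcH hyH
  have hyp : Hyp2 H (lEl α β ξ) (be 0) (be 1) p (r : F) γ :=
    { hl := hlH
      hκ := hκH
      κ0 := hr
      le0 := Cfsg.Agent.Helper53.SS.l_e0 α β ξ
      lp := hlp
      e1e0 := hf1
      pe0 := hf2
      e1p := hf3
      γ0 := hγ
      gen := hgen
      seed := hseed H hcH hyH hκH
      cyc := hcyc H hcH hyH }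
  exact core2_top hyp

omit [Fintype F] in
theorem three_eq_one (h2 : (2 : F) = 0) : ((3 : ℕ) : F) = 1 := by
  have : ((3 : ℕ) : F) = 2 + 1 := by norm_num
  rw [this, h2, zero_add]

/-- characteristic 2 -/
theorem main_char_two (m : ℕ) (h2 : (2 : F) = 0) :
    ∃ a b : Matrix.symplecticGroup (Fin (m + 2)) F,
      Subgroup.closure ({a, b} : Set (Matrix.symplecticGroup (Fin (m + 2)) F)) = ⊤ := by
  obtain ⟨x, hx, hgen⟩ := Cfsg.Agent.Helper87.SR.exists_generator (F := F)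
  have h31 := three_eq_one h2
  have hr : ((3 : ℕ) : F) ≠ 0 := by rw [h31]; exact one_ne_zero
  have hgen' : IsGen ((((3 : ℕ) : F) * (-x)) ^ 2) := by
    have : (((3 : ℕ) : F) * (-x)) ^ 2 = x ^ 2 := by rw [h31]; ring
    rw [this]; exact hgen
  have hseed : ∀ (p : Fin (m + 2) ⊕ Fin (m + 2) → F)
      (H : Subgroup (Matrix.symplecticGroup (Fin (m + 2)) F)), cEl m F ∈ H →
      yEl 1 1 x ∈ H → sympT (be (m := m) 0) ((3 : ℕ) : F) ∈ H →
      ∃ w0 ∈ QQ H (be 0), Cfsg.sympForm (m + 2) F w0 (be 1) ≠ 0 ∨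
        Cfsg.sympForm (m + 2) F w0 p ≠ 0 := by
    intro p H hc hy hκ
    rw [h31] at hκ
    obtain ⟨w0, hw0, h⟩ := Cfsg.Agent.Helper88.SS.seed_char_two h2 hc hy hκ
    exact ⟨w0, hw0, Or.inl h⟩
  refine ⟨cEl m F, bEl 1 1 x, ?_⟩
  rcases Nat.eq_zero_or_pos m with hm | hm
  · subst hm
    obtain ⟨hf1, hf2, hf3⟩ := Cfsg.Agent.Helper25.SS.forms_two (F := F) 1 1 x
    have hγe : (1 : F) - 1 * (x + 1) = -x := by ring
    rw [hγe] at hf3
    exact asm_common (γ := -x) (p := pTwo 1 1 x) (Cfsg.Agent.Helper25.SS.y_pow_three h2 x) hr (Cfsg.Agent.Helper77.SS.l_pTwo 1 1 x) hf1 hf2 hf3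
      (neg_ne_zero.2 hx) hgen' (hseed _)
      (fun H hc hy => Cfsg.Agent.Helper77.SS.cyc_two (by simp) one_ne_zero (by rw [hγe]; exact neg_ne_zero.2 hx) hc hy)
  · obtain ⟨hf1, hf2, hf3⟩ := Cfsg.Agent.Helper25.SS.forms_ge (F := F) (m := m) hm 1 x
    rw [one_mul] at hf3
    exact asm_common (γ := -x) (p := pGe 1 x) (Cfsg.Agent.Helper25.SS.y_pow_three h2 x) hr (Cfsg.Agent.Helper77.SS.l_pGe hm 1 1 x) hf1 hf2 hf3
      (neg_ne_zero.2 hx) hgen' (hseed _)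
      (fun H hc hy => Cfsg.Agent.Helper77.SS.cyc_ge hm (by simp) one_ne_zero hx hc hy)

/-- odd characteristic -/
theorem main_odd (m : ℕ) (h2 : (2 : F) ≠ 0) :
    ∃ a b : Matrix.symplecticGroup (Fin (m + 2)) F,
      Subgroup.closure ({a, b} : Set (Matrix.symplecticGroup (Fin (m + 2)) F)) = ⊤ := by
  obtain ⟨x, hx, hgen⟩ := Cfsg.Agent.Helper87.SR.exists_generator (F := F)
  have h4 : (4 : F) ≠ 0 := by
    have : (4 : F) = 2 * 2 := by norm_num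
    rw [this]; exact mul_ne_zero h2 h2
  have h44 : ((4 : ℕ) : F) = 4 := by norm_num
  have hr : ((4 : ℕ) : F) ≠ 0 := by rw [h44]; exact h4
  have hseed : ∀ (ξ γ : F) (p : Fin (m + 2) ⊕ Fin (m + 2) → F),
      Cfsg.sympForm (m + 2) F (be 1) p = γ → γ ≠ 0 →
      ∀ H : Subgroup (Matrix.symplecticGroup (Fin (m + 2)) F), cEl m F ∈ H →
      yEl 2 1 ξ ∈ H → sympT (be (m := m) 0) ((4 : ℕ) : F) ∈ H →
      ∃ w0 ∈ QQ H (be 0), Cfsg.sympForm (m + 2) F w0 (be 1) ≠ 0 ∨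
        Cfsg.sympForm (m + 2) F w0 p ≠ 0 := by
    intro ξ γ p hp hγ H hc hy hκ
    obtain ⟨a, ha, haQ⟩ := Cfsg.Agent.Helper23.SS.seed_odd h2 hc hy hκ hr
    refine ⟨a • be 1, haQ, Or.inr ?_⟩
    rw [sympForm_smul_left, hp]
    exact mul_ne_zero ha hγ
  rcases Nat.eq_zero_or_pos m with hm | hm
  · subst hm
    refine ⟨cEl 0 F, bEl 2 1 (x / 4 - 1), ?_⟩
    obtain ⟨hf1, hf2, hf3⟩ := Cfsg.Agent.Helper25.SS.forms_two (F := F) 2 1 (x / 4 - 1)
    have hγe : (1 : F) - 1 * (x / 4 - 1 + 2) = -(x / 4) := by ring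
    rw [hγe] at hf3
    have hγ0 : -(x / 4) ≠ 0 := neg_ne_zero.2 (div_ne_zero hx h4)
    have hgen' : IsGen ((((4 : ℕ) : F) * (-(x / 4))) ^ 2) := by
      have : (((4 : ℕ) : F) * (-(x / 4))) ^ 2 = x ^ 2 := by
        rw [h44]; field_simp
      rw [this]; exact hgen
    exact asm_common (γ := -(x / 4)) (p := pTwo 2 1 (x / 4 - 1)) (Cfsg.Agent.Helper25.SS.y_pow_four _) hr
      (Cfsg.Agent.Helper77.SS.l_pTwo 2 1 _) hf1 hf2 hf3 hγ0 hgen' (hseed _ _ _ hf3 hγ0)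
      (fun H hc hy => Cfsg.Agent.Helper77.SS.cyc_two (by rw [mul_one]; exact h2) one_ne_zero
        (by rw [hγe]; exact hγ0) hc hy)
  · refine ⟨cEl m F, bEl 2 1 (x / 4), ?_⟩
    obtain ⟨hf1, hf2, hf3⟩ := Cfsg.Agent.Helper25.SS.forms_ge (F := F) (m := m) hm 1 (x / 4)
    rw [one_mul] at hf3
    have hξ0 : x / 4 ≠ 0 := div_ne_zero hx h4
    have hγ0 : -(x / 4) ≠ 0 := neg_ne_zero.2 hξ0
    have hgen' : IsGen ((((4 : ℕ) : F) * (-(x / 4))) ^ 2) := by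
      have : (((4 : ℕ) : F) * (-(x / 4))) ^ 2 = x ^ 2 := by
        rw [h44]; field_simp
      rw [this]; exact hgen
    exact asm_common (γ := -(x / 4)) (p := pGe 1 (x / 4)) (Cfsg.Agent.Helper25.SS.y_pow_four _) hr
      (Cfsg.Agent.Helper77.SS.l_pGe hm 2 1 _) hf1 hf2 hf3 hγ0 hgen' (hseed _ _ _ hf3 hγ0)
      (fun H hc hy => Cfsg.Agent.Helper77.SS.cyc_ge hm (by rw [mul_one]; exact h2) one_ne_zero hξ0 hc hy)

theorem main2 (m : ℕ) :
    ∃ a b : Matrix.symplecticGroup (Fin (m + 2)) F,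
      Subgroup.closure ({a, b} : Set (Matrix.symplecticGroup (Fin (m + 2)) F)) = ⊤ := by
  by_cases h2 : (2 : F) = 0
  · exact main_char_two m h2
  · exact main_odd m h2

end Cfsg.Agent.Helper2.SS
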