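import Mathlib
import Cfsg.Agent.Lib.Helper62.SUO0

/-!
# SUO (S2282, lemma server of helper62): pieces (A7) `QQ_tv` and (A8) `QQ_e0` (helper2)
-/

set_option autoImplicit false
set_option linter.unusedSectionVars false
set_option linter.unusedVariables false
set_option quotPrecheck false

namespace Cfsg.Agent.Helper2.SUO

open Matrix Cfsg Cfsg.Agent.Helper13 Cfsg.Agent.Helper87.PsuA Cfsg.Agent.Helper62.SUO

section A
variable {F : Type*} [Field F] [Fintype F] {q n : ℕ} (hF : Fintype.card F = q ^ 2)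
  {Hs : Subgroup ↥(Cfsg.SU n F q)} {e0 : Fin n → F}

local notation "V" => Fin n → F
local notation "G" => ↥(Cfsg.SU n F q)
local notation "H" => Cfsg.hermForm n F q

include hF

/-- (A7) `t = eich y 0 c ∈ Hs` (A3) fixes `e0`; `t w - w = (c * H w y) • y`; A5 A6 -/
theorem QQ_tv (h00 : H e0 e0 = 0) {w y : V} (hw : w ∈ QQ hF Hs e0) (hy : y ∈ Orb Hs e0)
    (hy0 : H e0 y = 0) {c : F} (hc : c ∈ MM hF Hs e0) :
    (c * H w y) • y ∈ QQ hF Hs e0 := by
  obtain ⟨h, hh, hhy⟩ := hy
  obtain ⟨hcc, hcE⟩ := hc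
  obtain ⟨hw0, a, ha, hE⟩ := hw
  have hyy : H y y = 0 := by rw [← hhy, H_actv, h00]
  have hc0 : c + c ^ q + H (0 : V) 0 = 0 := by rw [H_zero_left hF, add_zero]; exact hcc
  -- the transvection `t = eich y 0 c` lies in `Hs`
  have ht : eich hF y 0 c ∈ Hs := by
    have h1 := eich_conj hF h00 (H_zero_right hF e0) hc0 h
    rw [actv_zero, hhy] at h1
    rw [← h1]
    exact Hs.mul_mem (Hs.mul_mem hh hcE) (Hs.inv_mem hh)
  have hy0' : H y (0 : V) = 0 := H_zero_right hF y
  -- its action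
  have hte : actv (eich hF y 0 c) e0 = e0 := by
    rw [eich_act hF hyy hy0' hc0, hy0, H_zero_right hF]
    simp
  have htw : actv (eich hF y 0 c) w = w + (c * H w y) • y := by
    rw [eich_act hF hyy hy0' hc0, H_zero_right hF]
    simp
  -- conjugate
  have h2 : eich hF e0 (w + (c * H w y) • y) a ∈ Hs := by
    have h1 := eich_conj hF h00 hw0 ha (eich hF y 0 c)
    rw [hte, htw] at h1
    rw [← h1]
    exact Hs.mul_mem (Hs.mul_mem ht hE) (Hs.inv_mem ht)
  have hβy : H e0 ((c * H w y) • y) = 0 := by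
    rw [hermForm_smul_right, hy0, mul_zero]
  have hw0' : H e0 (w + (c * H w y) • y) = 0 := by
    rw [hermForm_add_right hF, hw0, hβy, add_zero]
  have hyw : (H w y) ^ q = H y w := hermForm_conj hF w y
  have hcq : c ^ q = -c := by linear_combination hcc
  have ha2 : a + a ^ q + H (w + (c * H w y) • y) (w + (c * H w y) • y) = 0 := by
    rw [hermForm_add_right hF, hermForm_add_left, hermForm_add_left, hermForm_smul_right,
      hermForm_smul_right, hermForm_smul_left, hermForm_smul_left, hyy, mul_pow, hyw, hcq]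
    linear_combination ha
  -- multiply by the inverse of `eich e0 w a`
  have hinv : (eich hF e0 w a)⁻¹ = eich hF e0 (-w) (a ^ q) := eich_inv hF h00 hw0 ha
  have hw0n : H e0 (-w) = 0 := by rw [H_neg_right hF, hw0, neg_zero]
  have han : a ^ q + (a ^ q) ^ q + H (-w) (-w) = 0 := by
    rw [frob_frob hF, H_neg_left hF, H_neg_right hF]
    linear_combination ha
  have h3 := eich_mul hF h00 hw0' ha2 hw0n han
  have h4 : eich hF e0 (w + (c * H w y) • y + -w)
      (a + a ^ q - H (-w) (w + (c * H w y) • y)) ∈ Hs := by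
    rw [← h3, ← hinv]
    exact Hs.mul_mem h2 (Hs.inv_mem hE)
  have h5 : w + (c * H w y) • y + -w = (c * H w y) • y := by abel
  rw [h5] at h4
  refine ⟨hβy, _, ?_, h4⟩
  rw [hermForm_smul_left, hermForm_smul_right, hyy, mul_zero, mul_zero, add_zero,
    H_neg_left hF, hermForm_add_right hF, hermForm_smul_right, mul_pow, hyw, hcq]
  have e1 : (a + a ^ q - -(H w w + -c * H y w * H w y)) ^ q
      = a ^ q + (a ^ q) ^ q + ((H w w) ^ q + -(c ^ q) * (H y w) ^ q * (H w y) ^ q) := by
    rw [sub_neg_eq_add, frob_add hF, frob_add hF, frob_add hF, mul_pow, mul_pow, frob_neg hF]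
  rw [e1, frob_frob hF, hermForm_conj hF, hermForm_conj hF, hermForm_conj hF, hcq]
  linear_combination 2 * ha

/-- (A8) `eich e0 (μ • e0) (-(μ - μ^q))` acts trivially (`eich_act`, `G_ext`), so it is `1 ∈ Hs` -/
theorem QQ_e0 (h00 : H e0 e0 = 0) (μ : F) : μ • e0 ∈ QQ hF Hs e0 := by
  have h1 : H e0 (μ • e0) = 0 := by rw [hermForm_smul_right, h00, mul_zero]
  have h2 : -(μ - μ ^ q) + (-(μ - μ ^ q)) ^ q + H (μ • e0) (μ • e0) = 0 := by
    rw [hermForm_smul_left, hermForm_smul_right, h00, mul_zero, mul_zero, add_zero,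
      frob_neg hF, frob_sub hF, frob_frob hF]
    ring
  refine ⟨h1, -(μ - μ ^ q), h2, ?_⟩
  have h3 : eich hF e0 (μ • e0) (-(μ - μ ^ q)) = 1 := by
    apply G_ext
    intro x
    rw [eich_act hF h00 h1 h2, actv_one, hermForm_smul_right]
    module
  rw [h3]
  exact Hs.one_mem

end A

end Cfsg.Agent.Helper2.SUO
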