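import Mathlib
import Cfsg.Agent.Lib.Helper62.SUO0

/-!
# SUO (S2282, lemma server of helper62): piece (M0) `orb_basic` (helper2)
-/

set_option autoImplicit false
set_option linter.unusedSectionVars false
set_option linter.unusedVariables false
set_option quotPrecheck false

namespace Cfsg.Agent.Helper2.SUO

open Matrix Cfsg Cfsg.Agent.Helper13 Cfsg.Agent.Helper87.PsuA Cfsg.Agent.Helper62.SUO

section M
variable {F : Type*} [Field F] [Fintype F] {q n : ℕ} (hF : Fintype.card F = q ^ 2)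
  {Hs : Subgroup ↥(Cfsg.SU n F q)} {u l : ↥(Cfsg.SU n F q)} {e0 e1 p : Fin n → F} {c γ : F}

local notation "V" => Fin n → F
local notation "G" => ↥(Cfsg.SU n F q)
local notation "H" => Cfsg.hermForm n F q

include hF

/-- (M0) `e1 = l e0`, `e1 + e0 = u e1`, `p = l⁻¹ e0`; forms by `H_actv`, `hermForm_conj` -/
theorem orb_basic (hyp : Hyp hF Hs u l e0 e1 p c γ) :
    e1 ∈ Orb Hs e0 ∧ e1 + e0 ∈ Orb Hs e0 ∧ p ∈ Orb Hs e0 ∧
    H e1 e1 = 0 ∧ H p p = 0 ∧ H e0 p = 0 ∧ H p e1 = γ ^ q := by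
  refine ⟨⟨l, hyp.hl, hyp.le0⟩, ⟨u * l, Hs.mul_mem hyp.hu hyp.hl, ?_⟩,
    ⟨l⁻¹, Hs.inv_mem hyp.hl, actv_inv l p e0 hyp.lp⟩, ?_, ?_, ?_, ?_⟩
  · rw [actv_mul, hyp.le0, hyp.ue1]
  · rw [← hyp.le0, H_actv, hyp.e0e0]
  · rw [← H_actv l p p, hyp.lp, hyp.e0e0]
  · have h1 : H e0 p = H (actv l e0) (actv l p) := (H_actv l e0 p).symm
    rw [h1, hyp.le0, hyp.lp]
    exact H_symm_zero hF hyp.e0e1
  · rw [← hyp.e1p]
    exact (hermForm_conj hF e1 p).symm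

end M

end Cfsg.Agent.Helper2.SUO
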