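import Mathlib
import Cfsg.Agent.Lib.Helper2.PResidual
import Cfsg.Agent.Lib.Helper24.SZInternal

set_option autoImplicit false
open scoped commutatorElement

/-!
# `G` splits over `O^p(G)` when the Sylow `p`-subgroups of `O^p(G)` are abelian (helper2)
-/

namespace Cfsg.Agent.Helper2

open Subgroup

/-- `O^p(O^p(G)) = O^p(G)`. -/
theorem pResidual_pResidual_eq_top {G : Type*} [Group G] (p : ℕ) :
    Cfsg.pResidual p (Cfsg.pResidual p G) = ⊤ := by
  rw [eq_top_iff]
  rintro ⟨m, hm⟩ -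
  have key : ∀ g, g ∈ Subgroup.closure {g : G | Nat.Coprime (orderOf g) p} →
      ∃ hg : g ∈ Cfsg.pResidual p G,
      (⟨g, hg⟩ : Cfsg.pResidual p G) ∈ Cfsg.pResidual p (Cfsg.pResidual p G) := by
    intro g hg
    induction hg using Subgroup.closure_induction with
    | mem x hx =>
      have hxM : x ∈ Cfsg.pResidual p G := Subgroup.subset_closure hx
      refine ⟨hxM, Subgroup.subset_closure ?_⟩
      show Nat.Coprime (orderOf (⟨x, hxM⟩ : Cfsg.pResidual p G)) p
      rw [Subgroup.orderOf_mk]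
      exact hx
    | one => exact ⟨Subgroup.one_mem _, Subgroup.one_mem _⟩
    | mul x y _ _ hx hy =>
      obtain ⟨hx1, hx2⟩ := hx
      obtain ⟨hy1, hy2⟩ := hy
      exact ⟨Subgroup.mul_mem _ hx1 hy1, Subgroup.mul_mem _ hx2 hy2⟩
    | inv x _ hx =>
      obtain ⟨hx1, hx2⟩ := hx
      exact ⟨Subgroup.inv_mem _ hx1, Subgroup.inv_mem _ hx2⟩
  obtain ⟨_, h⟩ := key m hm
  exact h

/-- If `O^p(X) = X` and `T` is an abelian Sylow `p`-subgroup, then no nontrivial element of `T`
is centralized by `N_X(T)`. -/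
theorem eq_one_of_central_in_normalizer {X : Type*} [Group X] [Finite X] {p : ℕ} [hp : Fact p.Prime]
    (T : Sylow p X) [hT : IsMulCommutative T] (hres : Cfsg.pResidual p X = ⊤) (z : X)
    (hzT : z ∈ (T : Subgroup X))
    (hz : ∀ n ∈ normalizer ((T : Subgroup X) : Set X), n * z = z * n) : z = 1 := by
  open scoped IsMulCommutative in
  have key : ∀ (k : ℕ) (g₀ : X), g₀⁻¹ * z ^ k * g₀ ∈ (T : Subgroup X) →
      g₀⁻¹ * z ^ k * g₀ = z ^ k := by
    intro k g₀ hmem
    obtain ⟨n, hn, hnn⟩ := T.conj_eq_normalizer_conj_of_mem (z ^ k) g₀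
      (Subgroup.pow_mem _ hzT k) hmem
    rw [hnn]
    have h1 : Commute n z := hz n hn
    have h2 : n * z ^ k = z ^ k * n := (h1.pow_right k).eq
    calc n⁻¹ * z ^ k * n = n⁻¹ * (z ^ k * n) := by group
      _ = n⁻¹ * (n * z ^ k) := by rw [h2]
      _ = z ^ k := by group
  have h1 := MonoidHom.transfer_eq_pow (MonoidHom.id (T : Subgroup X)) z key
  have h2 : MonoidHom.transfer (MonoidHom.id (T : Subgroup X)) z = 1 := by
    have hle := pResidual_le_ker_of_isPGroup p (MonoidHom.transfer (MonoidHom.id (T : Subgroup X))) T.2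
    rw [hres] at hle
    exact hle (Subgroup.mem_top z)
  rw [h2] at h1
  have h3 : z ^ (T : Subgroup X).index = 1 := by
    have := congrArg Subtype.val h1
    simpa using this.symm
  obtain ⟨a, ha⟩ := T.2 ⟨z, hzT⟩
  have ha' : z ^ p ^ a = 1 := by
    have := congrArg Subtype.val ha
    simpa using this
  have h5 : orderOf z ∣ (T : Subgroup X).index := orderOf_dvd_of_pow_eq_one h3
  have h6 : orderOf z ∣ p ^ a := orderOf_dvd_of_pow_eq_one ha'
  have hcop : Nat.Coprime (p ^ a) (T : Subgroup X).index :=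
    Nat.Coprime.pow_left a ((Nat.Prime.coprime_iff_not_dvd hp.out).mpr T.not_dvd_index)
  have : orderOf z = 1 := Nat.eq_one_of_dvd_coprimes hcop h6 h5
  exact orderOf_eq_one_iff.mp this

/-- internal Schur–Zassenhaus existence: a complement to `N` inside `K`, `N` normal in `K`. -/
theorem exists_internal_complement' {G : Type*} [Group G] [Finite G] (N K : Subgroup G)
    (hNK : N ≤ K) (hn : K ≤ normalizer (N : Set G))
    (hcop : (Nat.card N).Coprime (N.relIndex K)) :
    ∃ H : Subgroup G, H ≤ K ∧ N ⊓ H = ⊥ ∧ N ⊔ H = K ∧ Nat.card H = N.relIndex K := by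
  have hN'n : (N.subgroupOf K).Normal := Subgroup.normal_subgroupOf_of_le_normalizer hn
  have hcN' : Nat.card (N.subgroupOf K) = Nat.card N :=
    Nat.card_congr (Subgroup.subgroupOfEquivOfLe hNK).toEquiv
  have hcop' : (Nat.card (N.subgroupOf K)).Coprime (N.subgroupOf K).index := by
    rw [hcN']; exact hcop
  obtain ⟨H', hH'⟩ := Subgroup.exists_right_complement'_of_coprime hcop'
  refine ⟨H'.map K.subtype, Subgroup.map_subtype_le H', ?_, ?_, ?_⟩
  · rw [eq_bot_iff]
    rintro x ⟨hxN, y, hy, rfl⟩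
    have : y ∈ N.subgroupOf K ⊓ H' := ⟨Subgroup.mem_subgroupOf.mpr hxN, hy⟩
    rw [hH'.disjoint.eq_bot, Subgroup.mem_bot] at this
    rw [Subgroup.mem_bot, this]; rfl
  · have h1 := congrArg (Subgroup.map K.subtype) hH'.sup_eq_top
    rw [Subgroup.map_sup, Subgroup.map_subgroupOf_eq_of_le hNK, ← MonoidHom.range_eq_map,
      Subgroup.range_subtype] at h1
    exact h1
  · have h1 : Nat.card (H'.map K.subtype) = Nat.card H' :=
      Nat.card_congr (H'.equivMapOfInjective _ K.subtype_injective).symm.toEquiv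
    rw [h1, Subgroup.relIndex, hH'.symm.index_eq_card]

/-- if two conjugates of `H` coincide, the quotient of the conjugating elements normalizes `H`. -/
theorem mem_normalizer_of_map_conj_eq {G : Type*} [Group G] {H : Subgroup G} {a b : G}
    (h : H.map (MulAut.conj a).toMonoidHom = H.map (MulAut.conj b).toMonoidHom) :
    b⁻¹ * a ∈ normalizer (H : Set G) := by
  rw [Subgroup.mem_normalizer_iff]
  intro x
  constructor
  · intro hx
    have h1 : a * x * a⁻¹ ∈ H.map (MulAut.conj b).toMonoidHom := by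
      rw [← h]; exact ⟨x, hx, rfl⟩
    obtain ⟨y, hy, hyx⟩ := h1
    have hyx' : b * y * b⁻¹ = a * x * a⁻¹ := hyx
    have : b⁻¹ * a * x * (b⁻¹ * a)⁻¹ = y := by
      calc b⁻¹ * a * x * (b⁻¹ * a)⁻¹ = b⁻¹ * (a * x * a⁻¹) * b := by group
        _ = b⁻¹ * (b * y * b⁻¹) * b := by rw [hyx']
        _ = y := by group
    rw [this]; exact hy
  · intro hx
    have h1 : a * x * a⁻¹ ∈ H.map (MulAut.conj a).toMonoidHom := by
      rw [h]
      refine ⟨b⁻¹ * a * x * (b⁻¹ * a)⁻¹, hx, ?_⟩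
      show b * (b⁻¹ * a * x * (b⁻¹ * a)⁻¹) * b⁻¹ = a * x * a⁻¹
      group
    obtain ⟨y, hy, hyx⟩ := h1
    have hyx' : a * y * a⁻¹ = a * x * a⁻¹ := hyx
    have : y = x := by
      have := congrArg (fun t => a⁻¹ * t * a) hyx'
      simpa [mul_assoc] using this
    rw [← this]; exact hy

/-- If the Sylow `p`-subgroups of `O^p(G)` are abelian then `G` splits over `O^p(G)`. -/
theorem exists_complement_pResidual {G : Type*} [Group G] [Finite G] {p : ℕ} [hp : Fact p.Prime]
    (h : ∀ Q : Sylow p (Cfsg.pResidual p G), IsMulCommutative Q) :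
    ∃ K : Subgroup G, K.IsComplement' (Cfsg.pResidual p G) := by
  set M := Cfsg.pResidual p G with hM
  have hMn : M.Normal := pResidual_normal p
  obtain ⟨Q₀⟩ : Nonempty (Sylow p M) := inferInstance
  have hQ₀c : IsMulCommutative Q₀ := h Q₀
  set Q : Subgroup G := (Q₀ : Subgroup M).map M.subtype with hQ
  have hQM : Q ≤ M := Subgroup.map_subtype_le _
  have hQcomm : ∀ a ∈ Q, ∀ b ∈ Q, a * b = b * a := by
    rintro _ ⟨a, ha, rfl⟩ _ ⟨b, hb, rfl⟩
    have := hQ₀c.is_comm.comm (⟨a, ha⟩ : Q₀) ⟨b, hb⟩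
    have h2 := congrArg (fun t : Q₀ => ((t : M) : G)) this
    simpa using h2
  set N := normalizer (Q : Set G) with hN
  have hfrat : N ⊔ M = ⊤ := Sylow.normalizer_sup_eq_top Q₀
  set X := N ⊓ M with hX
  have hQN : Q ≤ N := le_normalizer
  have hQX : Q ≤ X := le_inf hQN hQM
  have hXN : X ≤ N := inf_le_left
  have hXM : X ≤ M := inf_le_right
  -- orders
  have hcardQ : Nat.card Q = Nat.card Q₀ :=
    Nat.card_congr ((Q₀ : Subgroup M).equivMapOfInjective _ M.subtype_injective).symm.toEquiv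
  obtain ⟨k, hk⟩ := Q₀.2.exists_card_eq
  have hrelM : Q.relIndex M = (Q₀ : Subgroup M).index := by
    rw [Subgroup.relIndex, hQ]
    congr 1
    exact Subgroup.comap_map_eq_self_of_injective M.subtype_injective _
  have hndvd : ¬ p ∣ Q.relIndex X := by
    intro hdvd
    have h1 : Q.relIndex X ∣ Q.relIndex M := Dvd.intro _ (Subgroup.relIndex_mul_relIndex Q X M hQX hXM)
    rw [hrelM] at h1
    exact Q₀.not_dvd_index (hdvd.trans h1)
  have hcopX : (Nat.card Q).Coprime (Q.relIndex X) := by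
    rw [hcardQ, hk]
    exact Nat.Coprime.pow_left k ((Nat.Prime.coprime_iff_not_dvd hp.out).mpr hndvd)
  -- Step 1
  obtain ⟨L₀, hL₀X, hQL₀, hQL₀X, hL₀card⟩ := exists_internal_complement' Q X hQX hXN hcopX
  have hL₀N : L₀ ≤ N := hL₀X.trans hXN
  have hL₀M : L₀ ≤ M := hL₀X.trans hXM
  -- Step 2
  have claim1 : ∀ z ∈ Q, (∀ x ∈ X, x * z = z * x) → z = 1 := by
    rintro _ ⟨z₀, hz₀, rfl⟩ hzX
    have : z₀ = 1 := by
      apply eq_one_of_central_in_normalizer Q₀ (pResidual_pResidual_eq_top p) z₀ hz₀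
      intro n hn
      have hnN : (n : G) ∈ N := Subgroup.le_normalizer_map M.subtype ⟨n, hn, rfl⟩
      have := hzX (n : G) ⟨hnN, n.2⟩
      exact Subtype.ext this
    rw [this]; rfl
  -- Step 3
  set R := N ⊓ normalizer (L₀ : Set G) with hR
  have hsolvQ : Group.IsSolvable Q :=
    Group.isSolvable_of_comm (fun a b => Subtype.ext (hQcomm a a.2 b b.2))
  have hcopQL : (Nat.card Q).Coprime (Nat.card L₀) := by rw [hL₀card]; exact hcopX
  have hNQR : N ≤ Q ⊔ R := by
    intro n hn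
    set B := L₀.map (MulAut.conj n).toMonoidHom with hB
    have hBX : B ≤ Q ⊔ L₀ := by
      rw [hQL₀X]
      rintro _ ⟨l, hl, rfl⟩
      refine ⟨?_, ?_⟩
      · exact N.mul_mem (N.mul_mem hn (hL₀N hl)) (N.inv_mem hn)
      · exact hMn.conj_mem l (hL₀M hl) n
    have hcardB : Nat.card B = Nat.card L₀ :=
      Subgroup.card_map_of_injective (MulAut.conj n).injective
    obtain ⟨q, hq, hBq⟩ := Cfsg.Agent.Helper24.sz_conj_internal Q L₀ B hL₀N hsolvQ hcopQL hcardB hBX
    have hmem : q⁻¹ * n ∈ normalizer (L₀ : Set G) := mem_normalizer_of_map_conj_eq hBq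
    have hmemN : q⁻¹ * n ∈ N := N.mul_mem (N.inv_mem (hQN hq)) hn
    have : n = q * (q⁻¹ * n) := by group
    rw [this]
    exact Subgroup.mul_mem_sup hq ⟨hmemN, hmem⟩
  -- Step 4
  have hQR : Q ⊓ R = ⊥ := by
    rw [eq_bot_iff]
    rintro z ⟨hzQ, hzN, hzL⟩
    rw [Subgroup.mem_bot]
    apply claim1 z hzQ
    have hle : X ≤ centralizer ({z} : Set G) := by
      rw [← hQL₀X]
      refine sup_le ?_ ?_
      · intro a ha
        rw [Subgroup.mem_centralizer_iff]
        intro y hy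
        rw [Set.mem_singleton_iff] at hy
        subst hy
        exact hQcomm y hzQ a ha
      · intro l hl
        rw [Subgroup.mem_centralizer_iff]
        intro y hy
        rw [Set.mem_singleton_iff] at hy
        subst hy
        have h1 : y * l * y⁻¹ * l⁻¹ ∈ L₀ :=
          L₀.mul_mem ((Subgroup.mem_normalizer_iff.mp hzL l).mp hl) (L₀.inv_mem hl)
        have h2 : y * l * y⁻¹ * l⁻¹ ∈ Q := by
          have : y * l * y⁻¹ * l⁻¹ = y * (l * y⁻¹ * l⁻¹) := by group
          rw [this]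
          exact Q.mul_mem hzQ ((Subgroup.mem_normalizer_iff.mp (hL₀N hl) y⁻¹).mp (Q.inv_mem hzQ))
        have h3 : y * l * y⁻¹ * l⁻¹ ∈ Q ⊓ L₀ := ⟨h2, h1⟩
        rw [hQL₀, Subgroup.mem_bot] at h3
        calc y * l = (y * l * y⁻¹ * l⁻¹) * l * y := by group
          _ = l * y := by rw [h3, one_mul]
    intro x hx
    have := (Subgroup.mem_centralizer_iff.mp (hle hx)) z rfl
    exact this.symm
  -- Step 5
  have hL₀R : L₀ ≤ R := le_inf hL₀N le_normalizer
  have hRM : R ⊓ M = L₀ := by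
    apply le_antisymm
    · rintro x ⟨hxR, hxM⟩
      have hxX : x ∈ Q ⊔ L₀ := by rw [hQL₀X]; exact ⟨hxR.1, hxM⟩
      rw [← SetLike.mem_coe, Subgroup.coe_mul_of_right_le_normalizer_left Q L₀ hL₀N] at hxX
      obtain ⟨q, hq, l, hl, rfl⟩ := hxX
      have hqR : q ∈ R := by
        have : q = (q * l) * l⁻¹ := by group
        rw [this]
        exact R.mul_mem hxR (R.inv_mem (hL₀R hl))
      have : q ∈ Q ⊓ R := ⟨hq, hqR⟩
      rw [hQR, Subgroup.mem_bot] at this
      subst this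
      show (1 : G) * l ∈ L₀
      rw [one_mul]; exact hl
    · exact le_inf hL₀R hL₀M
  have hrelR : ∃ j, L₀.relIndex R = p ^ j := by
    have h1 : L₀.relIndex R = M.relIndex R := by
      rw [← hRM, inf_comm, Subgroup.inf_relIndex_right]
    have h2 : M.relIndex R ∣ M.index := Subgroup.relIndex_dvd_index_of_normal M R
    obtain ⟨k', hk'⟩ := (quotient_pResidual_isPGroup (N := G) p).exists_card_eq
    have h3 : M.index = p ^ k' := by rw [← hk']; rfl
    rw [h3] at h2
    obtain ⟨j, -, hj⟩ := (Nat.dvd_prime_pow hp.out).mp h2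
    exact ⟨j, h1.trans hj⟩
  obtain ⟨j, hj⟩ := hrelR
  have hcop2 : (Nat.card L₀).Coprime (L₀.relIndex R) := by
    rw [hL₀card, hj]
    exact Nat.Coprime.pow_right j ((Nat.Prime.coprime_iff_not_dvd hp.out).mpr hndvd).symm
  -- Step 6
  obtain ⟨K, hKR, hL₀K, hL₀KR, -⟩ := exists_internal_complement' L₀ R hL₀R inf_le_right hcop2
  -- Step 7
  refine ⟨K, ?_⟩
  apply Subgroup.isComplement'_of_disjoint_and_mul_eq_univ
  · rw [disjoint_iff, eq_bot_iff]
    rintro x ⟨hxK, hxM⟩
    have h1 : x ∈ R ⊓ M := ⟨hKR hxK, hxM⟩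
    rw [hRM] at h1
    have h2 : x ∈ L₀ ⊓ K := ⟨h1, hxK⟩
    rwa [hL₀K] at h2
  · rw [← Subgroup.mul_normal K M, ← Subgroup.coe_top, SetLike.coe_set_eq, eq_top_iff, ← hfrat]
    have hRle : R ≤ K ⊔ M := by
      rw [← hL₀KR]
      exact sup_le (hL₀M.trans le_sup_right) le_sup_left
    exact sup_le (hNQR.trans (sup_le (hQM.trans le_sup_right) hRle)) le_sup_right

end Cfsg.Agent.Helper2
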