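import Mathlib
import Cfsg.Agent.Lib.Helper2.Tate
import Cfsg.Agent.Lib.Helper2.PResidual
import Cfsg.Agent.Lib.Helper2.PGroup

set_option autoImplicit false
open scoped commutatorElement

/-!
# A general form of Tate's theorem (helper2)

`stem_lift`: if `V ≤ G` has index prime to `p`, `R ⊴ G` with `G = V R`, and `M ⊴ V` with `M ≤ R ∩ V`,
`V / M` a `p`-group in which `(R ∩ V) / M` is central and non-generating, then `G` has `V / M` as a
quotient.  Consequence: if `P ≤ V` and `P ∩ G' ≤ V'` then `O^p(G) ∩ V = O^p(V)`.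
-/

namespace Cfsg.Agent.Helper2

open Subgroup

theorem stem_lift {G : Type*} [Group G] [Finite G] {p : ℕ} [hp : Fact p.Prime]
    (V : Subgroup G) (hVidx : Nat.Coprime V.index p) (R : Subgroup G) [hR : R.Normal]
    (hVR : ∀ g : G, ∃ v ∈ V, ∃ r ∈ R, g = v * r)
    (M : Subgroup V) [hM : M.Normal] (hMle : M ≤ R.subgroupOf V)
    (hcent : ⁅R.subgroupOf V, (⊤ : Subgroup V)⁆ ≤ M)
    (hpq : IsPGroup p (V ⧸ M))
    (hfrat : ∀ L : Subgroup (V ⧸ M),
      L ⊔ (R.subgroupOf V).map (QuotientGroup.mk' M) = ⊤ → L = ⊤) :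
    ∃ ψ : G →* V ⧸ M, Function.Surjective ψ := by
  classical
  set DP : Subgroup V := R.subgroupOf V with hDP
  let E := V ⧸ M
  let T := G ⧸ R
  let φ : G →* T := QuotientGroup.mk' R
  have hφker : ∀ g : G, φ g = 1 ↔ g ∈ R := fun g => QuotientGroup.eq_one_iff g
  let π : E →* T := QuotientGroup.lift M (φ.comp V.subtype) (by
    intro d hd
    rw [MonoidHom.mem_ker, MonoidHom.comp_apply, hφker]
    exact Subgroup.mem_subgroupOf.mp (hMle hd))
  have hπmk : ∀ x : V, π (QuotientGroup.mk x) = φ (x : G) := fun x => rfl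
  have hkerπ : ∀ e : E, π e = 1 → ∃ d ∈ DP, (QuotientGroup.mk d : E) = e := by
    intro e he
    induction e using QuotientGroup.induction_on with
    | H x =>
      rw [hπmk, hφker] at he
      exact ⟨x, Subgroup.mem_subgroupOf.mpr he, rfl⟩
  have hcentral : ∀ e : E, π e = 1 → ∀ e' : E, e * e' = e' * e := by
    intro e he e'
    obtain ⟨d, hd, rfl⟩ := hkerπ e he
    induction e' using QuotientGroup.induction_on with
    | H x =>
      rw [← QuotientGroup.mk_mul, ← QuotientGroup.mk_mul, QuotientGroup.eq]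
      have : (d * x)⁻¹ * (x * d) = ⁅x⁻¹, d⁻¹⁆ := by rw [commutatorElement_def]; group
      rw [this]
      have h1 : ⁅d⁻¹, x⁻¹⁆ ∈ M :=
        hcent (Subgroup.commutator_mem_commutator (DP.inv_mem hd) (Subgroup.mem_top _))
      have h2 : ⁅x⁻¹, d⁻¹⁆ = (⁅d⁻¹, x⁻¹⁆)⁻¹ := (commutatorElement_inv _ _).symm
      rw [h2]
      exact M.inv_mem h1
  obtain ⟨kE, hkE⟩ := IsPGroup.iff_card.mp hpq
  have hEpow : ∀ e : E, e ^ p ^ kE = 1 := fun e => by rw [← hkE]; exact pow_card_eq_one'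
  -- the fibre product
  let Γ : Subgroup (G × E) :=
    MonoidHom.eqLocus (φ.comp (MonoidHom.fst G E)) (π.comp (MonoidHom.snd G E))
  have hΓmem : ∀ x : G × E, x ∈ Γ ↔ φ x.1 = π x.2 := fun x => Iff.rfl
  let fstΓ : Γ →* G := (MonoidHom.fst G E).comp Γ.subtype
  let sndΓ : Γ →* E := (MonoidHom.snd G E).comp Γ.subtype
  have hfst : ∀ γ : Γ, fstΓ γ = (γ : G × E).1 := fun γ => rfl
  have hsnd : ∀ γ : Γ, sndΓ γ = (γ : G × E).2 := fun γ => rfl
  have hcompat : ∀ γ : Γ, φ (fstΓ γ) = π (sndΓ γ) := fun γ => γ.2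
  have hext : ∀ γ γ' : Γ, fstΓ γ = fstΓ γ' → sndΓ γ = sndΓ γ' → γ = γ' := by
    intro γ γ' h1 h2
    apply Subtype.ext
    exact Prod.ext h1 h2
  let A : Subgroup Γ := fstΓ.ker
  have hAmem : ∀ γ : Γ, γ ∈ A ↔ fstΓ γ = 1 := fun γ => MonoidHom.mem_ker
  have hAπ : ∀ γ : Γ, γ ∈ A → π (sndΓ γ) = 1 := by
    intro γ hγ
    rw [← hcompat, (hAmem γ).mp hγ, map_one]
  have hAcomm : IsMulCommutative A := by
    refine ⟨⟨?_⟩⟩
    rintro ⟨γ, hγ⟩ ⟨γ', hγ'⟩
    apply Subtype.ext
    show γ * γ' = γ' * γ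
    apply hext
    · rw [map_mul, map_mul, (hAmem γ).mp hγ, (hAmem γ').mp hγ']
    · rw [map_mul, map_mul]
      exact hcentral _ (hAπ γ hγ) _
  have hApow : ∀ γ : Γ, γ ∈ A → γ ^ p ^ kE = 1 := by
    intro γ hγ
    apply hext
    · rw [map_pow, (hAmem γ).mp hγ, one_pow, map_one]
    · rw [map_pow, hEpow, map_one]
  -- the complement over `V`
  let ι : V →* Γ :=
    MonoidHom.codRestrict (MonoidHom.prod V.subtype (QuotientGroup.mk' M)) Γ
      (fun x => rfl)
  have hιfst : ∀ x : V, fstΓ (ι x) = (x : G) := fun x => rfl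
  have hιsnd : ∀ x : V, sndΓ (ι x) = (QuotientGroup.mk x : E) := fun x => rfl
  let K : Subgroup Γ := ι.range
  let P₁ : Subgroup Γ := V.comap fstΓ
  have hAP₁ : A ≤ P₁ := by
    intro γ hγ
    show fstΓ γ ∈ V
    rw [(hAmem γ).mp hγ]
    exact Subgroup.one_mem _
  have hK1 : K ⊓ A = ⊥ := by
    rw [eq_bot_iff]
    rintro γ ⟨⟨x, rfl⟩, hγA⟩
    rw [Subgroup.mem_bot]
    have hx1 : (x : G) = 1 := by rw [← hιfst]; exact (hAmem _).mp hγA
    have hx : x = 1 := Subtype.ext hx1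
    rw [hx, map_one]
  have hK2 : K ⊔ A = P₁ := by
    apply le_antisymm
    · refine sup_le ?_ hAP₁
      rintro γ ⟨x, rfl⟩
      show fstΓ (ι x) ∈ V
      rw [hιfst]; exact x.2
    · intro γ hγ
      have hγP : fstΓ γ ∈ V := hγ
      have h1 : γ = ι ⟨fstΓ γ, hγP⟩ * ((ι ⟨fstΓ γ, hγP⟩)⁻¹ * γ) := by group
      rw [h1]
      refine Subgroup.mul_mem_sup ⟨_, rfl⟩ ?_
      rw [hAmem, map_mul, map_inv, hιfst]
      simp
  have hcop : Nat.Coprime P₁.index (Nat.card A) := by
    have h1 : P₁.index ∣ V.index := by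
      rw [Subgroup.index_comap]
      apply Subgroup.relIndex_dvd_index_of_le
      intro x hx
      exact ⟨ι ⟨x, hx⟩, rfl⟩
    have hApg : IsPGroup p A := fun γ => ⟨kE, Subtype.ext (by
      have := hApow γ.1 γ.2
      simpa using this)⟩
    obtain ⟨j, hj⟩ := IsPGroup.iff_card.mp hApg
    rw [hj]
    apply Nat.Coprime.pow_right
    exact Nat.Coprime.coprime_dvd_left h1 hVidx
  obtain ⟨Kh, hKh⟩ := gaschutz_of_coprime_index A hAcomm P₁ K hAP₁ hK1 hK2 hcop
  have hKhA : Kh ⊓ A = ⊥ := hKh.disjoint.eq_bot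
  have hrep : ∀ γ : Γ, ∃ k ∈ Kh, fstΓ k = fstΓ γ := by
    intro γ
    have hγ : γ ∈ ((Kh ⊔ A : Subgroup Γ) : Set Γ) := by
      rw [hKh.sup_eq_top]; trivial
    rw [Subgroup.mul_normal] at hγ
    obtain ⟨k, hk, a, ha, rfl⟩ := hγ
    refine ⟨k, hk, ?_⟩
    rw [map_mul, (hAmem a).mp ha, mul_one]
  have huniq : ∀ k ∈ Kh, ∀ k' ∈ Kh, fstΓ k = fstΓ k' → k = k' := by
    intro k hk k' hk' hkk
    have h1 : k⁻¹ * k' ∈ Kh ⊓ A := by
      refine Subgroup.mem_inf.mpr ⟨Kh.mul_mem (Kh.inv_mem hk) hk', ?_⟩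
      rw [hAmem, map_mul, map_inv, hkk, inv_mul_cancel]
    rw [hKhA, Subgroup.mem_bot] at h1
    exact (inv_mul_eq_one.mp h1)
  -- `fstΓ` is surjective
  have hfstsurj : Function.Surjective fstΓ := by
    intro g
    obtain ⟨v, hv, r, hr, rfl⟩ := hVR g
    refine ⟨⟨(v * r, QuotientGroup.mk (⟨v, hv⟩ : V)), ?_⟩, rfl⟩
    rw [hΓmem]
    show φ (v * r) = π (QuotientGroup.mk ⟨v, hv⟩)
    rw [hπmk, map_mul, (hφker r).mpr hr, mul_one]
  let f : Kh →* G := fstΓ.comp Kh.subtype
  have hfbij : Function.Bijective f := by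
    constructor
    · intro k k' hkk
      exact Subtype.ext (huniq k.1 k.2 k'.1 k'.2 hkk)
    · intro g
      obtain ⟨γ, rfl⟩ := hfstsurj g
      obtain ⟨k, hk, hkγ⟩ := hrep γ
      exact ⟨⟨k, hk⟩, hkγ⟩
  let e : Kh ≃* G := MulEquiv.ofBijective f hfbij
  let ψ : G →* E := (sndΓ.comp Kh.subtype).comp e.symm.toMonoidHom
  refine ⟨ψ, ?_⟩
  have hrange : ψ.range = ⊤ := by
    apply hfrat
    rw [eq_top_iff]
    intro x _
    induction x using QuotientGroup.induction_on with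
    | H v =>
      have hγ : ι v ∈ ((Kh ⊔ A : Subgroup Γ) : Set Γ) := by rw [hKh.sup_eq_top]; trivial
      rw [Subgroup.mul_normal] at hγ
      obtain ⟨k, hk, a, ha, hka⟩ := hγ
      have hka' : k * a = ι v := hka
      have h1 : (QuotientGroup.mk v : E) = sndΓ k * sndΓ a := by
        rw [← map_mul, hka', hιsnd]
      rw [h1]
      refine Subgroup.mul_mem_sup ?_ ?_
      · refine ⟨f ⟨k, hk⟩, ?_⟩
        show sndΓ ((e.symm (e ⟨k, hk⟩) : Kh) : Γ) = sndΓ k
        rw [MulEquiv.symm_apply_apply]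
      · obtain ⟨d, hd, hde⟩ := hkerπ _ (hAπ a ha)
        exact ⟨d, hd, hde⟩
  exact MonoidHom.range_eq_top.mp hrange

/-- A `p`-subgroup meets `O^p(G)` inside the derived subgroup. -/
theorem inf_pResidual_le_commutator {G : Type*} [Group G] [Finite G] {p : ℕ} [Fact p.Prime]
    (P : Subgroup G) (hP : IsPGroup p P) : P ⊓ Cfsg.pResidual p G ≤ commutator G := by
  let ab : G →* Abelianization G := Abelianization.of
  let C : Subgroup (Abelianization G) :=
    { carrier := {y | Nat.Coprime (orderOf y) p}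
      mul_mem' := by
        intro a b ha hb
        have h1 : orderOf (a * b) ∣ orderOf a * orderOf b :=
          (Commute.all a b).orderOf_mul_dvd_mul_orderOf
        exact Nat.Coprime.coprime_dvd_left h1 (Nat.Coprime.mul_left ha hb)
      one_mem' := by simp
      inv_mem' := by
        intro a ha
        show Nat.Coprime (orderOf a⁻¹) p
        rw [orderOf_inv]; exact ha }
  have hC : ∀ y, y ∈ C ↔ Nat.Coprime (orderOf y) p := fun y => Iff.rfl
  have h1 : Cfsg.pResidual p G ≤ C.comap ab := by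
    unfold Cfsg.pResidual
    rw [Subgroup.closure_le]
    intro g hg
    have hg' : Nat.Coprime (orderOf g) p := hg
    show ab g ∈ C
    rw [hC]
    exact Nat.Coprime.coprime_dvd_left (orderOf_map_dvd ab g) hg'
  rintro x ⟨hxP, hxR⟩
  have h2 : Nat.Coprime (orderOf (ab x)) p := (hC _).mp (h1 hxR)
  obtain ⟨k, hk⟩ := hP ⟨x, hxP⟩
  have hk' : x ^ p ^ k = 1 := congrArg Subtype.val hk
  have h3 : orderOf (ab x) ∣ p ^ k := by
    apply orderOf_dvd_of_pow_eq_one
    rw [← map_pow, hk', map_one]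
  have h4 : orderOf (ab x) = 1 :=
    Nat.eq_one_of_dvd_coprimes (Nat.Coprime.pow_right k h2) dvd_rfl h3
  rw [orderOf_eq_one_iff] at h4
  rw [← Abelianization.ker_of (G := G)]
  exact MonoidHom.mem_ker.mpr h4

/-- **Tate's theorem, general form**: if `P ≤ V ≤ G` for a Sylow `p`-subgroup `P` and
`P ∩ G' ≤ V'`, then `O^p(G) ∩ V = O^p(V)`. -/
theorem pResidual_subgroupOf_le {G : Type*} [Group G] [Finite G] {p : ℕ} [hp : Fact p.Prime]
    (P : Sylow p G) (V : Subgroup G) (hPV : (P : Subgroup G) ≤ V)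
    (hfoc : commutator G ⊓ (P : Subgroup G) ≤ ⁅V, V⁆) :
    (Cfsg.pResidual p G).subgroupOf V ≤ Cfsg.pResidual p V := by
  classical
  have hRn : (Cfsg.pResidual p G).Normal := pResidual_normal p
  have hRVn : (Cfsg.pResidual p V).Normal := pResidual_normal p
  set R := Cfsg.pResidual p G with hR
  set RV := Cfsg.pResidual p V with hRV
  set N : Subgroup V := R.subgroupOf V with hN
  have hNn : N.Normal := hRn.subgroupOf V
  have hRVN : RV ≤ N := by
    rw [hRV]
    unfold Cfsg.pResidual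
    rw [Subgroup.closure_le]
    intro v hv
    have hv' : Nat.Coprime (orderOf v) p := hv
    show v ∈ R.subgroupOf V
    rw [Subgroup.mem_subgroupOf, hR]
    apply Subgroup.subset_closure
    show Nat.Coprime (orderOf (v : G)) p
    rw [Subgroup.orderOf_coe]; exact hv'
  by_contra hcon
  let q : V →* V ⧸ RV := QuotientGroup.mk' RV
  have hqsurj : Function.Surjective q := QuotientGroup.mk'_surjective RV
  have hqker : ∀ v : V, q v = 1 ↔ v ∈ RV := fun v => QuotientGroup.eq_one_iff v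
  set Nb : Subgroup (V ⧸ RV) := N.map q with hNb
  have hNbn : Nb.Normal := hNn.map q hqsurj
  have hNbne : Nb ≠ ⊥ := by
    intro hbot
    apply hcon
    intro n hn
    have : q n ∈ Nb := ⟨n, hn, rfl⟩
    rw [hbot, Subgroup.mem_bot, hqker] at this
    exact this
  have hpgV : IsPGroup p (V ⧸ RV) := quotient_pResidual_isPGroup p
  have hnil : Group.IsNilpotent (V ⧸ RV) := hpgV.isNilpotent
  have hlt : ⁅Nb, (⊤ : Subgroup (V ⧸ RV))⁆ < Nb := commutator_top_lt_of_nilpotent Nb hNbne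
  set M : Subgroup V := (⁅Nb, (⊤ : Subgroup (V ⧸ RV))⁆).comap q with hM
  have hMn : M.Normal := (Subgroup.commutator_normal Nb ⊤).comap q
  have hRVM : RV ≤ M := by
    intro v hv
    show q v ∈ ⁅Nb, (⊤ : Subgroup (V ⧸ RV))⁆
    rw [(hqker v).mpr hv]; exact Subgroup.one_mem _
  have hMle : M ≤ N := by
    intro x hx
    have h1 : q x ∈ Nb := hlt.le hx
    obtain ⟨n, hn, hnx⟩ := h1
    have h2 : n⁻¹ * x ∈ RV := by
      rw [← hqker, map_mul, map_inv, hnx, inv_mul_cancel]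
    have : x = n * (n⁻¹ * x) := by group
    rw [this]
    exact N.mul_mem hn (hRVN h2)
  have hcent : ⁅N, (⊤ : Subgroup V)⁆ ≤ M := by
    rw [Subgroup.commutator_le]
    intro n hn v _
    show q ⁅n, v⁆ ∈ ⁅Nb, (⊤ : Subgroup (V ⧸ RV))⁆
    rw [map_commutatorElement]
    exact Subgroup.commutator_mem_commutator ⟨n, hn, rfl⟩ (Subgroup.mem_top _)
  have hpq : IsPGroup p (V ⧸ M) := by
    intro y
    induction y using QuotientGroup.induction_on with
    | H v =>
      obtain ⟨k, hk⟩ := hpgV (q v)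
      refine ⟨k, ?_⟩
      rw [← QuotientGroup.mk_pow, QuotientGroup.eq_one_iff]
      apply hRVM
      rw [← hqker, map_pow]; exact hk
  -- `N ≤ V' RV`
  have hPidx : ¬ p ∣ ((P : Subgroup G).subgroupOf V).index := by
    intro hdvd
    exact P.not_dvd_index (dvd_trans hdvd (Subgroup.relIndex_dvd_index_of_le hPV))
  have hNcomm : ∀ n ∈ N, ∃ c ∈ commutator V, ∃ r ∈ RV, n = c * r := by
    intro n hn
    obtain ⟨s, hs, r, hr, hnsr⟩ := exists_mul_pResidual p ((P : Subgroup G).subgroupOf V) hPidx n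
    have hsN : s ∈ N := by
      have : s = n * r⁻¹ := by rw [hnsr]; group
      rw [this]
      exact N.mul_mem hn (N.inv_mem (hRVN hr))
    have hsP : (s : G) ∈ (P : Subgroup G) := Subgroup.mem_subgroupOf.mp hs
    have hsR : (s : G) ∈ R := Subgroup.mem_subgroupOf.mp hsN
    have h1 : (s : G) ∈ commutator G :=
      inf_pResidual_le_commutator (P : Subgroup G) P.2 (Subgroup.mem_inf.mpr ⟨hsP, hsR⟩)
    have h2 : (s : G) ∈ ⁅V, V⁆ := hfoc (Subgroup.mem_inf.mpr ⟨h1, hsP⟩)
    rw [← Subgroup.map_subtype_commutator] at h2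
    obtain ⟨c, hc, hcs⟩ := h2
    have hcs' : c = s := Subtype.ext hcs
    exact ⟨c, hc, r, hr, by rw [hcs']; exact hnsr⟩
  have hfrat : ∀ L : Subgroup (V ⧸ M), L ⊔ N.map (QuotientGroup.mk' M) = ⊤ → L = ⊤ := by
    intro L hL
    apply frattini_nongenerating
    rw [eq_top_iff, ← hL]
    refine sup_le le_sup_left (le_trans ?_ le_sup_right)
    rintro _ ⟨n, hn, rfl⟩
    obtain ⟨c, hc, r, hr, rfl⟩ := hNcomm n hn
    have hr1 : (QuotientGroup.mk' M) r = 1 := (QuotientGroup.eq_one_iff r).mpr (hRVM hr)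
    rw [map_mul, hr1, mul_one]
    apply commutator_le_frattini hpq
    have : (commutator V).map (QuotientGroup.mk' M) ≤ commutator (V ⧸ M) := by
      rw [commutator_def, commutator_def, Subgroup.map_commutator]
      exact Subgroup.commutator_mono le_top le_top
    exact this ⟨c, hc, rfl⟩
  have hVR : ∀ g : G, ∃ v ∈ V, ∃ r ∈ R, g = v * r := by
    intro g
    obtain ⟨s, hs, r, hr, hg⟩ := exists_mul_pResidual p (P : Subgroup G) P.not_dvd_index g
    exact ⟨s, hPV hs, r, hr, hg⟩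
  have hVidx : Nat.Coprime V.index p := by
    rw [Nat.coprime_comm, Nat.Prime.coprime_iff_not_dvd hp.out]
    intro hdvd
    exact P.not_dvd_index (dvd_trans hdvd (Subgroup.index_dvd_of_le hPV))
  obtain ⟨ψ, hψ⟩ := stem_lift V hVidx R hVR M hMle hcent hpq hfrat
  have hker : R ≤ ψ.ker := pResidual_le_ker_of_isPGroup p ψ hpq
  -- index computation
  have h1 : M.index = ψ.ker.index := by
    rw [Subgroup.index_ker, MonoidHom.range_eq_top.mpr hψ, Subgroup.card_top,
      Subgroup.index_eq_card]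
  have h2 : ψ.ker.index ∣ R.index := Subgroup.index_dvd_of_le hker
  have hsup : R ⊔ V = ⊤ := by
    rw [eq_top_iff]
    intro g _
    obtain ⟨v, hv, r, hr, rfl⟩ := hVR g
    exact Subgroup.mul_mem _ (Subgroup.mem_sup_right hv) (Subgroup.mem_sup_left hr)
  have h3 : R.index = N.index := by
    show R.index = R.relIndex V
    rw [← Subgroup.relIndex_top_right R, ← hsup]
    exact Subgroup.relIndex_sup_left V R
  have h4 : M.relIndex N * N.index = M.index := Subgroup.relIndex_mul_index hMle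
  have h5 : M.index ∣ N.index := by rw [h1, ← h3]; exact h2
  have hNpos : 0 < N.index := Nat.pos_of_ne_zero Subgroup.index_ne_zero_of_finite
  have h6 : M.relIndex N = 1 := by
    have h7 : M.relIndex N * N.index ≤ 1 * N.index := by
      rw [h4, one_mul]; exact Nat.le_of_dvd hNpos h5
    have h8 : M.relIndex N ≤ 1 := Nat.le_of_mul_le_mul_right h7 hNpos
    have h9 : M.relIndex N ≠ 0 := by
      intro h0
      rw [h0, zero_mul] at h4
      exact Subgroup.index_ne_zero_of_finite h4.symm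
    omega
  have hNM : N ≤ M := Subgroup.relIndex_eq_one.mp h6
  apply hlt.ne
  apply le_antisymm hlt.le
  rintro _ ⟨n, hn, rfl⟩
  exact hNM hn


end Cfsg.Agent.Helper2
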