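import Mathlib
import Cfsg.Agent.Lib.Helper11.ZJ10
import Cfsg.Agent.Lib.Helper23.ThompsonJ
import Cfsg.Agent.S0607

/-!
# `Z(J_e(P))`: basic facts about the centre of the (elementary abelian) Thompson subgroup,
expressed through the family `Fam` of largest elementary abelian subgroups (Helper11's `ZJ2`).
-/

set_option autoImplicit false
set_option linter.style.haveILetI false

namespace Cfsg.Agent.Helper2.ZJe

open Cfsg Cfsg.Agent.Helper11.ZJ
open scoped commutatorElement

variable {G : Type*} [Group G]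

/-- The class of elementary abelian subgroups. -/
abbrev EA (p : ℕ) : Subgroup G → Prop := fun A => IsElementaryAbelian p A

theorem mem_fam_iff [Finite G] {p : ℕ} (R X : Subgroup G) :
    X ∈ Fam (EA p) R ↔ X ∈ Set.image (fun A : Subgroup ↥R => A.map R.subtype)
      (maxElementaryAbelianSubgroups p ↥R) :=
  (Cfsg.Agent.S0652.mem_image_maxElemAb_iff R X).symm

theorem le_thompsonSubgroupOf_of_mem_fam [Finite G] {p : ℕ} {R U : Subgroup G}
    (hU : U ∈ Fam (EA p) R) : U ≤ thompsonSubgroupOf p R := by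
  obtain ⟨A', hA', rfl⟩ := (mem_fam_iff R U).mp hU
  unfold thompsonSubgroupOf thompsonSubgroup
  exact Subgroup.map_mono (le_sSup hA')

theorem thompsonSubgroupOf_le_of_forall [Finite G] {p : ℕ} {R X : Subgroup G}
    (h : ∀ U ∈ Fam (EA p) R, U ≤ X) : thompsonSubgroupOf p R ≤ X := by
  unfold thompsonSubgroupOf thompsonSubgroup
  rw [Subgroup.map_le_iff_le_comap]
  apply sSup_le
  intro A' hA'
  rw [← Subgroup.map_le_iff_le_comap]
  exact h _ ((mem_fam_iff R _).mpr ⟨A', hA', rfl⟩)

theorem comm_of_mem_fam {p : ℕ} {R U : Subgroup G} (hU : U ∈ Fam (EA p) R) {x y : G}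
    (hx : x ∈ U) (hy : y ∈ U) : x * y = y * x :=
  (Cfsg.Agent.Helper11.Repl.isMulCommutative_iff_forall U).mp hU.2.1.1 x hx y hy

/-- Elements of `Z(J_e(R))` commute with the members of the family. -/
theorem commute_center_fam [Finite G] {p : ℕ} {R U : Subgroup G} (hU : U ∈ Fam (EA p) R)
    {z u : G} (hz : z ∈ centerThompsonOf p R) (hu : u ∈ U) : u * z = z * u :=
  Subgroup.mem_centralizer_iff.mp hz.2 u (le_thompsonSubgroupOf_of_mem_fam hU hu)

theorem centerThompsonOf_le {p : ℕ} (R : Subgroup G) : centerThompsonOf p R ≤ R :=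
  inf_le_left.trans (Cfsg.Agent.Helper10.thompsonSubgroupOf_le R)

theorem centerThompsonOf_comm {p : ℕ} (R : Subgroup G) {x y : G}
    (hx : x ∈ centerThompsonOf p R) (hy : y ∈ centerThompsonOf p R) : x * y = y * x :=
  (Subgroup.mem_centralizer_iff.mp hy.2 x hx.1)

/-- An element lying in all members of the family lies in `Z(J_e(R))`. -/
theorem mem_center_of_forall_mem [Finite G] {p : ℕ} {R : Subgroup G} {x : G}
    (h : ∀ U ∈ Fam (EA p) R, x ∈ U) : x ∈ centerThompsonOf p R := by
  obtain ⟨U₀, hU₀⟩ := Fam_nonempty (goodAx_elemAb p) R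
  refine Subgroup.mem_inf.mpr ⟨le_thompsonSubgroupOf_of_mem_fam hU₀ (h U₀ hU₀), ?_⟩
  have h1 : thompsonSubgroupOf p R ≤ Subgroup.centralizer ({x} : Set G) := by
    apply thompsonSubgroupOf_le_of_forall
    intro U hU u hu
    rw [Subgroup.mem_centralizer_iff]
    intro y hy
    rw [Set.mem_singleton_iff] at hy
    rw [hy]
    exact comm_of_mem_fam hU (h U hU) hu
  rw [Subgroup.mem_centralizer_iff]
  intro y hy
  have := Subgroup.mem_centralizer_iff.mp (h1 hy) x rfl
  exact this.symm

/-- A centralizing element of order dividing `p` lies in each member of the family. -/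
theorem mem_of_commute_of_mem_fam [Finite G] {p : ℕ} {R U : Subgroup G}
    (hU : U ∈ Fam (EA p) R) {x : G} (hxR : x ∈ R) (hxp : x ^ p = 1)
    (hx : ∀ u ∈ U, u * x = x * u) : x ∈ U := by
  have hB := Cfsg.Agent.Helper11.isElementaryAbelian_sup_zpowers hU.2.1 hx hxp
  have hle : U ⊔ Subgroup.zpowers x ≤ R := by
    apply sup_le hU.1
    rw [Subgroup.zpowers_le]; exact hxR
  have hcard := hU.2.2 _ hle hB
  have h1 := Subgroup.eq_of_le_of_card_ge (le_sup_left : U ≤ U ⊔ Subgroup.zpowers x) hcard
  rw [h1]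
  exact Subgroup.mem_sup_right (Subgroup.mem_zpowers x)

/-- The normalizer of `J` normalizes `Z(J)`. -/
theorem normalizer_le_normalizer_inf_centralizer (J : Subgroup G) :
    Subgroup.normalizer (J : Set G) ≤
      Subgroup.normalizer ((J ⊓ Subgroup.centralizer (J : Set G) : Subgroup G) : Set G) := by
  intro g hg
  have key : ∀ g ∈ Subgroup.normalizer (J : Set G), ∀ x ∈ J ⊓ Subgroup.centralizer (J : Set G),
      g * x * g⁻¹ ∈ J ⊓ Subgroup.centralizer (J : Set G) := by
    intro g hg x hx
    refine Subgroup.mem_inf.mpr ⟨(Subgroup.mem_normalizer_iff.mp hg x).mp hx.1, ?_⟩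
    rw [Subgroup.mem_centralizer_iff]
    intro h hh
    have h1 : g⁻¹ * h * g ∈ J := by
      have := (Subgroup.mem_normalizer_iff.mp (Subgroup.inv_mem _ hg) h).mp hh
      simpa using this
    have h2 := Subgroup.mem_centralizer_iff.mp hx.2 _ h1
    calc h * (g * x * g⁻¹) = g * ((g⁻¹ * h * g) * x) * g⁻¹ := by group
      _ = g * (x * (g⁻¹ * h * g)) * g⁻¹ := by rw [h2]
      _ = g * x * g⁻¹ * h := by group
  rw [Subgroup.mem_normalizer_iff]
  intro x
  constructor
  · intro hx
    exact key g hg x hx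
  · intro hx
    have := key g⁻¹ (Subgroup.inv_mem _ hg) _ hx
    have e : g⁻¹ * (g * x * g⁻¹) * g⁻¹⁻¹ = x := by group
    rwa [e] at this

theorem normalizer_le_normalizer_centerThompsonOf (p : ℕ) (R : Subgroup G) :
    Subgroup.normalizer (R : Set G) ≤ Subgroup.normalizer (centerThompsonOf p R : Set G) :=
  (Cfsg.Agent.Helper23.normalizer_le_normalizer_thompsonSubgroupOf p R).trans
    (normalizer_le_normalizer_inf_centralizer _)

/-- If all largest elementary abelian subgroups of `S` lie in the normal subgroup `H ≤ S`, then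
`Z(J_e(S))` is normal. -/
theorem centerThompsonOf_normal_of_forall_le [Finite G] {p : ℕ} [Fact p.Prime] {S H : Subgroup G}
    [hH : H.Normal] (hHS : H ≤ S) (h : ∀ U ∈ Fam (EA p) S, U ≤ H) :
    (centerThompsonOf p S).Normal := by
  have hJ : thompsonSubgroupOf p S ≤ H := thompsonSubgroupOf_le_of_forall h
  have h1 := Cfsg.Agent.Helper23.thompsonSubgroupOf_eq_of_le hHS hJ
  have h2 : Subgroup.normalizer (centerThompsonOf p H : Set G) = ⊤ := by
    rw [eq_top_iff, ← Subgroup.normalizer_eq_top_iff.mpr hH]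
    exact normalizer_le_normalizer_centerThompsonOf p H
  have h3 : centerThompsonOf p S = centerThompsonOf p H := by
    unfold centerThompsonOf
    rw [h1]
  rw [h3]
  exact Subgroup.normalizer_eq_top_iff.mp h2

end Cfsg.Agent.Helper2.ZJe
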