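import Mathlib
import Cfsg.Agent.Lib.Helper2.ZJe1
import Cfsg.Agent.Lib.Helper2.CyclicSylow
import Cfsg.Agent.Lib.Helper24.Omega1

/-!
# `Z(J_e(P))`: auxiliary lemmas (quadratic replacement inside `G`, the preimage of
`O_p(G / C_G(V))` when a Sylow subgroup is maximal, commutator power identity).
-/

set_option autoImplicit false
set_option linter.style.haveILetI false

namespace Cfsg.Agent.Helper2.ZJe

open Cfsg Cfsg.Agent.Helper11.ZJ
open scoped commutatorElement

variable {G : Type*} [Group G]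

/-- Thompson replacement inside `G`: for an elementary abelian `V` normalized by `S`, every largest
elementary abelian subgroup `U` of `S` can be replaced by one acting quadratically on `V`, which
centralizes `V` only if `U` does. -/
theorem exists_quadratic_replacement [Finite G] {p : ℕ} [Fact p.Prime] {S V U : Subgroup G}
    (hVS : V ≤ S) (hVn : S ≤ Subgroup.normalizer (V : Set G)) (hVe : IsElementaryAbelian p V)
    (hU : U ∈ Fam (EA p) S) :
    ∃ U' ∈ Fam (EA p) S, ⁅⁅V, U'⁆, U'⁆ = ⊥ ∧ (⁅V, U'⁆ = ⊥ → ⁅V, U⁆ = ⊥) := by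
  obtain ⟨A', hA', rfl⟩ := (mem_fam_iff S U).mp hU
  set V' : Subgroup ↥S := V.subgroupOf S with hV'
  haveI hV'n : V'.Normal := (Subgroup.normal_subgroupOf_iff_le_normalizer hVS).mpr hVn
  have hVeq : V'.map S.subtype = V := Subgroup.map_subgroupOf_eq_of_le hVS
  have hV'e : IsElementaryAbelian p V' := by
    rw [← Cfsg.Agent.S0652.isElementaryAbelian_map_subtype, hVeq]; exact hVe
  obtain ⟨hmem, hquad, hnt⟩ := Cfsg.Agent.S0607.result V' hV'e A' hA'
  set As : Subgroup ↥S :=
    ⁅V', A'⁆ ⊔ (A' ⊓ Subgroup.centralizer ((⁅V', A'⁆ : Subgroup ↥S) : Set ↥S)) with hAs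
  have hinj : Function.Injective S.subtype := S.subtype_injective
  refine ⟨As.map S.subtype, (mem_fam_iff S _).mpr ⟨As, hmem, rfl⟩, ?_, ?_⟩
  · rw [← hVeq, ← Subgroup.map_commutator, ← Subgroup.map_commutator, hquad, Subgroup.map_bot]
  · intro h
    rw [← hVeq, ← Subgroup.map_commutator] at h
    have h1 : ⁅V', As⁆ = ⊥ := (Subgroup.map_eq_bot_iff_of_injective _ hinj).mp h
    have h2 : ⁅V', A'⁆ = ⊥ := by
      by_contra hne
      exact hnt hne h1
    rw [← hVeq, ← Subgroup.map_commutator, h2, Subgroup.map_bot]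

/-- If a Sylow `p`-subgroup `S` is a maximal subgroup and some `p'`-element does not centralize the
normal subgroup `V`, then the preimage of `O_p(G / C_G(V))` lies in `O_p(G)`. -/
theorem stabL_le_pCore [Finite G] {p : ℕ} [hp : Fact p.Prime] (S : Sylow p G)
    (hco : IsCoatom (S : Subgroup G)) (V : Subgroup G) [V.Normal]
    (hnc : ∃ g : G, (orderOf g).Coprime p ∧ g ∉ Subgroup.centralizer (V : Set G)) :
    stabL p V ≤ pCore p G := by
  haveI hLn : (stabL p V).Normal := stabL_normal p V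
  by_cases h : (S : Subgroup G) ⊔ stabL p V = ⊤
  · exfalso
    obtain ⟨g, hg, hgV⟩ := hnc
    apply hgV
    have hgtop : g ∈ (S : Subgroup G) ⊔ stabL p V := by rw [h]; trivial
    obtain ⟨s, hs, l, hl, rfl⟩ := Subgroup.mem_sup_of_normal_right.mp hgtop
    obtain ⟨j, hj⟩ := (isPGroup_subgroup_iff'.mp S.isPGroup') s hs
    -- `(s * l) ^ p ^ j ∈ stabL`
    have h1 : (s * l) ^ p ^ j ∈ stabL p V := by
      rw [← QuotientGroup.eq_one_iff, QuotientGroup.mk_pow, QuotientGroup.mk_mul,
        (QuotientGroup.eq_one_iff l).mpr hl, mul_one, ← QuotientGroup.mk_pow, hj]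
      rfl
    obtain ⟨i, hi⟩ := stabL_pow V h1
    rw [← pow_mul, ← pow_add] at hi
    apply Cfsg.Agent.Helper2.mem_of_pow_mem_of_coprime (Subgroup.centralizer (V : Set G)) (s * l)
      (a := orderOf (s * l)) (b := p ^ (j + i)) (Nat.Coprime.pow_right _ hg)
    · rw [pow_orderOf_eq_one]; exact Subgroup.one_mem _
    · exact hi
  · have h1 : (S : Subgroup G) ⊔ stabL p V = (S : Subgroup G) := by
      by_contra hne
      exact h (hco.2 _ (lt_of_le_of_ne le_sup_left (Ne.symm hne)))
    have h2 : stabL p V ≤ (S : Subgroup G) := by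
      rw [← h1]; exact le_sup_right
    exact le_pCore' hLn (S.isPGroup'.to_le h2)

/-- If a Sylow `p`-subgroup is a maximal subgroup, a subgroup containing it and all `p'`-elements is
everything. -/
theorem eq_top_of_sylow_le_of_pprime_mem [Finite G] {p : ℕ} [hp : Fact p.Prime] (S : Sylow p G)
    (hco : IsCoatom (S : Subgroup G)) (N : Subgroup G) (hSN : (S : Subgroup G) ≤ N)
    (hN : ∀ g : G, (orderOf g).Coprime p → g ∈ N) : N = ⊤ := by
  by_contra hne
  have h1 : N = (S : Subgroup G) := by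
    by_contra hne'
    exact hne (hco.2 _ (lt_of_le_of_ne hSN (Ne.symm hne')))
  -- the index of `S` is not `1`
  have hidx : (S : Subgroup G).index ≠ 1 := by
    intro h
    exact hco.1 (Subgroup.index_eq_one.mp h)
  obtain ⟨q, hq, hqd⟩ := Nat.exists_prime_and_dvd hidx
  haveI : Fact q.Prime := ⟨hq⟩
  have hqp : q ≠ p := by
    intro h
    rw [h] at hqd
    exact S.not_dvd_index hqd
  have hqG : q ∣ Nat.card G := dvd_trans hqd (Subgroup.index_dvd_card _)
  obtain ⟨g, hg⟩ := exists_prime_orderOf_dvd_card' q hqG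
  have hgN : g ∈ N := by
    apply hN
    rw [hg]
    exact (Nat.coprime_primes hq hp.out).mpr hqp
  rw [h1] at hgN
  obtain ⟨j, hj⟩ := (isPGroup_subgroup_iff'.mp S.isPGroup') g hgN
  have h2 : orderOf g ∣ p ^ j := orderOf_dvd_of_pow_eq_one hj
  rw [hg] at h2
  exact hqp ((Nat.prime_dvd_prime_iff_eq hq hp.out).mp (hq.dvd_of_dvd_pow h2))

/-- If `⁅z, b⁆` commutes with `z` then `⁅z ^ n, b⁆ = ⁅z, b⁆ ^ n`. -/
theorem commutatorElement_pow_left {z b : G} (h : ⁅z, b⁆ * z = z * ⁅z, b⁆) (n : ℕ) :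
    ⁅z ^ n, b⁆ = ⁅z, b⁆ ^ n := by
  induction n with
  | zero => simp [commutatorElement_def]
  | succ n ih =>
    have h1 : ⁅z ^ (n + 1), b⁆ = z * ⁅z ^ n, b⁆ * z⁻¹ * ⁅z, b⁆ := by
      simp only [commutatorElement_def, pow_succ']; group
    have hc : Commute (⁅z, b⁆) z := h
    have h2 : z * ⁅z, b⁆ ^ n * z⁻¹ = ⁅z, b⁆ ^ n := by
      have := (hc.pow_left n).eq
      rw [← this]; group
    rw [h1, ih, h2, ← pow_succ]

/-- The centralizer of a set closed under conjugation is normal. -/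
theorem centralizer_normal_of_conj_invariant (T : Set G)
    (hT : ∀ t ∈ T, ∀ g : G, g * t * g⁻¹ ∈ T) : (Subgroup.centralizer T).Normal := by
  refine ⟨fun x hx g => ?_⟩
  rw [Subgroup.mem_centralizer_iff] at hx ⊢
  intro t ht
  have h1 := hx _ (hT t ht g⁻¹)
  rw [inv_inv] at h1
  calc t * (g * x * g⁻¹) = g * ((g⁻¹ * t * g) * x) * g⁻¹ := by group
    _ = g * (x * (g⁻¹ * t * g)) * g⁻¹ := by rw [h1]
    _ = g * x * g⁻¹ * t := by group

end Cfsg.Agent.Helper2.ZJe
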