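import Mathlib
import Cfsg.Agent.Lib.Helper2.ZJe2
import Cfsg.Agent.Lib.Helper31.GTStable

/-!
# `Z(J_e(S))` is normal when the Sylow subgroup `S` is a maximal subgroup, `C_G(O_p(G)) ≤ O_p(G)`
and `G` is `p`-stable on its normal `p`-subgroups (`p` odd).

`J_e(S)` is generated by the elementary abelian subgroups of `S` of largest order.  (The usual
`ZJ`-theorem for this version of the Thompson subgroup only gives `Ω₁(Z(J_e(S)))`.)
-/

set_option autoImplicit false
set_option linter.style.haveILetI false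
set_option maxHeartbeats 1000000

namespace Cfsg.Agent.Helper2.ZJe

open Cfsg Cfsg.Agent.Helper11.ZJ
open scoped commutatorElement

variable {G : Type*} [Group G]

/-- Main induction: `Z(J_e(S)) ∩ B` is normal in `G` for every normal `p`-subgroup `B`. -/
theorem ZJe_inf_normal [Finite G] {p : ℕ} [Fact p.Prime] (hp : p ≠ 2) (S : Sylow p G)
    (hco : IsCoatom (S : Subgroup G))
    (hst : ∀ (V : Subgroup G) [V.Normal], IsPGroup p V → ∀ A : Subgroup G, A ≤ (S : Subgroup G) →
      ⁅⁅V, A⁆, A⁆ = ⊥ → A ≤ stabL p V) :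
    ∀ n : ℕ, ∀ B : Subgroup G, B.Normal → IsPGroup p B → Nat.card B = n →
      (centerThompsonOf p (S : Subgroup G) ⊓ B).Normal := by
  intro n
  induction n using Nat.strong_induction_on with
  | _ n ih =>
  intro B hBn hBp hcard
  by_contra hnot
  haveI := hBn
  set Z := centerThompsonOf p (S : Subgroup G) with hZ
  set H := pCore p G with hH
  haveI hHn : H.Normal := pCore_normal' p G
  have hHp : IsPGroup p H := isPGroup_pCore'
  have hHS : H ≤ (S : Subgroup G) := pCore_le_sylow' S
  have hBP : B ≤ (S : Subgroup G) := hBp.le_sylow_of_normal S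
  have hBH : B ≤ H := le_pCore' hBn hBp
  have hZS : Z ≤ (S : Subgroup G) := centerThompsonOf_le _
  have hSNZ : (S : Subgroup G) ≤ Subgroup.normalizer (Z : Set G) :=
    Subgroup.le_normalizer.trans (normalizer_le_normalizer_centerThompsonOf p _)
  have hZcomm : ∀ x ∈ Z, ∀ y ∈ Z, x * y = y * x := fun x hx y hy =>
    centerThompsonOf_comm _ hx hy
  -- `B` is the normal closure of `Z ∩ B`
  have hB0 : Subgroup.normalClosure ((Z ⊓ B : Subgroup G) : Set G) = B := by
    by_contra hne
    have hle : Subgroup.normalClosure ((Z ⊓ B : Subgroup G) : Set G) ≤ B :=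
      Subgroup.normalClosure_le_normal inf_le_right
    have hlt := card_lt_of_lt' (lt_of_le_of_ne hle hne)
    have h1 := ih _ (hcard ▸ hlt) _ Subgroup.normalClosure_normal (hBp.to_le hle) rfl
    have heq : Z ⊓ Subgroup.normalClosure ((Z ⊓ B : Subgroup G) : Set G) = Z ⊓ B :=
      le_antisymm (inf_le_inf_left _ hle) (le_inf inf_le_left Subgroup.subset_normalClosure)
    rw [heq] at h1
    exact hnot h1
  have hBne : B ≠ ⊥ := by
    intro h
    apply hnot
    rw [h, inf_bot_eq]
    infer_instance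
  have hB'lt : ⁅B, B⁆ < B :=
    lt_of_le_of_ne (Subgroup.commutator_le_right B B) (commutator_ne_self hBp hBne)
  have hYn : (Z ⊓ ⁅B, B⁆).Normal :=
    ih _ (hcard ▸ card_lt_of_lt' hB'lt) _ inferInstance (hBp.to_le (le_of_lt hB'lt)) rfl
  haveI := hYn
  have h1 : ⁅Z ⊓ B, B⁆ ≤ Z ⊓ ⁅B, B⁆ := by
    rw [Subgroup.commutator_le]
    intro z hz b hb
    refine Subgroup.mem_inf.mpr ⟨?_, Subgroup.commutator_mem_commutator hz.2 hb⟩
    have hbN := hSNZ (hBP hb)
    have h1 : b * z⁻¹ * b⁻¹ ∈ Z :=
      (Subgroup.mem_normalizer_iff.mp hbN z⁻¹).mp (inv_mem hz.1)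
    have : ⁅z, b⁆ = z * (b * z⁻¹ * b⁻¹) := by rw [commutatorElement_def]; group
    rw [this]; exact mul_mem hz.1 h1
  have h2 := commutator_normalClosure_le h1
  rw [hB0] at h2
  have hB'Z : ⁅B, B⁆ ≤ Z := h2.trans inf_le_left
  -- normal subgroups of `G` inside `Z` are centralized by `B`
  have hcent : ∀ Y : Subgroup G, Y.Normal → Y ≤ Z → B ≤ Subgroup.centralizer (Y : Set G) := by
    intro Y hYn hYZ
    haveI := hYn
    rw [← hB0]
    apply Subgroup.normalClosure_le_normal
    intro z hz
    rw [SetLike.mem_coe, Subgroup.mem_centralizer_iff]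
    intro y hy
    exact hZcomm y (hYZ hy) z hz.1
  have hcentB' : B ≤ Subgroup.centralizer ((⁅B, B⁆ : Subgroup G) : Set G) :=
    hcent _ inferInstance hB'Z
  -- a chief factor `B / M`
  obtain ⟨M, hMn, hMB, hchief⟩ : ∃ M : Subgroup G, M.Normal ∧ M < B ∧
      ∀ X : Subgroup G, X.Normal → M ≤ X → X ≤ B → X = M ∨ X = B := by
    classical
    let XS : Set (Subgroup G) := {M | M.Normal ∧ M < B}
    have hfin : XS.Finite := Set.toFinite XS
    have hne : XS.Nonempty := ⟨⊥, inferInstance, bot_lt_iff_ne_bot.mpr hBne⟩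
    obtain ⟨M, hM, hmax⟩ := Set.exists_max_image XS (fun N => Nat.card N) hfin hne
    refine ⟨M, hM.1, hM.2, ?_⟩
    intro X hXn hMX hXB
    by_cases hXeq : X = B
    · exact Or.inr hXeq
    · left
      have hX : X ∈ XS := ⟨hXn, lt_of_le_of_ne hXB hXeq⟩
      exact (Subgroup.eq_of_le_of_card_ge hMX (hmax X hX)).symm
  haveI := hMn
  have hMpow : ∀ v ∈ B, v ^ p ∈ M :=
    (Cfsg.Agent.Helper31.GT.chief_props H B M hHp hMB hBH hchief).2
  have hZMn : (Z ⊓ M).Normal :=
    ih _ (hcard ▸ card_lt_of_lt' hMB) _ hMn (hBp.to_le (le_of_lt hMB)) rfl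
  have hcentM : B ≤ Subgroup.centralizer ((Z ⊓ M : Subgroup G) : Set G) :=
    hcent _ hZMn inf_le_left
  -- the derived subgroup has exponent `p`
  let T : Subgroup G :=
    { carrier := {c | c ∈ ⁅B, B⁆ ∧ c ^ p = 1}
      one_mem' := ⟨one_mem _, one_pow _⟩
      mul_mem' := by
        rintro a b ⟨ha, hap⟩ ⟨hb, hbp⟩
        refine ⟨mul_mem ha hb, ?_⟩
        have hab : Commute a b := hZcomm a (hB'Z ha) b (hB'Z hb)
        rw [hab.mul_pow, hap, hbp, one_mul]
      inv_mem' := by
        rintro a ⟨ha, hap⟩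
        exact ⟨inv_mem ha, by rw [inv_pow, hap, inv_one]⟩ }
  have hTn : T.Normal := by
    refine ⟨fun c hc g => ⟨?_, ?_⟩⟩
    · exact (inferInstance : (⁅B, B⁆ : Subgroup G).Normal).conj_mem c hc.1 g
    · rw [conj_pow, hc.2]; group
  haveI := hTn
  have hZBT : ⁅Z ⊓ B, B⁆ ≤ T := by
    rw [Subgroup.commutator_le]
    intro z hz b hb
    refine ⟨Subgroup.commutator_mem_commutator hz.2 hb, ?_⟩
    have hcB' : ⁅z, b⁆ ∈ ⁅B, B⁆ := Subgroup.commutator_mem_commutator hz.2 hb
    have hcz : ⁅z, b⁆ * z = z * ⁅z, b⁆ :=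
      Subgroup.mem_centralizer_iff.mp (hcentB' hz.2) _ hcB'
    rw [← commutatorElement_pow_left hcz p]
    have hzp : z ^ p ∈ Z ⊓ M := Subgroup.mem_inf.mpr ⟨Z.pow_mem hz.1 p, hMpow z hz.2⟩
    have hcomm : z ^ p * b = b * z ^ p := Subgroup.mem_centralizer_iff.mp (hcentM hb) _ hzp
    rw [commutatorElement_eq_one_iff_commute]
    exact hcomm
  have h3 := commutator_normalClosure_le hZBT
  rw [hB0] at h3
  have hB'p : ∀ c ∈ ⁅B, B⁆, c ^ p = 1 := fun c hc => (h3 hc).2
  -- so the derived subgroup lies in every member of the family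
  have hB'U : ∀ U ∈ Fam (EA p) (S : Subgroup G), ⁅B, B⁆ ≤ U := by
    intro U hU c hc
    apply mem_of_commute_of_mem_fam hU (hZS (hB'Z hc)) (hB'p c hc)
    intro u hu
    exact commute_center_fam hU (hB'Z hc) hu
  obtain ⟨U, hU, hnU⟩ : ∃ U ∈ Fam (EA p) (S : Subgroup G), ¬ B ≤ U := by
    by_contra hcon
    have hall : ∀ U ∈ Fam (EA p) (S : Subgroup G), B ≤ U := by
      intro U hU
      by_contra h
      exact hcon ⟨U, hU, h⟩
    have hBZ : B ≤ Z := by
      intro b hb
      apply mem_center_of_forall_mem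
      intro U hU
      exact hall U hU hb
    apply hnot
    rw [inf_eq_right.mpr hBZ]
    exact hBn
  obtain ⟨A, hA, hBA, hnBA, hBNA⟩ :=
    exists_normalized (goodAx_elemAb p) hp S.isPGroup' B hBP hU (hB'U U hU) hnU
  have hquad : ⁅⁅B, A⁆, A⁆ = ⊥ := by
    have h3 : ⁅B, A⁆ ≤ A := by
      rw [Subgroup.commutator_le]
      intro b hb a ha
      have h4 : b * a * b⁻¹ ∈ A := (Subgroup.mem_normalizer_iff.mp (hBNA hb) a).mp ha
      have : ⁅b, a⁆ = b * a * b⁻¹ * a⁻¹ := commutatorElement_def b a
      rw [this]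
      exact A.mul_mem h4 (A.inv_mem ha)
    rw [eq_bot_iff]
    refine (Subgroup.commutator_mono h3 le_rfl).trans ?_
    rw [Subgroup.commutator_le]
    intro x hx y hy
    have hc := comm_of_mem_fam hA hx hy
    rw [Subgroup.mem_bot, commutatorElement_def, hc]
    group
  have hAL : A ≤ stabL p B := hst B hBp A hA.1 hquad
  -- some `p'`-element does not centralize `B`
  have hncB : ∃ g : G, (orderOf g).Coprime p ∧ g ∉ Subgroup.centralizer (B : Set G) := by
    by_contra hcon
    have hall : ∀ g : G, (orderOf g).Coprime p → g ∈ Subgroup.centralizer (B : Set G) := by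
      intro g hg
      by_contra h
      exact hcon ⟨g, hg, h⟩
    have hN : Subgroup.normalizer ((Z ⊓ B : Subgroup G) : Set G) = ⊤ := by
      apply eq_top_of_sylow_le_of_pprime_mem S hco
      · intro s hs
        have hsZ := hSNZ hs
        rw [Subgroup.mem_normalizer_iff]
        intro x
        constructor
        · intro hx
          exact Subgroup.mem_inf.mpr
            ⟨(Subgroup.mem_normalizer_iff.mp hsZ x).mp hx.1, hBn.conj_mem x hx.2 s⟩
        · intro hx
          refine Subgroup.mem_inf.mpr ⟨(Subgroup.mem_normalizer_iff.mp hsZ x).mpr hx.1, ?_⟩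
          have := hBn.conj_mem _ hx.2 s⁻¹
          have e : s⁻¹ * (s * x * s⁻¹) * s⁻¹⁻¹ = x := by group
          rwa [e] at this
      · intro g hg
        have hgB := Subgroup.mem_centralizer_iff.mp (hall g hg)
        have key : ∀ x ∈ B, g * x * g⁻¹ = x := by
          intro x hx
          rw [← hgB x hx]; group
        rw [Subgroup.mem_normalizer_iff]
        intro x
        constructor
        · intro hx
          rw [key x hx.2]; exact hx
        · intro hx
          have h2 := hBn.conj_mem _ hx.2 g⁻¹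
          have e : g⁻¹ * (g * x * g⁻¹) * g⁻¹⁻¹ = x := by group
          rw [e] at h2
          rw [key x h2] at hx
          exact hx
    exact hnot (Subgroup.normalizer_eq_top_iff.mp hN)
  have hLB : stabL p B ≤ H := stabL_le_pCore S hco B hncB
  have hAH : A ≤ H := hAL.trans hLB
  have hFamHS : Fam (EA p) H ⊆ Fam (EA p) (S : Subgroup G) := Fam_subset hA hAH hHS
  -- `B` centralizes the largest elementary abelian subgroups of `H`
  let T₂ : Set G := {a | ∃ A' ∈ Fam (EA p) H, a ∈ A'}
  have hT₂ : ∀ t ∈ T₂, ∀ g : G, g * t * g⁻¹ ∈ T₂ := by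
    rintro t ⟨A', hA', ht⟩ g
    have h4 := Fam_map (goodAx_elemAb p) (MulAut.conj g) hA'
    have h5 : H.map (MulAut.conj g).toMonoidHom = H := Subgroup.Normal.map_conj_eq H g
    rw [h5] at h4
    exact ⟨_, h4, ⟨t, ht, rfl⟩⟩
  haveI hCJn := centralizer_normal_of_conj_invariant T₂ hT₂
  have hBCJ : B ≤ Subgroup.centralizer T₂ := by
    rw [← hB0]
    apply Subgroup.normalClosure_le_normal
    intro z hz
    rw [SetLike.mem_coe, Subgroup.mem_centralizer_iff]
    rintro a ⟨A', hA', ha⟩
    exact commute_center_fam (hFamHS hA') hz.1 ha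
  -- the elementary abelian normal subgroup `V`
  set WH := W (EA p) H with hWH
  have hWHn : WH.Normal := by
    refine ⟨fun x hx g => ?_⟩
    have hg : g ∈ Subgroup.normalizer (H : Set G) := by
      rw [Subgroup.normalizer_eq_top]; trivial
    have h4 : WH.map (MulAut.conj g).toMonoidHom = WH := W_conj_eq (goodAx_elemAb p) hg
    rw [← h4]
    exact ⟨x, hx, rfl⟩
  haveI := hWHn
  set V := WH ⊓ B with hV
  haveI hVn : V.Normal := Subgroup.normal_inf_normal _ _
  have hVp : IsPGroup p V := hBp.to_le inf_le_right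
  have hVe : IsElementaryAbelian p V := by
    obtain ⟨A₀, hA₀⟩ := Fam_nonempty (goodAx_elemAb p) H
    exact Cfsg.Agent.Helper10.elemAb_mono hA₀.2.1 (inf_le_left.trans (W_le_of_mem hA₀))
  have hncV : ∃ g : G, (orderOf g).Coprime p ∧ g ∉ Subgroup.centralizer (V : Set G) := by
    by_contra hcon
    have hallV : ∀ g : G, (orderOf g).Coprime p → g ∈ Subgroup.centralizer (V : Set G) := by
      intro g hg
      by_contra h
      exact hcon ⟨g, hg, h⟩
    obtain ⟨g, hg, hgB⟩ := hncB
    apply hgB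
    have hcop : (Nat.card (Subgroup.zpowers g)).Coprime p := by
      rw [Nat.card_zpowers]; exact hg
    have hnorm : Subgroup.zpowers g ≤ Subgroup.normalizer (B : Set G) := by
      rw [Subgroup.normalizer_eq_top]; exact le_top
    have hgV : Subgroup.zpowers g ≤ Subgroup.centralizer (V : Set G) :=
      Subgroup.zpowers_le.mpr (hallV g hg)
    have hfix : ∀ x ∈ B, x ^ p = 1 → ∀ a ∈ Subgroup.zpowers g, a * x = x * a := by
      intro x hx hxp a ha
      have hxV : x ∈ V := by
        refine Subgroup.mem_inf.mpr ⟨?_, hx⟩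
        show x ∈ sInf (Fam (EA p) H)
        rw [Subgroup.mem_sInf]
        intro A' hA'
        apply mem_of_commute_of_mem_fam hA' (hBH hx) hxp
        intro u hu
        exact Subgroup.mem_centralizer_iff.mp (hBCJ hx) u ⟨A', hA', hu⟩
      exact (Subgroup.mem_centralizer_iff.mp (hgV ha) x hxV).symm
    have h5 := Cfsg.Agent.Helper24.le_centralizer_of_centralizes_omega_one p hp
      (Subgroup.zpowers g) hcop (Nat.card B) B rfl hBp hnorm hfix
    exact h5 (Subgroup.mem_zpowers g)
  have hLV : stabL p V ≤ H := stabL_le_pCore S hco V hncV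
  have hVS : V ≤ (S : Subgroup G) := inf_le_right.trans hBP
  have hVnS : (S : Subgroup G) ≤ Subgroup.normalizer (V : Set G) := by
    rw [Subgroup.normalizer_eq_top]; exact le_top
  -- all largest elementary abelian subgroups of `S` lie in `H`
  have hall : ∀ U ∈ Fam (EA p) (S : Subgroup G), U ≤ H := by
    intro U hU
    obtain ⟨U', hU', hq, himp⟩ := exists_quadratic_replacement hVS hVnS hVe hU
    have hU'L : U' ≤ stabL p V := hst V hVp U' hU'.1 hq
    have hU'H : U' ≤ H := hU'L.trans hLV
    have hU'F : U' ∈ Fam (EA p) H := Fam_mono hU' hU'H hHS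
    have hVU' : V ≤ U' := inf_le_left.trans (W_le_of_mem hU'F)
    have hcomm : ⁅V, U'⁆ = ⊥ := by
      rw [eq_bot_iff]
      refine (Subgroup.commutator_mono hVU' le_rfl).trans ?_
      rw [Subgroup.commutator_le]
      intro x hx y hy
      have hc := comm_of_mem_fam hU' hx hy
      rw [Subgroup.mem_bot, commutatorElement_def, hc]
      group
    have hVU : ⁅V, U⁆ = ⊥ := himp hcomm
    have h6 : V ≤ Subgroup.centralizer (U : Set G) :=
      Subgroup.commutator_eq_bot_iff_le_centralizer.mp hVU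
    have h7 : U ≤ Subgroup.centralizer (V : Set G) := Subgroup.le_centralizer_iff.mp h6
    exact (h7.trans (centralizer_le_stabL p V)).trans hLV
  haveI hZn : Z.Normal := centerThompsonOf_normal_of_forall_le hHS hall
  exact hnot (Subgroup.normal_inf_normal _ _)

/-- `Z(J_e(S))` is normal in `G`. -/
theorem centerThompsonOf_normal [Finite G] {p : ℕ} [Fact p.Prime] (hp : p ≠ 2)
    (hc : Subgroup.centralizer (pCore p G : Set G) ≤ pCore p G) (S : Sylow p G)
    (hco : IsCoatom (S : Subgroup G))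
    (hst : ∀ (V : Subgroup G) [V.Normal], IsPGroup p V → ∀ A : Subgroup G, A ≤ (S : Subgroup G) →
      ⁅⁅V, A⁆, A⁆ = ⊥ → A ≤ stabL p V) :
    (centerThompsonOf p (S : Subgroup G)).Normal := by
  haveI hQn := pCore_normal' p G
  have hQp : IsPGroup p (pCore p G) := isPGroup_pCore'
  have hQS : pCore p G ≤ (S : Subgroup G) := pCore_le_sylow' S
  set Z := centerThompsonOf p (S : Subgroup G) with hZ
  have hZS : Z ≤ (S : Subgroup G) := centerThompsonOf_le _
  have hSNZ : (S : Subgroup G) ≤ Subgroup.normalizer (Z : Set G) :=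
    Subgroup.le_normalizer.trans (normalizer_le_normalizer_centerThompsonOf p _)
  have hquad : ⁅⁅pCore p G, Z⁆, Z⁆ = ⊥ := by
    have h3 : ⁅pCore p G, Z⁆ ≤ Z := by
      rw [Subgroup.commutator_le]
      intro b hb a ha
      have hbN := hSNZ (hQS hb)
      have h4 : b * a * b⁻¹ ∈ Z := (Subgroup.mem_normalizer_iff.mp hbN a).mp ha
      have : ⁅b, a⁆ = b * a * b⁻¹ * a⁻¹ := commutatorElement_def b a
      rw [this]
      exact Subgroup.mul_mem _ h4 (Subgroup.inv_mem _ ha)
    rw [eq_bot_iff]
    refine (Subgroup.commutator_mono h3 le_rfl).trans ?_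
    rw [Subgroup.commutator_le]
    intro x hx y hy
    have hc' := centerThompsonOf_comm _ hx hy
    rw [Subgroup.mem_bot, commutatorElement_def, hc']
    group
  have hWL := hst (pCore p G) hQp _ hZS hquad
  have hLp : IsPGroup p (stabL p (pCore p G)) := isPGroup_stabL (pCore p G) (hQp.to_le hc)
  have hLQ : stabL p (pCore p G) ≤ pCore p G := le_pCore' (stabL_normal p (pCore p G)) hLp
  have h5 := ZJe_inf_normal hp S hco hst _ (pCore p G) hQn hQp rfl
  rw [inf_eq_left.mpr (hWL.trans hLQ)] at h5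
  exact h5

end Cfsg.Agent.Helper2.ZJe
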