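import Mathlib
import Cfsg.Prelude.Def_ConjugacyFunctors
import Cfsg.Agent.Lib.Helper2.ZJe3
import Cfsg.Agent.Lib.Helper31.GTGeneric
import Cfsg.Agent.Lib.Helper2.Frobenius

/-!
# The Glauberman–Thompson normal `p`-complement theorem for `Z(J_e(P))`
(`J_e` generated by the elementary abelian subgroups of largest order).
-/

set_option autoImplicit false
set_option linter.style.haveILetI false

namespace Cfsg.Agent.Helper2.ZJe

open Cfsg Cfsg.Agent.Helper11.ZJ

universe u

/-- The functor `Q ↦ Z(J_e(Q))`. -/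
def zjFunctor (p : ℕ) : ∀ (Q : Type u) [Group Q], Subgroup Q := fun Q _ =>
  thompsonSubgroup p Q ⊓ Subgroup.centralizer (thompsonSubgroup p Q : Set Q)

theorem inducedFunctor_zjFunctor {G : Type u} [Group G] (p : ℕ) (P : Subgroup G) :
    inducedFunctor (zjFunctor.{u} p) P = centerThompsonOf p P :=
  (centerThompsonOf_eq' p P).symm

theorem isCharPFunctor_zjFunctor (p : ℕ) [hp : Fact p.Prime] :
    IsCharPFunctor.{u} p (zjFunctor.{u} p) := by
  constructor
  · intro Q _ _ hQ hnt
    have hdvd : p ∣ Nat.card Q := by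
      obtain ⟨k, hk⟩ := IsPGroup.iff_card.mp hQ
      have hk0 : k ≠ 0 := by
        rintro rfl
        rw [pow_zero] at hk
        have := (Nat.card_eq_one_iff_unique.mp hk).1
        exact not_subsingleton Q this
      rw [hk]; exact dvd_pow_self p hk0
    have hJ : thompsonSubgroup p Q ≠ ⊥ := (Cfsg.Agent.S0602.result (G := Q) (p := p)).2 hdvd
    set J := thompsonSubgroup p Q with hJdef
    haveI : Nontrivial ↥J := (Subgroup.nontrivial_iff_ne_bot J).mpr hJ
    have hJp : IsPGroup p ↥J := hQ.to_subgroup J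
    haveI := hJp.center_nontrivial
    obtain ⟨z, hz⟩ := exists_ne (1 : ↥(Subgroup.center ↥J))
    intro hbot
    have hzmem : ((z : ↥J) : Q) ∈ zjFunctor p Q := by
      refine Subgroup.mem_inf.mpr ⟨(z : ↥J).2, ?_⟩
      rw [Subgroup.mem_centralizer_iff]
      intro y hy
      have := (Subgroup.mem_center_iff.mp z.2) ⟨y, hy⟩
      exact congrArg Subtype.val this
    rw [hbot, Subgroup.mem_bot] at hzmem
    apply hz
    apply Subtype.ext
    apply Subtype.ext
    exact hzmem
  · intro Q R _ _ _ hQ φ
    have h1 := Cfsg.Agent.Helper10.thompsonSubgroup_map_mulEquiv p φ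
    have h2 := Cfsg.Agent.Helper10.inf_centralizer_map φ.toMonoidHom (thompsonSubgroup p Q)
      (fun x _ hx => φ.injective (by rw [MulEquiv.coe_toMonoidHom] at hx; rw [hx, map_one]))
    unfold zjFunctor
    rw [← h2, h1]

/-- Glauberman–Thompson for `Z(J_e(P))`. -/
theorem glauberman_thompson_zje {G : Type u} [Group G] [Finite G] {p : ℕ} [Fact p.Prime]
    (hp : p ≠ 2) (P : Sylow p G)
    (hN : HasNormalPComplement p
      ↥(Subgroup.normalizer (centerThompsonOf p (P : Subgroup G) : Set G))) :
    HasNormalPComplement p G := by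
  have hW := isCharPFunctor_zjFunctor.{u} p
  have hC : Cfsg.Agent.Helper31.GTG.ClosedClass (fun (X : Type u) [Group X] => True) :=
    ⟨fun _ _ _ _ => trivial, fun _ _ _ _ _ => trivial⟩
  have hcfg : Cfsg.Agent.Helper31.GTG.CfgNormal p (zjFunctor.{u} p)
      (fun (X : Type u) [Group X] => True) := by
    intro X _ _ _ hO hc hquot T hT
    obtain ⟨K, m, cfg⟩ := Cfsg.Agent.Helper31.GTG.exists_config hquot T hT
    have hst := Cfsg.Agent.Helper31.GT.hst_of_config hp cfg
    rw [inducedFunctor_zjFunctor]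
    exact centerThompsonOf_normal hp hc T hT hst
  rw [← inducedFunctor_zjFunctor] at hN
  exact Cfsg.Agent.Helper31.GTG.gt_generic hW hC hcfg trivial P hN

end Cfsg.Agent.Helper2.ZJe
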