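import Mathlib
import Cfsg.Agent.Lib.Helper2.ZJe3
import Cfsg.Agent.Lib.Helper46.FusInd2

/-!
# `Z(J_e(S))` is normal in `G` when `C_G(O_p(G)) ≤ O_p(G)` and `G` is `p`-stable on its normal
`p`-subgroups (`p` odd) -- the `ZJ`-theorem for the full centre of the Thompson subgroup
generated by the elementary abelian subgroups of largest order (no hypothesis that `S` is a
maximal subgroup, unlike `ZJe3`).
-/

set_option autoImplicit false
set_option linter.style.haveILetI false
set_option maxHeartbeats 1000000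

namespace Cfsg.Agent.Helper2.ZJe

open Cfsg Cfsg.Agent.Helper11.ZJ
open scoped commutatorElement

variable {G : Type*} [Group G]

/-- A subgroup normalized by `N` and by `C` with `N ⊔ C = ⊤` is normal. -/
theorem normal_of_sup_eq_top {N C K : Subgroup G} (h : N ⊔ C = ⊤)
    (hN : N ≤ Subgroup.normalizer (K : Set G)) (hC : C ≤ Subgroup.normalizer (K : Set G)) :
    K.Normal := by
  apply Subgroup.normalizer_eq_top_iff.mp
  rw [eq_top_iff, ← h]
  exact sup_le hN hC

/-- Elements centralizing `B` normalize every subgroup of the form `X ⊓ B`, `B` normal. -/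
theorem centralizer_le_normalizer_inf (X B : Subgroup G) [hB : B.Normal] :
    Subgroup.centralizer (B : Set G) ≤ Subgroup.normalizer ((X ⊓ B : Subgroup G) : Set G) := by
  intro c hc
  rw [Subgroup.mem_centralizer_iff] at hc
  rw [Subgroup.mem_normalizer_iff]
  intro x
  have key : x ∈ B → c * x * c⁻¹ = x := by
    intro hx
    rw [← hc x hx]; group
  constructor
  · intro hx
    rw [key hx.2]; exact hx
  · intro hx
    have h2 := hB.conj_mem _ hx.2 c⁻¹
    have e : c⁻¹ * (c * x * c⁻¹) * c⁻¹⁻¹ = x := by group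
    rw [e] at h2
    rw [key h2] at hx
    exact hx

/-- If `g` normalizes `X` then it normalizes `X ⊓ B` for `B` normal. -/
theorem normalizer_le_normalizer_inf_normal (X B : Subgroup G) [hB : B.Normal] :
    Subgroup.normalizer (X : Set G) ≤ Subgroup.normalizer ((X ⊓ B : Subgroup G) : Set G) := by
  intro s hs
  rw [Subgroup.mem_normalizer_iff]
  intro x
  constructor
  · intro hx
    exact Subgroup.mem_inf.mpr
      ⟨(Subgroup.mem_normalizer_iff.mp hs x).mp hx.1, hB.conj_mem x hx.2 s⟩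
  · intro hx
    refine Subgroup.mem_inf.mpr ⟨(Subgroup.mem_normalizer_iff.mp hs x).mpr hx.1, ?_⟩
    have := hB.conj_mem _ hx.2 s⁻¹
    have e : s⁻¹ * (s * x * s⁻¹) * s⁻¹⁻¹ = x := by group
    rwa [e] at this

/-- Main induction: `Z(J_e(S)) ∩ B` is normal in `G` for every normal `p`-subgroup `B`. -/
theorem ZJe_inf_normal_gen [Finite G] {p : ℕ} [Fact p.Prime] (hp : p ≠ 2) (S : Sylow p G)
    (hst : ∀ (V : Subgroup G) [V.Normal], IsPGroup p V → ∀ A : Subgroup G, A ≤ (S : Subgroup G) →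
      ⁅⁅V, A⁆, A⁆ = ⊥ → A ≤ stabL p V) :
    ∀ n : ℕ, ∀ B : Subgroup G, B.Normal → IsPGroup p B → Nat.card B = n →
      (centerThompsonOf p (S : Subgroup G) ⊓ B).Normal := by
  intro n
  induction n using Nat.strong_induction_on with
  | _ n ih =>
  intro B hBn hBp hcard
  by_contra hnot
  haveI := hBn
  set Z := centerThompsonOf p (S : Subgroup G) with hZ
  set H := pCore p G with hH
  haveI hHn : H.Normal := pCore_normal' p G
  have hHp : IsPGroup p H := isPGroup_pCore'
  have hHS : H ≤ (S : Subgroup G) := pCore_le_sylow' S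
  have hBP : B ≤ (S : Subgroup G) := hBp.le_sylow_of_normal S
  have hBH : B ≤ H := le_pCore' hBn hBp
  have hZS : Z ≤ (S : Subgroup G) := centerThompsonOf_le _
  have hSNZ : (S : Subgroup G) ≤ Subgroup.normalizer (Z : Set G) :=
    Subgroup.le_normalizer.trans (normalizer_le_normalizer_centerThompsonOf p _)
  have hZcomm : ∀ x ∈ Z, ∀ y ∈ Z, x * y = y * x := fun x hx y hy =>
    centerThompsonOf_comm _ hx hy
  -- `B` is the normal closure of `Z ∩ B`
  have hB0 : Subgroup.normalClosure ((Z ⊓ B : Subgroup G) : Set G) = B := by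
    by_contra hne
    have hle : Subgroup.normalClosure ((Z ⊓ B : Subgroup G) : Set G) ≤ B :=
      Subgroup.normalClosure_le_normal inf_le_right
    have hlt := card_lt_of_lt' (lt_of_le_of_ne hle hne)
    have h1 := ih _ (hcard ▸ hlt) _ Subgroup.normalClosure_normal (hBp.to_le hle) rfl
    have heq : Z ⊓ Subgroup.normalClosure ((Z ⊓ B : Subgroup G) : Set G) = Z ⊓ B :=
      le_antisymm (inf_le_inf_left _ hle) (le_inf inf_le_left Subgroup.subset_normalClosure)
    rw [heq] at h1
    exact hnot h1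
  have hBne : B ≠ ⊥ := by
    intro h
    apply hnot
    rw [h, inf_bot_eq]
    infer_instance
  have hB'lt : ⁅B, B⁆ < B :=
    lt_of_le_of_ne (Subgroup.commutator_le_right B B) (commutator_ne_self hBp hBne)
  have hYn : (Z ⊓ ⁅B, B⁆).Normal :=
    ih _ (hcard ▸ card_lt_of_lt' hB'lt) _ inferInstance (hBp.to_le (le_of_lt hB'lt)) rfl
  haveI := hYn
  have h1 : ⁅Z ⊓ B, B⁆ ≤ Z ⊓ ⁅B, B⁆ := by
    rw [Subgroup.commutator_le]
    intro z hz b hb
    refine Subgroup.mem_inf.mpr ⟨?_, Subgroup.commutator_mem_commutator hz.2 hb⟩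
    have hbN := hSNZ (hBP hb)
    have h1 : b * z⁻¹ * b⁻¹ ∈ Z :=
      (Subgroup.mem_normalizer_iff.mp hbN z⁻¹).mp (inv_mem hz.1)
    have : ⁅z, b⁆ = z * (b * z⁻¹ * b⁻¹) := by rw [commutatorElement_def]; group
    rw [this]; exact mul_mem hz.1 h1
  have h2 := commutator_normalClosure_le h1
  rw [hB0] at h2
  have hB'Z : ⁅B, B⁆ ≤ Z := h2.trans inf_le_left
  -- normal subgroups of `G` inside `Z` are centralized by `B`
  have hcent : ∀ Y : Subgroup G, Y.Normal → Y ≤ Z → B ≤ Subgroup.centralizer (Y : Set G) := by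
    intro Y hYn hYZ
    haveI := hYn
    rw [← hB0]
    apply Subgroup.normalClosure_le_normal
    intro z hz
    rw [SetLike.mem_coe, Subgroup.mem_centralizer_iff]
    intro y hy
    exact hZcomm y (hYZ hy) z hz.1
  have hcentB' : B ≤ Subgroup.centralizer ((⁅B, B⁆ : Subgroup G) : Set G) :=
    hcent _ inferInstance hB'Z
  -- a chief factor `B / M`
  obtain ⟨M, hMn, hMB, hchief⟩ : ∃ M : Subgroup G, M.Normal ∧ M < B ∧
      ∀ X : Subgroup G, X.Normal → M ≤ X → X ≤ B → X = M ∨ X = B := by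
    classical
    let XS : Set (Subgroup G) := {M | M.Normal ∧ M < B}
    have hfin : XS.Finite := Set.toFinite XS
    have hne : XS.Nonempty := ⟨⊥, inferInstance, bot_lt_iff_ne_bot.mpr hBne⟩
    obtain ⟨M, hM, hmax⟩ := Set.exists_max_image XS (fun N => Nat.card N) hfin hne
    refine ⟨M, hM.1, hM.2, ?_⟩
    intro X hXn hMX hXB
    by_cases hXeq : X = B
    · exact Or.inr hXeq
    · left
      have hX : X ∈ XS := ⟨hXn, lt_of_le_of_ne hXB hXeq⟩
      exact (Subgroup.eq_of_le_of_card_ge hMX (hmax X hX)).symm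
  haveI := hMn
  have hMpow : ∀ v ∈ B, v ^ p ∈ M :=
    (Cfsg.Agent.Helper31.GT.chief_props H B M hHp hMB hBH hchief).2
  have hZMn : (Z ⊓ M).Normal :=
    ih _ (hcard ▸ card_lt_of_lt' hMB) _ hMn (hBp.to_le (le_of_lt hMB)) rfl
  have hcentM : B ≤ Subgroup.centralizer ((Z ⊓ M : Subgroup G) : Set G) :=
    hcent _ hZMn inf_le_left
  -- the derived subgroup has exponent `p`
  let T : Subgroup G :=
    { carrier := {c | c ∈ ⁅B, B⁆ ∧ c ^ p = 1}
      one_mem' := ⟨one_mem _, one_pow _⟩
      mul_mem' := by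
        rintro a b ⟨ha, hap⟩ ⟨hb, hbp⟩
        refine ⟨mul_mem ha hb, ?_⟩
        have hab : Commute a b := hZcomm a (hB'Z ha) b (hB'Z hb)
        rw [hab.mul_pow, hap, hbp, one_mul]
      inv_mem' := by
        rintro a ⟨ha, hap⟩
        exact ⟨inv_mem ha, by rw [inv_pow, hap, inv_one]⟩ }
  have hTn : T.Normal := by
    refine ⟨fun c hc g => ⟨?_, ?_⟩⟩
    · exact (inferInstance : (⁅B, B⁆ : Subgroup G).Normal).conj_mem c hc.1 g
    · rw [conj_pow, hc.2]; group
  haveI := hTn
  have hZBT : ⁅Z ⊓ B, B⁆ ≤ T := by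
    rw [Subgroup.commutator_le]
    intro z hz b hb
    refine ⟨Subgroup.commutator_mem_commutator hz.2 hb, ?_⟩
    have hcB' : ⁅z, b⁆ ∈ ⁅B, B⁆ := Subgroup.commutator_mem_commutator hz.2 hb
    have hcz : ⁅z, b⁆ * z = z * ⁅z, b⁆ :=
      Subgroup.mem_centralizer_iff.mp (hcentB' hz.2) _ hcB'
    rw [← commutatorElement_pow_left hcz p]
    have hzp : z ^ p ∈ Z ⊓ M := Subgroup.mem_inf.mpr ⟨Z.pow_mem hz.1 p, hMpow z hz.2⟩
    have hcomm : z ^ p * b = b * z ^ p := Subgroup.mem_centralizer_iff.mp (hcentM hb) _ hzp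
    rw [commutatorElement_eq_one_iff_commute]
    exact hcomm
  have h3 := commutator_normalClosure_le hZBT
  rw [hB0] at h3
  have hB'p : ∀ c ∈ ⁅B, B⁆, c ^ p = 1 := fun c hc => (h3 hc).2
  -- so the derived subgroup lies in every member of the family
  have hB'U : ∀ U ∈ Fam (EA p) (S : Subgroup G), ⁅B, B⁆ ≤ U := by
    intro U hU c hc
    apply mem_of_commute_of_mem_fam hU (hZS (hB'Z hc)) (hB'p c hc)
    intro u hu
    exact commute_center_fam hU (hB'Z hc) hu
  obtain ⟨U, hU, hnU⟩ : ∃ U ∈ Fam (EA p) (S : Subgroup G), ¬ B ≤ U := by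
    by_contra hcon
    have hall : ∀ U ∈ Fam (EA p) (S : Subgroup G), B ≤ U := by
      intro U hU
      by_contra h
      exact hcon ⟨U, hU, h⟩
    have hBZ : B ≤ Z := by
      intro b hb
      apply mem_center_of_forall_mem
      intro U hU
      exact hall U hU hb
    apply hnot
    rw [inf_eq_right.mpr hBZ]
    exact hBn
  obtain ⟨A, hA, hBA, hnBA, hBNA⟩ :=
    exists_normalized (goodAx_elemAb p) hp S.isPGroup' B hBP hU (hB'U U hU) hnU
  have hquad : ⁅⁅B, A⁆, A⁆ = ⊥ := by
    have h3 : ⁅B, A⁆ ≤ A := by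
      rw [Subgroup.commutator_le]
      intro b hb a ha
      have h4 : b * a * b⁻¹ ∈ A := (Subgroup.mem_normalizer_iff.mp (hBNA hb) a).mp ha
      have : ⁅b, a⁆ = b * a * b⁻¹ * a⁻¹ := commutatorElement_def b a
      rw [this]
      exact A.mul_mem h4 (A.inv_mem ha)
    rw [eq_bot_iff]
    refine (Subgroup.commutator_mono h3 le_rfl).trans ?_
    rw [Subgroup.commutator_le]
    intro x hx y hy
    have hc := comm_of_mem_fam hA hx hy
    rw [Subgroup.mem_bot, commutatorElement_def, hc]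
    group
  have hAL : A ≤ stabL p B := hst B hBp A hA.1 hquad
  -- the subgroup `S₁ = S ∩ L`
  haveI hLn : (stabL p B).Normal := stabL_normal p B
  set S₁ : Subgroup G := (S : Subgroup G) ⊓ stabL p B with hS₁
  have hS₁S : S₁ ≤ (S : Subgroup G) := inf_le_left
  have hfrat : Subgroup.normalizer (S₁ : Set G) ⊔ Subgroup.centralizer (B : Set G) = ⊤ :=
    normalizer_sup_centralizer_eq_top S B
  have hAS₁ : A ≤ S₁ := le_inf hA.1 hAL
  have hFam₁ : Fam (EA p) S₁ ⊆ Fam (EA p) (S : Subgroup G) := Fam_subset hA hAS₁ hS₁S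
  have hBL : B ≤ stabL p B := by
    apply le_stabL_of_normal_pow B B hBn
    intro b hb
    obtain ⟨k, hk⟩ := hBp ⟨b, hb⟩
    refine ⟨k, ?_⟩
    have hk' : b ^ p ^ k = 1 := by simpa using congrArg Subtype.val hk
    rw [hk']; exact Subgroup.one_mem _
  have hBS₁ : B ≤ S₁ := le_inf hBP hBL
  -- `B` centralizes the largest elementary abelian subgroups of `S₁`
  let T₂ : Set G := {a | ∃ A' ∈ Fam (EA p) S₁, a ∈ A'}
  have hT₂ : ∀ g ∈ Subgroup.normalizer (S₁ : Set G), ∀ t ∈ T₂, g * t * g⁻¹ ∈ T₂ := by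
    rintro g hg t ⟨A', hA', ht⟩
    have h4 := Fam_map (goodAx_elemAb p) (MulAut.conj g) hA'
    have h5 : S₁.map (MulAut.conj g).toMonoidHom = S₁ := by
      ext x
      constructor
      · rintro ⟨y, hy, rfl⟩
        exact (Subgroup.mem_normalizer_iff.mp hg y).mp hy
      · intro hx
        refine ⟨g⁻¹ * x * g, ?_, by simp [MulAut.conj_apply, mul_assoc]⟩
        have := (Subgroup.mem_normalizer_iff.mp (Subgroup.inv_mem _ hg) x).mp hx
        simpa using this
    rw [h5] at h4
    exact ⟨_, h4, ⟨t, ht, rfl⟩⟩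
  have hCBn : (B ⊓ Subgroup.centralizer T₂).Normal := by
    apply normal_of_sup_eq_top hfrat
    · intro g hg
      have key : ∀ g ∈ Subgroup.normalizer (S₁ : Set G), ∀ x ∈ B ⊓ Subgroup.centralizer T₂,
          g * x * g⁻¹ ∈ B ⊓ Subgroup.centralizer T₂ := by
        intro g hg x hx
        refine Subgroup.mem_inf.mpr ⟨hBn.conj_mem x hx.1 g, ?_⟩
        rw [Subgroup.mem_centralizer_iff]
        intro t ht
        have h1 : g⁻¹ * t * g⁻¹⁻¹ ∈ T₂ := hT₂ g⁻¹ (Subgroup.inv_mem _ hg) t ht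
        have h2 := Subgroup.mem_centralizer_iff.mp hx.2 _ h1
        calc t * (g * x * g⁻¹) = g * ((g⁻¹ * t * g⁻¹⁻¹) * x) * g⁻¹ := by group
          _ = g * (x * (g⁻¹ * t * g⁻¹⁻¹)) * g⁻¹ := by rw [h2]
          _ = g * x * g⁻¹ * t := by group
      rw [Subgroup.mem_normalizer_iff]
      intro x
      constructor
      · intro hx
        exact key g hg x hx
      · intro hx
        have := key g⁻¹ (Subgroup.inv_mem _ hg) _ hx
        have e : g⁻¹ * (g * x * g⁻¹) * g⁻¹⁻¹ = x := by group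
        rwa [e] at this
    · have h6 := centralizer_le_normalizer_inf (Subgroup.centralizer T₂) B
      rw [inf_comm] at h6
      exact h6
  have hBCJ : B ≤ Subgroup.centralizer T₂ := by
    have h6 : Subgroup.normalClosure ((Z ⊓ B : Subgroup G) : Set G) ≤
        B ⊓ Subgroup.centralizer T₂ := by
      haveI := hCBn
      apply Subgroup.normalClosure_le_normal
      intro z hz
      refine Subgroup.mem_inf.mpr ⟨hz.2, ?_⟩
      rw [Subgroup.mem_centralizer_iff]
      rintro a ⟨A', hA', ha⟩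
      exact commute_center_fam (hFam₁ hA') hz.1 ha
    rw [hB0] at h6
    exact h6.trans inf_le_right
  -- the elementary abelian normal subgroup `V`
  set V := W (EA p) S₁ ⊓ B with hV
  haveI hVn : V.Normal := W_inf_normal_of (goodAx_elemAb p) hfrat
  have hVp : IsPGroup p V := hBp.to_le inf_le_right
  have hVe : IsElementaryAbelian p V := by
    obtain ⟨A₀, hA₀⟩ := Fam_nonempty (goodAx_elemAb p) S₁
    exact Cfsg.Agent.Helper10.elemAb_mono hA₀.2.1 (inf_le_left.trans (W_le_of_mem hA₀))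
  have hΩV : ∀ x ∈ B, x ^ p = 1 → x ∈ V := by
    intro x hx hxp
    refine Subgroup.mem_inf.mpr ⟨?_, hx⟩
    show x ∈ sInf (Fam (EA p) S₁)
    rw [Subgroup.mem_sInf]
    intro A' hA'
    apply mem_of_commute_of_mem_fam hA' (hBS₁ hx) hxp
    intro u hu
    exact Subgroup.mem_centralizer_iff.mp (hBCJ hx) u ⟨A', hA', hu⟩
  -- `C_G(V)` lies in `L`
  have hCVpow : ∀ g ∈ Subgroup.centralizer (V : Set G),
      ∃ k : ℕ, g ^ p ^ k ∈ Subgroup.centralizer (B : Set G) := by
    intro g hg
    obtain ⟨k, hk⟩ := Cfsg.Agent.Helper46.exists_pow_coprime (p := p) g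
    refine ⟨k, ?_⟩
    set y := g ^ p ^ k with hy
    have hyV : y ∈ Subgroup.centralizer (V : Set G) := Subgroup.pow_mem _ hg _
    have hcop : (Nat.card (Subgroup.zpowers y)).Coprime p := by
      rw [Nat.card_zpowers]; exact hk
    have hnorm : Subgroup.zpowers y ≤ Subgroup.normalizer (B : Set G) := by
      rw [Subgroup.normalizer_eq_top]; exact le_top
    have hgV : Subgroup.zpowers y ≤ Subgroup.centralizer (V : Set G) :=
      Subgroup.zpowers_le.mpr hyV
    have hfix : ∀ x ∈ B, x ^ p = 1 → ∀ a ∈ Subgroup.zpowers y, a * x = x * a := by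
      intro x hx hxp a ha
      exact (Subgroup.mem_centralizer_iff.mp (hgV ha) x (hΩV x hx hxp)).symm
    have h5 := Cfsg.Agent.Helper24.le_centralizer_of_centralizes_omega_one p hp
      (Subgroup.zpowers y) hcop (Nat.card B) B rfl hBp hnorm hfix
    exact h5 (Subgroup.mem_zpowers y)
  have hCVL : Subgroup.centralizer (V : Set G) ≤ stabL p B :=
    le_stabL_of_normal_pow B _ inferInstance hCVpow
  have hLVL : stabL p V ≤ stabL p B := by
    apply le_stabL_of_normal_pow B _ (stabL_normal p V)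
    intro d hd
    obtain ⟨k, hk⟩ := stabL_pow V hd
    obtain ⟨k', hk'⟩ := hCVpow _ hk
    refine ⟨k + k', ?_⟩
    rw [pow_add, pow_mul]
    exact hk'
  have hVS : V ≤ (S : Subgroup G) := inf_le_right.trans hBP
  have hVnS : (S : Subgroup G) ≤ Subgroup.normalizer (V : Set G) := by
    rw [Subgroup.normalizer_eq_top]; exact le_top
  -- all largest elementary abelian subgroups of `S` lie in `S₁`
  have hall : ∀ U ∈ Fam (EA p) (S : Subgroup G), U ≤ S₁ := by
    intro U hU
    obtain ⟨U', hU', hq, himp⟩ := exists_quadratic_replacement hVS hVnS hVe hU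
    have hU'L : U' ≤ stabL p V := hst V hVp U' hU'.1 hq
    have hU'S₁ : U' ≤ S₁ := le_inf hU'.1 (hU'L.trans hLVL)
    have hU'F : U' ∈ Fam (EA p) S₁ := Fam_mono hU' hU'S₁ hS₁S
    have hVU' : V ≤ U' := inf_le_left.trans (W_le_of_mem hU'F)
    have hcomm : ⁅V, U'⁆ = ⊥ := by
      rw [eq_bot_iff]
      refine (Subgroup.commutator_mono hVU' le_rfl).trans ?_
      rw [Subgroup.commutator_le]
      intro x hx y hy
      have hc := comm_of_mem_fam hU' hx hy
      rw [Subgroup.mem_bot, commutatorElement_def, hc]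
      group
    have hVU : ⁅V, U⁆ = ⊥ := himp hcomm
    have h6 : V ≤ Subgroup.centralizer (U : Set G) :=
      Subgroup.commutator_eq_bot_iff_le_centralizer.mp hVU
    have h7 : U ≤ Subgroup.centralizer (V : Set G) := Subgroup.le_centralizer_iff.mp h6
    exact le_inf hU.1 (h7.trans hCVL)
  -- hence `Z(J_e(S)) = Z(J_e(S₁))` is normalized by `N_G(S₁)`
  have hJ : thompsonSubgroupOf p (S : Subgroup G) ≤ S₁ := thompsonSubgroupOf_le_of_forall hall
  have hJeq := Cfsg.Agent.Helper23.thompsonSubgroupOf_eq_of_le hS₁S hJ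
  have hZeq : Z = centerThompsonOf p S₁ := by
    rw [hZ]
    unfold centerThompsonOf
    rw [hJeq]
  have hNZ : Subgroup.normalizer (S₁ : Set G) ≤ Subgroup.normalizer (Z : Set G) := by
    rw [hZeq]
    exact normalizer_le_normalizer_centerThompsonOf p S₁
  apply hnot
  exact normal_of_sup_eq_top hfrat (hNZ.trans (normalizer_le_normalizer_inf_normal Z B))
    (centralizer_le_normalizer_inf Z B)

/-- `Z(J_e(S))` is normal in `G` (`p` odd, `C_G(O_p(G)) ≤ O_p(G)`, `G` `p`-stable on its normal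
`p`-subgroups). -/
theorem centerThompsonOf_normal_gen [Finite G] {p : ℕ} [Fact p.Prime] (hp : p ≠ 2)
    (hc : Subgroup.centralizer (pCore p G : Set G) ≤ pCore p G) (S : Sylow p G)
    (hst : ∀ (V : Subgroup G) [V.Normal], IsPGroup p V → ∀ A : Subgroup G, A ≤ (S : Subgroup G) →
      ⁅⁅V, A⁆, A⁆ = ⊥ → A ≤ stabL p V) :
    (centerThompsonOf p (S : Subgroup G)).Normal := by
  haveI hQn := pCore_normal' p G
  have hQp : IsPGroup p (pCore p G) := isPGroup_pCore'
  have hQS : pCore p G ≤ (S : Subgroup G) := pCore_le_sylow' S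
  set Z := centerThompsonOf p (S : Subgroup G) with hZ
  have hZS : Z ≤ (S : Subgroup G) := centerThompsonOf_le _
  have hSNZ : (S : Subgroup G) ≤ Subgroup.normalizer (Z : Set G) :=
    Subgroup.le_normalizer.trans (normalizer_le_normalizer_centerThompsonOf p _)
  have hquad : ⁅⁅pCore p G, Z⁆, Z⁆ = ⊥ := by
    have h3 : ⁅pCore p G, Z⁆ ≤ Z := by
      rw [Subgroup.commutator_le]
      intro b hb a ha
      have hbN := hSNZ (hQS hb)
      have h4 : b * a * b⁻¹ ∈ Z := (Subgroup.mem_normalizer_iff.mp hbN a).mp ha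
      have : ⁅b, a⁆ = b * a * b⁻¹ * a⁻¹ := commutatorElement_def b a
      rw [this]
      exact Subgroup.mul_mem _ h4 (Subgroup.inv_mem _ ha)
    rw [eq_bot_iff]
    refine (Subgroup.commutator_mono h3 le_rfl).trans ?_
    rw [Subgroup.commutator_le]
    intro x hx y hy
    have hc' := centerThompsonOf_comm _ hx hy
    rw [Subgroup.mem_bot, commutatorElement_def, hc']
    group
  have hWL := hst (pCore p G) hQp _ hZS hquad
  have hLp : IsPGroup p (stabL p (pCore p G)) := isPGroup_stabL (pCore p G) (hQp.to_le hc)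
  have hLQ : stabL p (pCore p G) ≤ pCore p G := le_pCore' (stabL_normal p (pCore p G)) hLp
  have h5 := ZJe_inf_normal_gen hp S hst _ (pCore p G) hQn hQp rfl
  rw [inf_eq_left.mpr (hWL.trans hLQ)] at h5
  exact h5

end Cfsg.Agent.Helper2.ZJe
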