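import Mathlib
import Cfsg.Agent.Lib.Helper2.ZJe5
import Cfsg.Agent.Lib.Helper54.Solv

/-!
# `Z(J_e(S)) O_{p'}(G)` is normal in `G` when `G / O_{p'}(G)` has characteristic `p` and acts
`p`-stably on its normal `p`-subgroups (`p` odd).
-/

set_option autoImplicit false
set_option linter.style.haveILetI false

namespace Cfsg.Agent.Helper2.ZJe

open Cfsg Cfsg.Agent.Helper11.ZJ
open scoped commutatorElement

universe u v

/-- If `f` is injective on `U`, then `Z(J_e(f(U))) = f(Z(J_e(U)))`. -/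
theorem centerThompsonOf_map {G : Type u} {H : Type v} [Group G] [Group H] (p : ℕ) (f : G →* H)
    (U : Subgroup G) (hinj : ∀ x ∈ U, f x = 1 → x = 1) :
    centerThompsonOf p (U.map f) = (centerThompsonOf p U).map f := by
  unfold centerThompsonOf
  rw [Cfsg.Agent.Helper10.thompsonSubgroupOf_map p f U hinj]
  exact Cfsg.Agent.Helper10.inf_centralizer_map f (thompsonSubgroupOf p U)
    (fun x hx => hinj x (Cfsg.Agent.Helper10.thompsonSubgroupOf_le U hx))

variable {G : Type u} [Group G]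

/-- `Z(J_e(S)) O_{p'}(G) ⊴ G` (`p` odd) when `G/O_{p'}(G)` has characteristic `p` and is
`p`-stable on its normal `p`-subgroups. -/
theorem centerThompsonOf_sup_pPrimeCore_normal [Finite G] {p : ℕ} [Fact p.Prime] (hp : p ≠ 2)
    (S : Sylow p G)
    (hc : Subgroup.centralizer (pCore p (G ⧸ pPrimeCore p G) : Set (G ⧸ pPrimeCore p G)) ≤
      pCore p (G ⧸ pPrimeCore p G))
    (hst : ∀ (V : Subgroup (G ⧸ pPrimeCore p G)) [V.Normal], IsPGroup p V → IsPStableOn p V) :
    (centerThompsonOf p (S : Subgroup G) ⊔ pPrimeCore p G).Normal := by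
  haveI hKn : (pPrimeCore p G).Normal := Cfsg.Agent.Helper54.pPrimeCore_normal' p
  have hK : (Nat.card (pPrimeCore p G)).Coprime p := Cfsg.Agent.Helper54.pPrimeCore_coprime p
  set π := QuotientGroup.mk' (pPrimeCore p G) with hπ
  have hsurj := QuotientGroup.mk'_surjective (pPrimeCore p G)
  have hRcoe : ((S.mapSurjective hsurj : Sylow p (G ⧸ pPrimeCore p G)) :
      Subgroup (G ⧸ pPrimeCore p G)) = (S : Subgroup G).map π := Sylow.coe_mapSurjective hsurj S
  have hst' : ∀ (V : Subgroup (G ⧸ pPrimeCore p G)) [V.Normal], IsPGroup p V →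
      ∀ A : Subgroup (G ⧸ pPrimeCore p G),
      A ≤ ((S.mapSurjective hsurj : Sylow p _) : Subgroup _) →
      ⁅⁅V, A⁆, A⁆ = ⊥ → A ≤ stabL p V :=
    fun V _ hV A _ hq => le_stabL_of_quadratic V (hst V hV) A hq
  have hn := centerThompsonOf_normal_gen hp hc (S.mapSurjective hsurj) hst'
  have hSp : IsPGroup p (S : Subgroup G) := S.isPGroup'
  have hinf : pPrimeCore p G ⊓ (S : Subgroup G) = ⊥ :=
    Cfsg.Agent.Helper54.inf_eq_bot_of_isPGroup_of_coprime _ _ hK hSp
  have hinj : ∀ x ∈ (S : Subgroup G), π x = 1 → x = 1 := by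
    intro x hx hx1
    have hxK : x ∈ pPrimeCore p G := by
      rw [hπ, QuotientGroup.mk'_apply, QuotientGroup.eq_one_iff] at hx1
      exact hx1
    have : x ∈ pPrimeCore p G ⊓ (S : Subgroup G) := ⟨hxK, hx⟩
    rw [hinf, Subgroup.mem_bot] at this
    exact this
  rw [hRcoe, centerThompsonOf_map p π (S : Subgroup G) hinj] at hn
  have heq : centerThompsonOf p (S : Subgroup G) ⊔ pPrimeCore p G =
      ((centerThompsonOf p (S : Subgroup G)).map π).comap π := by
    rw [Subgroup.comap_map_eq, hπ, QuotientGroup.ker_mk']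
  rw [heq]
  exact hn.comap π

end Cfsg.Agent.Helper2.ZJe
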