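import Mathlib
import Cfsg.Agent.Lib.Helper2.ZJe4
import Cfsg.Agent.Lib.Helper2.ZJe7
import Cfsg.Agent.Lib.Helper23.NPC
import Cfsg.Agent.Lib.Helper33.SecFusionA
import Cfsg.Agent.Lib.Helper46.FusInd6

/-!
# Tools for a Thompson-type characteristic subgroup `K(S)` detecting normal `p`-complements
-/

set_option autoImplicit false
set_option linter.style.haveILetI false
set_option linter.unusedSectionVars false

namespace Cfsg.Agent.Helper2.TK

open Cfsg Cfsg.Agent.Helper11.ZJ Cfsg.Agent.Helper2.ZJe Cfsg.Agent.Helper23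
open scoped Pointwise

universe u

/-- `p'`-elements of `N_G(Q)` centralize `Q`. -/
def Cond (p : ℕ) {G : Type*} [Group G] (Q : Subgroup G) : Prop :=
  ∀ g ∈ Subgroup.normalizer (Q : Set G), (orderOf g).Coprime p →
    g ∈ Subgroup.centralizer (Q : Set G)

section char

variable {S : Type*} [Group S]

/-- A characteristic subgroup of a characteristic subgroup is characteristic. -/
theorem characteristic_map_subtype (H : Subgroup S) [hH : H.Characteristic]
    (K₁ : Subgroup ↥H) [hK : K₁.Characteristic] : (K₁.map H.subtype).Characteristic := by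
  rw [Subgroup.characteristic_iff_map_le]
  intro φ
  rintro _ ⟨_, ⟨k, hk, rfl⟩, rfl⟩
  have hHφ : H.map φ.toMonoidHom = H := Subgroup.characteristic_iff_map_eq.mp hH φ
  let ψ : ↥H ≃* ↥H := (φ.subgroupMap H).trans (MulEquiv.subgroupCongr hHφ)
  have hψ : K₁.map ψ.toMonoidHom = K₁ := Subgroup.characteristic_iff_map_eq.mp hK ψ
  refine ⟨ψ k, ?_, ?_⟩
  · rw [← hψ]; exact ⟨k, hk, rfl⟩
  · rfl

/-- The preimage of a characteristic subgroup of `S ⧸ Z`, `Z` characteristic, is characteristic. -/
theorem characteristic_comap_mk (Z : Subgroup S) [hZ : Z.Characteristic]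
    (Kb : Subgroup (S ⧸ Z)) [hK : Kb.Characteristic] :
    (Kb.comap (QuotientGroup.mk' Z)).Characteristic := by
  rw [Subgroup.characteristic_iff_map_le]
  intro φ
  rintro _ ⟨x, hx, rfl⟩
  have hZφ : Z.map φ.toMonoidHom = Z := Subgroup.characteristic_iff_map_eq.mp hZ φ
  let φb : S ⧸ Z ≃* S ⧸ Z := QuotientGroup.congr Z Z φ hZφ
  have h1 : Kb.map φb.toMonoidHom = Kb := Subgroup.characteristic_iff_map_eq.mp hK φb
  show QuotientGroup.mk' Z (φ x) ∈ Kb
  rw [← h1]
  refine ⟨QuotientGroup.mk' Z x, hx, ?_⟩
  rfl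

end char

section normalizer

variable {S G : Type*} [Group S] [Group G]

/-- Conjugation by an element of the normalizer, as an automorphism of the subgroup. -/
def conjNormalizer (R : Subgroup G) (n : G) (hn : n ∈ Subgroup.normalizer (R : Set G)) :
    ↥R ≃* ↥R where
  toFun r := ⟨n * r * n⁻¹, (Subgroup.mem_normalizer_iff.mp hn r).mp r.2⟩
  invFun r := ⟨n⁻¹ * r * n, by
    have := (Subgroup.mem_normalizer_iff.mp (Subgroup.inv_mem _ hn) r).mp r.2
    simpa using this⟩
  left_inv r := by
    apply Subtype.ext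
    simp only
    group
  right_inv r := by
    apply Subtype.ext
    simp only
    group
  map_mul' a b := by
    apply Subtype.ext
    simp only [Subgroup.coe_mul]
    group

/-- The normalizer of the image of an embedding normalizes the image of every characteristic
subgroup. -/
theorem mem_normalizer_map_of_characteristic [Finite G] (f : S →* G) (hf : Function.Injective f)
    (K : Subgroup S) [hK : K.Characteristic] {n : G}
    (hn : n ∈ Subgroup.normalizer ((f.range : Subgroup G) : Set G)) :
    n ∈ Subgroup.normalizer ((K.map f : Subgroup G) : Set G) := by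
  let e₀ : S ≃* ↥f.range := MonoidHom.ofInjective hf
  let φ : S ≃* S := e₀.trans ((conjNormalizer f.range n hn).trans e₀.symm)
  have hφ : K.map φ.toMonoidHom = K := Subgroup.characteristic_iff_map_eq.mp hK φ
  have hfφ : ∀ s : S, f (φ s) = n * f s * n⁻¹ := by
    intro s
    have h1 : ∀ r : ↥f.range, f (e₀.symm r) = (r : G) := by
      intro r
      have : (e₀ (e₀.symm r) : G) = f (e₀.symm r) := MonoidHom.ofInjective_apply hf
      rw [← this, MulEquiv.apply_symm_apply]
    show f (e₀.symm (conjNormalizer f.range n hn (e₀ s))) = n * f s * n⁻¹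
    rw [h1]
    rfl
  apply Subgroup.mem_normalizer_fintype
  rintro _ ⟨k, hk, rfl⟩
  refine ⟨φ k, ?_, hfφ k⟩
  rw [← hφ]
  exact ⟨k, hk, rfl⟩

/-- Restricting the codomain of an embedding to a subgroup preserves `Cond`. -/
theorem cond_codRestrict {p : ℕ} (f : S →* G) (H : Subgroup G) (hH : ∀ s, f s ∈ H)
    (K : Subgroup S) (h : Cond p (K.map f)) : Cond p (K.map (f.codRestrict H hH)) := by
  intro g hg hgo
  have hmap : (K.map (f.codRestrict H hH)).map H.subtype = K.map f := by
    rw [Subgroup.map_map]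
    rfl
  have h1 : (g : G) ∈ Subgroup.normalizer ((K.map f : Subgroup G) : Set G) := by
    rw [← hmap]
    exact Subgroup.le_normalizer_map H.subtype ⟨g, hg, rfl⟩
  have h2 : (orderOf (g : G)).Coprime p := by rwa [Subgroup.orderOf_coe]
  have h3 := h _ h1 h2
  rw [Subgroup.mem_centralizer_iff] at h3 ⊢
  rintro _ ⟨k, hk, rfl⟩
  apply Subtype.ext
  exact h3 (f k) ⟨k, hk, rfl⟩

end normalizer

section npc

variable {G : Type*} [Group G] [Finite G] {p : ℕ} [hp : Fact p.Prime]

/-- If the `p'`-elements of `N_G(T ∩ C)` lie in the normal subgroup `C`, then `G/C` is a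
`p`-group. -/
theorem isPGroup_quotient_of_frattini (T : Sylow p G) (C : Subgroup G) [hC : C.Normal]
    (h : ∀ g ∈ Subgroup.normalizer ((((T : Subgroup G) ⊓ C : Subgroup G)) : Set G),
      (orderOf g).Coprime p → g ∈ C) : IsPGroup p (G ⧸ C) := by
  intro x
  obtain ⟨g, rfl⟩ := QuotientGroup.mk_surjective x
  have hfr := frattini_inf T C
  have hg : g ∈ ((Subgroup.normalizer ((((T : Subgroup G) ⊓ C : Subgroup G)) : Set G) : Set G) *
      (C : Set G)) := by
    rw [← Subgroup.mul_normal, hfr]
    trivial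
  obtain ⟨n, hn, c, hc, rfl⟩ := hg
  obtain ⟨k, hk⟩ := Cfsg.Agent.Helper46.exists_pow_coprime (p := p) n
  refine ⟨k, ?_⟩
  have hnC : n ^ p ^ k ∈ C := h _ (Subgroup.pow_mem _ hn _) hk
  have h1 : (QuotientGroup.mk (n * c) : G ⧸ C) = QuotientGroup.mk n := by
    rw [QuotientGroup.mk_mul, (QuotientGroup.eq_one_iff c).mpr hc, mul_one]
  rw [h1, ← QuotientGroup.mk_pow]
  exact (QuotientGroup.eq_one_iff _).mpr hnC

/-- A normal subgroup with `p`-group quotient has `p`-power index. -/
theorem exists_index_eq_pow_of_isPGroup_quotient (C : Subgroup G) [hC : C.Normal]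
    (h : IsPGroup p (G ⧸ C)) : ∃ j : ℕ, C.index = p ^ j := by
  obtain ⟨j, hj⟩ := IsPGroup.iff_card.mp h
  exact ⟨j, by rw [Subgroup.index_eq_card, hj]⟩

/-- Lifting a normal `p`-complement through a central `p`-subgroup. -/
theorem hasNPC_of_quotient_central (Z : Subgroup G) [hZn : Z.Normal] (hZp : IsPGroup p Z)
    (hZc : Z ≤ Subgroup.center G) (h : HasNormalPComplement p (G ⧸ Z)) :
    HasNormalPComplement p G := by
  obtain ⟨Kb, hKn, hcop, k, hk⟩ := hasNPC_iff.mp h
  set M : Subgroup G := Kb.comap (QuotientGroup.mk' Z) with hM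
  have hMn : M.Normal := hKn.comap _
  have hMidx : M.index = p ^ k := by
    rw [hM, Subgroup.index_comap_of_surjective _ (QuotientGroup.mk'_surjective Z), hk]
  -- the Sylow subgroup of `M`
  let ψ : ↥M →* ↥Kb := (QuotientGroup.mk' Z).subgroupComap Kb
  have hψs : Function.Surjective ψ :=
    MonoidHom.subgroupComap_surjective_of_surjective _ _ (QuotientGroup.mk'_surjective Z)
  have hker : ψ.ker = Z.subgroupOf M := by
    ext x
    rw [MonoidHom.mem_ker, Subgroup.mem_subgroupOf]
    constructor
    · intro hx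
      have h1 : QuotientGroup.mk' Z (x : G) = 1 := congrArg Subtype.val hx
      rwa [QuotientGroup.mk'_apply, QuotientGroup.eq_one_iff] at h1
    · intro hx
      apply Subtype.ext
      show QuotientGroup.mk' Z (x : G) = 1
      rw [QuotientGroup.mk'_apply, QuotientGroup.eq_one_iff]
      exact hx
  have hidx : (Z.subgroupOf M).index = Nat.card Kb := by
    rw [← hker, Subgroup.index_ker, MonoidHom.range_eq_top.mpr hψs, Subgroup.card_top]
  have hZ'p : IsPGroup p (Z.subgroupOf M) := hZp.comap_subtype
  have hnd : ¬ p ∣ (Z.subgroupOf M).index := by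
    rw [hidx]
    exact fun hd => (Nat.Prime.coprime_iff_not_dvd hp.out).mp hcop.symm hd
  set PM : Sylow p ↥M := hZ'p.toSylow hnd with hPM
  have hPMcoe : (PM : Subgroup ↥M) = Z.subgroupOf M := IsPGroup.toSylow_coe hZ'p hnd
  have hcent : Subgroup.normalizer ((PM : Subgroup ↥M) : Set ↥M) ≤
      Subgroup.centralizer ((PM : Subgroup ↥M) : Set ↥M) := by
    intro x _
    rw [Subgroup.mem_centralizer_iff]
    intro z hz
    rw [SetLike.mem_coe, hPMcoe, Subgroup.mem_subgroupOf] at hz
    apply Subtype.ext
    have := Subgroup.mem_center_iff.mp (hZc hz) (x : G)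
    simpa using this.symm
  have hMnpc : HasNormalPComplement p ↥M :=
    Cfsg.Agent.Helper2.hasNormalPComplement_of_normalizer_le_centralizer PM hcent
  exact Cfsg.Agent.Helper2.hasNormalPComplement_of_normal_index_pow M hMn k hMidx hMnpc

end npc

section zj

variable {p : ℕ} [hp : Fact p.Prime]

/-- `Z(J_e(P)) ≠ 1` for a nontrivial `p`-subgroup `P`. -/
theorem centerThompsonOf_ne_bot {X : Type u} [Group X] [Finite X] (P : Subgroup X)
    (hP : IsPGroup p P) (hne : P ≠ ⊥) : centerThompsonOf p P ≠ ⊥ := by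
  rw [← inducedFunctor_zjFunctor]
  exact Cfsg.Agent.Helper33.indF_ne_bot (isCharPFunctor_zjFunctor.{u} p) P hP hne

/-- `Z(J_e(S))` of the whole group is characteristic. -/
theorem centerThompsonOf_top_characteristic {S : Type*} [Group S] (p : ℕ) :
    (centerThompsonOf p (⊤ : Subgroup S)).Characteristic := by
  rw [Subgroup.characteristic_iff_map_eq]
  intro φ
  rw [← centerThompsonOf_map p φ.toMonoidHom ⊤ (fun x _ hx => φ.injective (by
    rw [MulEquiv.coe_toMonoidHom] at hx; rw [hx, map_one]))]
  congr 1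
  rw [← MonoidHom.range_eq_map]
  exact MonoidHom.range_eq_top.mpr φ.surjective

/-- `Z(J_e)` of the image of an embedding. -/
theorem centerThompsonOf_range {S G : Type*} [Group S] [Group G] (p : ℕ) (f : S →* G)
    (hf : Function.Injective f) :
    centerThompsonOf p f.range = (centerThompsonOf p (⊤ : Subgroup S)).map f := by
  rw [← centerThompsonOf_map p f ⊤ (fun x _ hx => hf (by rw [hx, map_one])),
    ← MonoidHom.range_eq_map]

end zj

end Cfsg.Agent.Helper2.TK
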