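import Mathlib
import Cfsg.Agent.Lib.Helper2.ThompsonK1

/-!
# A characteristic subgroup `K(S) ⊇ C_S(K(S))` of a `p`-group `S` (`p` odd) such that a finite
group with Sylow `p`-subgroup `S` has a normal `p`-complement iff `N(K)/C(K)` is a `p`-group

`K(S)` is defined recursively through `Z = Z(J_e(S))`: it is `K(C_S(Z))` when `C_S(Z) < S`, and
the preimage of `K(S/Z)` otherwise.  The proof uses the Glauberman--Thompson theorem for
`Z(J_e(S))` (`glauberman_thompson_zje`), the Frattini argument and Burnside's transfer theorem.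
-/

set_option autoImplicit false
set_option linter.style.haveILetI false
set_option linter.unusedSectionVars false
set_option maxHeartbeats 1000000

namespace Cfsg.Agent.Helper2.TK

open Cfsg Cfsg.Agent.Helper11.ZJ Cfsg.Agent.Helper2.ZJe Cfsg.Agent.Helper23
open scoped Pointwise

universe u

/-- `K` detects normal `p`-complements in all groups with Sylow `p`-subgroup `S`. -/
def Good (p : ℕ) (S : Type u) [Group S] (K : Subgroup S) : Prop :=
  ∀ (G : Type u) [Group G] [Finite G] (f : S →* G), Function.Injective f →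
    ¬ p ∣ f.range.index → Cond p (K.map f) → HasNormalPComplement p G

/-- The same for groups in which `Z(J_e(S))` is normal. -/
def Good₀ (p : ℕ) (S : Type u) [Group S] (K : Subgroup S) : Prop :=
  ∀ (G : Type u) [Group G] [Finite G] (f : S →* G), Function.Injective f →
    ¬ p ∣ f.range.index → ((centerThompsonOf p (⊤ : Subgroup S)).map f).Normal →
    Cond p (K.map f) → HasNormalPComplement p G

variable {p : ℕ} [hp : Fact p.Prime]

theorem isPGroup_range {S G : Type*} [Group S] [Group G] (hS : IsPGroup p S) (f : S →* G) :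
    IsPGroup p f.range :=
  hS.of_surjective f.rangeRestrict f.rangeRestrict_surjective

theorem card_subgroup_lt_of_ne_top' {X : Type*} [Group X] [Finite X] {Y : Subgroup X}
    (hY : Y ≠ ⊤) : Nat.card ↥Y < Nat.card X := by
  have h1 := card_lt_of_lt' (lt_top_iff_ne_top.mpr hY)
  rwa [Subgroup.card_top] at h1

theorem card_quotient_lt_of_ne_bot' {X : Type*} [Group X] [Finite X] {N : Subgroup X}
    [N.Normal] (hN : N ≠ ⊥) : Nat.card (X ⧸ N) < Nat.card X := by
  have h1 : Nat.card X = Nat.card (X ⧸ N) * Nat.card N :=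
    Subgroup.card_eq_card_quotient_mul_card_subgroup N
  have h2 : 1 < Nat.card N := (Subgroup.one_lt_card_iff_ne_bot N).mpr hN
  have h3 : 0 < Nat.card (X ⧸ N) := Nat.card_pos
  rw [h1]
  nlinarith

/-- Reduction to the case `Z(J_e(S)) ⊴ G` by the Glauberman--Thompson theorem. -/
theorem good_of_good₀ (hp2 : p ≠ 2) {S : Type u} [Group S] [Finite S] (hS : IsPGroup p S)
    (K : Subgroup S) (h₀ : Good₀ p S K) : Good p S K := by
  intro G _ _ f hf hidx hcond
  have hRp : IsPGroup p f.range := isPGroup_range hS f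
  set P : Sylow p G := hRp.toSylow hidx with hP
  have hPcoe : (P : Subgroup G) = f.range := IsPGroup.toSylow_coe hRp hidx
  set ZG : Subgroup G := centerThompsonOf p f.range with hZG
  have hZGmap : ZG = (centerThompsonOf p (⊤ : Subgroup S)).map f := centerThompsonOf_range p f hf
  set N : Subgroup G := Subgroup.normalizer (ZG : Set G) with hN
  have hRN : f.range ≤ N :=
    Subgroup.le_normalizer.trans (normalizer_le_normalizer_centerThompsonOf p _)
  have hfN : ∀ s, f s ∈ N := fun s => hRN ⟨s, rfl⟩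
  set f' : S →* ↥N := f.codRestrict N hfN with hf'
  have hf'inj : Function.Injective f' := by
    intro a b hab
    apply hf
    exact congrArg Subtype.val hab
  have hrange : f'.range = f.range.subgroupOf N := by
    ext x
    rw [Subgroup.mem_subgroupOf]
    constructor
    · rintro ⟨s, rfl⟩; exact ⟨s, rfl⟩
    · rintro ⟨s, hs⟩; exact ⟨s, Subtype.ext hs⟩
  have hidx' : ¬ p ∣ f'.range.index := by
    rw [hrange]
    intro hd
    apply hidx
    have h1 : f.range.relIndex N * N.index = f.range.index := Subgroup.relIndex_mul_index hRN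
    rw [← h1]
    exact Dvd.dvd.mul_right hd _
  have hZn' : ((centerThompsonOf p (⊤ : Subgroup S)).map f').Normal := by
    have h1 : (centerThompsonOf p (⊤ : Subgroup S)).map f' = ZG.subgroupOf N := by
      ext x
      rw [Subgroup.mem_subgroupOf, hZGmap]
      constructor
      · rintro ⟨z, hz, rfl⟩; exact ⟨z, hz, rfl⟩
      · rintro ⟨z, hz, hzx⟩; exact ⟨z, hz, Subtype.ext hzx⟩
    rw [h1]
    exact Subgroup.normal_in_normalizer
  have hcond' : Cond p (K.map f') := cond_codRestrict f N hfN K hcond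
  have hNnpc : HasNormalPComplement p ↥N := h₀ ↥N f' hf'inj hidx' hZn' hcond'
  exact glauberman_thompson_zje hp2 P (by rw [hPcoe]; exact hNnpc)

/-- Case `C_S(Z) < S`. -/
theorem good₀_case1 {S : Type u} [Group S] [Finite S] (hS : IsPGroup p S)
    (Z : Subgroup S) (hZ : Z = centerThompsonOf p (⊤ : Subgroup S))
    (S₁ : Subgroup S) (hS₁ : S₁ = Subgroup.centralizer (Z : Set S))
    (K₁ : Subgroup ↥S₁) [hK₁ : K₁.Characteristic]
    (hZK : Z ≤ K₁.map S₁.subtype) (hgood : Good p ↥S₁ K₁) :
    Good₀ p S (K₁.map S₁.subtype) := by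
  intro G _ _ f hf hidx hZn hcond
  rw [← hZ] at hZn
  haveI := hZn
  set ZG : Subgroup G := Z.map f with hZG
  set C : Subgroup G := Subgroup.centralizer (ZG : Set G) with hC
  haveI hCn : C.Normal := inferInstance
  have hRp : IsPGroup p f.range := isPGroup_range hS f
  set T : Sylow p G := hRp.toSylow hidx with hT
  have hTcoe : (T : Subgroup G) = f.range := IsPGroup.toSylow_coe hRp hidx
  set f₁ : ↥S₁ →* G := f.comp S₁.subtype with hf₁
  have hf₁inj : Function.Injective f₁ := hf.comp S₁.subtype_injective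
  have hrange₁ : f₁.range = f.range ⊓ C := by
    ext x
    constructor
    · rintro ⟨s, rfl⟩
      refine ⟨⟨(s : S), rfl⟩, ?_⟩
      show f₁ s ∈ Subgroup.centralizer (ZG : Set G)
      rw [Subgroup.mem_centralizer_iff]
      rintro _ ⟨z, hz, rfl⟩
      have hs2 : (s : S) ∈ Subgroup.centralizer (Z : Set S) := hS₁ ▸ s.2
      have h1 := Subgroup.mem_centralizer_iff.mp hs2 z hz
      show f z * f (s : S) = f (s : S) * f z
      rw [← map_mul, ← map_mul, h1]
    · rintro ⟨⟨s, rfl⟩, hx⟩
      have hs : s ∈ S₁ := by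
        rw [hS₁, Subgroup.mem_centralizer_iff]
        intro z hz
        apply hf
        rw [map_mul, map_mul]
        exact Subgroup.mem_centralizer_iff.mp hx (f z) ⟨z, hz, rfl⟩
      exact ⟨⟨s, hs⟩, rfl⟩
  have hKmap : (K₁.map S₁.subtype).map f = K₁.map f₁ := Subgroup.map_map _ _ _
  have hZGK : ZG ≤ K₁.map f₁ := by rw [← hKmap]; exact Subgroup.map_mono hZK
  -- `G/C` is a `p`-group
  have hquot : IsPGroup p (G ⧸ C) := by
    apply isPGroup_quotient_of_frattini T C
    intro g hg hgo
    rw [hTcoe, ← hrange₁] at hg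
    have h1 := mem_normalizer_map_of_characteristic f₁ hf₁inj K₁ hg
    rw [← hKmap] at h1
    have h2 := hcond g h1 hgo
    rw [hKmap] at h2
    exact Subgroup.centralizer_le hZGK h2
  obtain ⟨j, hj⟩ := exists_index_eq_pow_of_isPGroup_quotient C hquot
  -- `C` has a normal `p`-complement
  have hfC : ∀ s, f₁ s ∈ C := by
    intro s
    have : f₁ s ∈ f₁.range := ⟨s, rfl⟩
    rw [hrange₁] at this
    exact this.2
  set f₁' : ↥S₁ →* ↥C := f₁.codRestrict C hfC with hf₁'
  have hf₁'inj : Function.Injective f₁' := by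
    intro a b hab
    apply hf₁inj
    exact congrArg Subtype.val hab
  have hrange' : f₁'.range = (f.range ⊓ C).subgroupOf C := by
    ext x
    rw [Subgroup.mem_subgroupOf, ← hrange₁]
    constructor
    · rintro ⟨s, rfl⟩; exact ⟨s, rfl⟩
    · rintro ⟨s, hs⟩; exact ⟨s, Subtype.ext hs⟩
  have hidx' : ¬ p ∣ f₁'.range.index := by
    rw [hrange']
    have h1 := not_dvd_relIndex_normal T C
    rw [hTcoe] at h1
    have h2 : ((f.range ⊓ C).subgroupOf C).index = f.range.relIndex C :=
      Subgroup.inf_relIndex_right _ _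
    rw [h2]
    exact h1
  have hcond' : Cond p (K₁.map f₁') :=
    cond_codRestrict f₁ C hfC K₁ (by rw [← hKmap]; exact hcond)
  have hCnpc : HasNormalPComplement p ↥C := hgood ↥C f₁' hf₁'inj hidx' hcond'
  exact Cfsg.Agent.Helper2.hasNormalPComplement_of_normal_index_pow C hCn j hj hCnpc

/-- Case `Z ≤ Z(S)`. -/
theorem good₀_case2 {S : Type u} [Group S] [Finite S] (hS : IsPGroup p S)
    (Z : Subgroup S) [hZchar : Z.Characteristic]
    (hZ : Z = centerThompsonOf p (⊤ : Subgroup S))
    (hZc : Z ≤ Subgroup.center S)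
    (Kb : Subgroup (S ⧸ Z)) [hKb : Kb.Characteristic]
    (hgood : Good p (S ⧸ Z) Kb) :
    Good₀ p S (Kb.comap (QuotientGroup.mk' Z)) := by
  intro G _ _ f hf hidx hZn hcond
  rw [← hZ] at hZn
  haveI := hZn
  set K : Subgroup S := Kb.comap (QuotientGroup.mk' Z) with hK
  haveI hKchar : K.Characteristic := characteristic_comap_mk Z Kb
  have hZK : Z ≤ K := by
    intro z hz
    show QuotientGroup.mk' Z z ∈ Kb
    rw [QuotientGroup.mk'_apply, (QuotientGroup.eq_one_iff z).mpr hz]
    exact Subgroup.one_mem _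
  set ZG : Subgroup G := Z.map f with hZG
  set C : Subgroup G := Subgroup.centralizer (ZG : Set G) with hC
  haveI hCn : C.Normal := inferInstance
  have hRp : IsPGroup p f.range := isPGroup_range hS f
  set T : Sylow p G := hRp.toSylow hidx with hT
  have hTcoe : (T : Subgroup G) = f.range := IsPGroup.toSylow_coe hRp hidx
  have hRC : f.range ≤ C := by
    rintro _ ⟨s, rfl⟩
    rw [Subgroup.mem_centralizer_iff]
    rintro _ ⟨z, hz, rfl⟩
    have h1 := Subgroup.mem_center_iff.mp (hZc hz) s
    rw [← map_mul, ← map_mul, h1]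
  have hquot : IsPGroup p (G ⧸ C) := by
    apply isPGroup_quotient_of_frattini T C
    intro g hg hgo
    rw [hTcoe, inf_eq_left.mpr hRC] at hg
    have h1 := mem_normalizer_map_of_characteristic f hf K hg
    have h2 := hcond g h1 hgo
    exact Subgroup.centralizer_le (Subgroup.map_mono hZK) h2
  obtain ⟨j, hj⟩ := exists_index_eq_pow_of_isPGroup_quotient C hquot
  have hCtop : C = ⊤ := by
    have h1 : C.index ∣ f.range.index := Subgroup.index_dvd_of_le hRC
    rw [hj] at h1
    cases j with
    | zero => exact Subgroup.index_eq_one.mp (by rw [hj, pow_zero])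
    | succ j => exact absurd (dvd_trans (dvd_pow_self p (Nat.succ_ne_zero j)) h1) hidx
  have hZGc : ZG ≤ Subgroup.center G := by
    intro z hz
    rw [Subgroup.mem_center_iff]
    intro g
    have hg : g ∈ C := by rw [hCtop]; trivial
    exact (Subgroup.mem_centralizer_iff.mp hg z hz).symm
  have hZGp : IsPGroup p ZG := (hS.to_subgroup Z).map f
  -- the quotient
  set π := QuotientGroup.mk' ZG with hπ
  have hle : Z ≤ ZG.comap f := fun z hz => ⟨z, hz, rfl⟩
  set fb : S ⧸ Z →* G ⧸ ZG := QuotientGroup.map Z ZG f hle with hfb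
  have hfbmk : ∀ s, fb (QuotientGroup.mk' Z s) = π (f s) := fun s => rfl
  have hfbinj : Function.Injective fb := by
    rw [injective_iff_map_eq_one]
    intro x hx
    obtain ⟨s, rfl⟩ := QuotientGroup.mk'_surjective Z x
    rw [hfbmk, hπ, QuotientGroup.mk'_apply, QuotientGroup.eq_one_iff] at hx
    obtain ⟨z, hz, hzs⟩ := hx
    rw [← hf hzs, QuotientGroup.mk'_apply, QuotientGroup.eq_one_iff]
    exact hz
  have hfbrange : fb.range = f.range.map π := by
    ext x
    constructor
    · rintro ⟨y, rfl⟩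
      obtain ⟨s, rfl⟩ := QuotientGroup.mk'_surjective Z y
      exact ⟨f s, ⟨s, rfl⟩, (hfbmk s).symm⟩
    · rintro ⟨_, ⟨s, rfl⟩, rfl⟩
      exact ⟨QuotientGroup.mk' Z s, hfbmk s⟩
  have hZGR : ZG ≤ f.range := by
    rintro _ ⟨z, _, rfl⟩
    exact ⟨z, rfl⟩
  have hfbidx : ¬ p ∣ fb.range.index := by
    rw [hfbrange, Subgroup.index_map_eq _ (QuotientGroup.mk'_surjective ZG)
      (by rw [QuotientGroup.ker_mk']; exact hZGR)]
    exact hidx
  have hKbmap : Kb.map fb = (K.map f).map π := by
    have h1 : K.map (QuotientGroup.mk' Z) = Kb :=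
      Subgroup.map_comap_eq_self_of_surjective (QuotientGroup.mk'_surjective Z) Kb
    rw [← h1, Subgroup.map_map, Subgroup.map_map]
    rfl
  have hcondb : Cond p (Kb.map fb) := by
    intro gb hgb hgbo
    obtain ⟨g, rfl⟩ := QuotientGroup.mk'_surjective ZG gb
    set Q : Subgroup G := K.map f with hQ
    have hZQ : ZG ≤ Q := Subgroup.map_mono hZK
    have hcomap : (Q.map π).comap π = Q := by
      rw [Subgroup.comap_map_eq, hπ, QuotientGroup.ker_mk', sup_eq_left.mpr hZQ]
    have hgN : g ∈ Subgroup.normalizer (Q : Set G) := by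
      rw [← hcomap, Cfsg.Agent.Helper46.mem_normalizer_comap_mk, ← hKbmap]
      exact hgb
    obtain ⟨k, hk⟩ := Cfsg.Agent.Helper46.exists_pow_coprime (p := p) g
    have h2 := hcond _ (Subgroup.pow_mem _ hgN _) hk
    have h3 : π (g ^ p ^ k) ∈ Subgroup.centralizer ((Q.map π : Subgroup (G ⧸ ZG)) : Set (G ⧸ ZG)) :=
      map_centralizer_le π Q ⟨_, h2, rfl⟩
    have hco : (orderOf (π g)).Coprime (p ^ k) := Nat.Coprime.pow_right k hgbo
    obtain ⟨m, hm⟩ := exists_pow_eq_self_of_coprime hco.symm
    rw [hKbmap, ← hm, ← map_pow]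
    exact Subgroup.pow_mem _ h3 m
  have hquotnpc : HasNormalPComplement p (G ⧸ ZG) := hgood (G ⧸ ZG) fb hfbinj hfbidx hcondb
  exact hasNPC_of_quotient_central ZG hZGp hZGc hquotnpc

/-- Existence of the characteristic subgroup `K(S)`. -/
theorem exists_K (hp2 : p ≠ 2) : ∀ (n : ℕ) (S : Type u) [Group S] [Finite S], IsPGroup p S →
    Nat.card S = n →
    ∃ K : Subgroup S, K.Characteristic ∧ Subgroup.centralizer (K : Set S) ≤ K ∧ Good p S K := by
  intro n
  induction n using Nat.strong_induction_on with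
  | _ n ih =>
  intro S _ _ hS hcard
  set Z : Subgroup S := centerThompsonOf p (⊤ : Subgroup S) with hZ
  haveI hZchar : Z.Characteristic := centerThompsonOf_top_characteristic p
  haveI hZnorm : Z.Normal := Subgroup.normal_of_characteristic Z
  by_cases hZbot : Z = ⊥
  · -- `S` is trivial
    have hStriv : (⊤ : Subgroup S) = ⊥ := by
      by_contra hne
      exact centerThompsonOf_ne_bot ⊤ (hS.to_subgroup ⊤) hne hZbot
    refine ⟨⊤, inferInstance, le_top, ?_⟩
    intro G _ _ f hf hidx hcond
    have hr : f.range = ⊥ := by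
      rw [MonoidHom.range_eq_map, hStriv, Subgroup.map_bot]
    rw [hr, Subgroup.index_bot] at hidx
    exact hasNPC_of_coprime_card ((Nat.Prime.coprime_iff_not_dvd hp.out).mpr hidx).symm
  · have hZS : Z ≤ Subgroup.centralizer (Z : Set S) := by
      intro z hz
      rw [Subgroup.mem_centralizer_iff]
      intro y hy
      exact centerThompsonOf_comm _ hy hz
    set S₁ : Subgroup S := Subgroup.centralizer (Z : Set S) with hS₁
    by_cases hS₁top : S₁ = ⊤
    · -- case 2
      have hZc : Z ≤ Subgroup.center S := by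
        intro z hz
        rw [Subgroup.mem_center_iff]
        intro g
        have hg : g ∈ S₁ := by rw [hS₁top]; trivial
        exact (Subgroup.mem_centralizer_iff.mp hg z hz).symm
      have hlt : Nat.card (S ⧸ Z) < n :=
        hcard ▸ card_quotient_lt_of_ne_bot' hZbot
      obtain ⟨Kb, hKbc, hKbcent, hKbgood⟩ := ih _ hlt (S ⧸ Z) (hS.to_quotient Z) rfl
      haveI := hKbc
      refine ⟨Kb.comap (QuotientGroup.mk' Z), characteristic_comap_mk Z Kb, ?_,
        good_of_good₀ hp2 hS _ (good₀_case2 hS Z hZ hZc Kb hKbgood)⟩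
      intro x hx
      show QuotientGroup.mk' Z x ∈ Kb
      apply hKbcent
      rw [Subgroup.mem_centralizer_iff]
      intro yb hyb
      obtain ⟨y, rfl⟩ := QuotientGroup.mk'_surjective Z yb
      have hy : y ∈ Kb.comap (QuotientGroup.mk' Z) := hyb
      have h1 := Subgroup.mem_centralizer_iff.mp hx y hy
      rw [← map_mul, ← map_mul, h1]
    · -- case 1
      have hlt : Nat.card ↥S₁ < n :=
        hcard ▸ card_subgroup_lt_of_ne_top' hS₁top
      obtain ⟨K₁, hK₁c, hK₁cent, hK₁good⟩ := ih _ hlt ↥S₁ (hS.to_subgroup S₁) rfl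
      haveI := hK₁c
      have hZK : Z ≤ K₁.map S₁.subtype := by
        intro z hz
        have hzS₁ : z ∈ S₁ := hZS hz
        refine ⟨⟨z, hzS₁⟩, ?_, rfl⟩
        apply hK₁cent
        rw [Subgroup.mem_centralizer_iff]
        intro y _
        apply Subtype.ext
        exact (Subgroup.mem_centralizer_iff.mp y.2 z hz).symm
      refine ⟨K₁.map S₁.subtype, characteristic_map_subtype S₁ K₁, ?_,
        good_of_good₀ hp2 hS _ (good₀_case1 hS Z hZ S₁ hS₁ K₁ hZK hK₁good)⟩
      intro x hx
      have hxS₁ : x ∈ S₁ := Subgroup.centralizer_le hZK hx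
      refine ⟨⟨x, hxS₁⟩, ?_, rfl⟩
      apply hK₁cent
      rw [Subgroup.mem_centralizer_iff]
      intro y hy
      apply Subtype.ext
      exact Subgroup.mem_centralizer_iff.mp hx (y : S) ⟨y, hy, rfl⟩

end Cfsg.Agent.Helper2.TK
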