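import Mathlib
import Cfsg.Agent.Lib.Helper2.ZJe4
import Cfsg.Agent.Lib.Helper2.ZJe5
import Cfsg.Agent.Lib.Helper2.FunctorControl2
import Cfsg.Agent.Lib.Helper46.Qd
import Cfsg.Agent.Lib.Helper11.QP8
import Cfsg.Agent.Lib.Helper11.DLA2

/-!
# Glauberman: in a `Qd(p)`-free group (`p` odd), `N_G(Z(J_e(P)))` controls strong fusion in the
Sylow `p`-subgroup `P` (full centre of the Thompson subgroup generated by the elementary abelian
subgroups of largest order).
-/

set_option autoImplicit false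
set_option linter.style.haveILetI false

namespace Cfsg.Agent.Helper2.ZJe

open Cfsg Cfsg.Agent.Helper11.ZJ Cfsg.Agent.Helper2.FC

universe u

/-- `Z(J_e(S))` is normal in groups of characteristic `p` that are `p`-stable on their normal
`p`-subgroups (`p` odd). -/
theorem normalInCharP_zjFunctor (p : ℕ) [Fact p.Prime] (hp : p ≠ 2) :
    NormalInCharP.{u} p (zjFunctor.{u} p) := by
  intro Y _ _ hc T hst
  rw [inducedFunctor_zjFunctor]
  exact centerThompsonOf_normal_gen hp hc T hst

/-- A group involving `Qd(p)` involves `SL₂(p)`. -/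
theorem involves_sl2_of_involves_qd {G : Type u} [Group G] {p : ℕ} [Fact p.Prime]
    (h : Involves ↥(Cfsg.qd p) G) :
    Involves (Matrix.SpecialLinearGroup (Fin 2) (ZMod p)) G := by
  have h1 : Involves (Matrix.SpecialLinearGroup (Fin 2) (ZMod p)) ↥(Cfsg.qdOver (ZMod p)) :=
    Cfsg.Agent.Helper46.involves_of_surjective_top (Cfsg.Agent.Helper46.qdπ (ZMod p))
      Cfsg.Agent.Helper46.qdπ_surjective
  have h2 : Involves ↥(Cfsg.qdOver (ZMod p)) G := h
  exact Cfsg.Agent.Helper46.involves_trans h1 h2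

/-- In a `Qd(p)`-free group (`p` odd), `N_G(Z(J_e(R)))` controls strong fusion in every Sylow
`p`-subgroup `R`. -/
theorem control_centerThompsonOf_of_qdFree {G : Type u} [Group G] [Finite G] {p : ℕ}
    [Fact p.Prime] (hp : p ≠ 2) (hfree : ¬ Involves ↥(Cfsg.qd p) G) (R : Sylow p G) (A : Set G)
    (h : G) (hA : A ⊆ (R : Subgroup G)) (hAh : ∀ a ∈ A, h * a * h⁻¹ ∈ (R : Subgroup G)) :
    ∃ x ∈ Subgroup.normalizer ((centerThompsonOf p (R : Subgroup G) : Subgroup G) : Set G),
      ∀ a ∈ A, x * a * x⁻¹ = h * a * h⁻¹ := by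
  have hDL := Cfsg.Agent.Helper11.QP.dlHyp p hp
  have key := general_control.{u} (isCharPFunctor_zjFunctor.{u} p) (normalInCharP_zjFunctor p hp)
    (fun Y _ _ hY => Cfsg.Agent.Helper11.QP.isNormalizerPStable_of_qdFree hDL hp hY)
    (Nat.card G) G rfl hfree R A h hA hAh
  rw [inducedFunctor_zjFunctor] at key
  exact key

end Cfsg.Agent.Helper2.ZJe
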